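import Mathlib

/-!
Marggraf: a doubly transitive group with a transitive pointwise fixing subgroup on a set of at most half the
points has primitive point stabilisers; consequently a primitive group with such a set is triply transitive.
-/

set_option autoImplicit false

namespace CfsgLib.OrderDegrees

open MulAction Finset
open scoped Pointwise

variable {G Ω : Type*} [Group G] [MulAction G Ω]

/-- Counting lemma: a small Jordan set excludes nontrivial blocks of a point stabiliser. -/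
theorem false_of_block_of_jordan [Fintype Ω] [DecidableEq Ω] (h2 : IsMultiplyPretransitive G Ω 2)
    (Γ : Finset Ω) (h1 : 1 < Γ.card) (hn : 2 * Γ.card ≤ Fintype.card Ω)
    (hK : ∀ x ∈ Γ, ∀ y ∈ Γ, ∃ g : G, (∀ z ∉ Γ, g • z = z) ∧ g • x = y)
    (a b₀ c₀ z₀ : Ω) (B : Finset Ω) (haB : a ∉ B) (hb : b₀ ∈ B) (hc : c₀ ∈ B) (hbc : b₀ ≠ c₀)
    (hza : z₀ ≠ a) (hzB : z₀ ∉ B)
    (hblock : ∀ h : G, h • a = a → ∀ z ∈ B, h • z ∈ B → B.image (h • ·) = B) : False := by
  classical
  have h2' : ∀ {a b c d : Ω}, a ≠ b → c ≠ d → ∃ g : G, g • a = c ∧ g • b = d := (is_two_pretransitive_iff).1 h2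
  have hmv : ∀ p x : Ω, p ≠ x → ∃ g : G, g • a = p ∧ g • b₀ = x :=
    fun p x h => h2' (fun e : a = b₀ => haB (e ▸ hb)) h
  let R : Ω → Ω → Ω → Prop := fun p x y => ∃ g : G, g • a = p ∧ g • b₀ = x ∧ y ∈ B.image (g • ·)
  -- a class is given by any element carrying `(a, b₀)` to `(p, x)`
  have hcls : ∀ (p x y : Ω) (g : G), g • a = p → g • b₀ = x → (R p x y ↔ y ∈ B.image (g • ·)) := by
    intro p x y g hg1 hg2
    refine ⟨?_, fun h => ⟨g, hg1, hg2, h⟩⟩
    rintro ⟨g', h1', h2'', hy⟩
    obtain ⟨w, hw, rfl⟩ := Finset.mem_image.1 hy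
    have hh := hblock (g⁻¹ * g') (by rw [mul_smul, h1', ← hg1, inv_smul_smul]) b₀ hb
      (by rw [mul_smul, h2'', ← hg2, inv_smul_smul]; exact hb)
    have : (g⁻¹ * g') • w ∈ B := hh ▸ Finset.mem_image_of_mem _ hw
    exact Finset.mem_image.2 ⟨_, this, by rw [← mul_smul, mul_inv_cancel_left]⟩
  have heq : ∀ (f : G) (p x y : Ω), R p x y → R (f • p) (f • x) (f • y) := by
    rintro f p x y ⟨g, h1', h2'', hy⟩
    obtain ⟨w, hw, rfl⟩ := Finset.mem_image.1 hy
    exact ⟨f * g, by rw [mul_smul, h1'], by rw [mul_smul, h2''], Finset.mem_image.2 ⟨w, hw, mul_smul f g w⟩⟩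
  have hne : ∀ p x y, R p x y → p ≠ x ∧ y ≠ p := by
    rintro p x y ⟨g, rfl, rfl, hy⟩
    obtain ⟨w, hw, rfl⟩ := Finset.mem_image.1 hy
    exact ⟨fun e => haB (by rwa [smul_left_cancel g e]), fun e => haB (smul_left_cancel g e ▸ hw)⟩
  have hself : ∀ p x, p ≠ x → R p x x := fun p x h => by
    obtain ⟨g, hg1, hg2⟩ := hmv p x h
    exact ⟨g, hg1, hg2, Finset.mem_image.2 ⟨b₀, hb, hg2⟩⟩
  set k := B.card with hk
  have hk2 : 2 ≤ k := Finset.one_lt_card.2 ⟨b₀, hb, c₀, hc, hbc⟩
  have hrow : ∀ p x, p ≠ x → (univ.filter fun y => y ≠ x ∧ R p x y).card = k - 1 := by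
    intro p x h
    obtain ⟨g, hg1, hg2⟩ := hmv p x h
    have : (univ.filter fun y => y ≠ x ∧ R p x y) = (B.image (g • ·)).erase x := by
      ext y
      simp only [mem_filter, mem_univ, true_and, mem_erase]
      exact and_congr Iff.rfl (hcls p x y g hg1 hg2)
    rw [this, card_erase_of_mem (Finset.mem_image.2 ⟨b₀, hb, hg2⟩),
      card_image_of_injective _ (MulAction.injective g)]
  -- every ordered pair of points occurs in the same number of classes
  have hcol : ∀ x y, x ≠ y → (univ.filter fun p => R p x y).card = k - 1 := by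
    intro x y hxy
    have hconst : ∀ y', x ≠ y' → (univ.filter fun p => R p x y').card = (univ.filter fun p => R p x y).card := by
      intro y' hy'
      obtain ⟨f, hfx, hfy⟩ := h2' hxy hy'
      refine (Finset.card_bij (fun p _ => f • p) (fun p hp => ?_) (fun p _ q _ e => smul_left_cancel f e)
        (fun q hq => ⟨f⁻¹ • q, ?_, smul_inv_smul f q⟩)).symm
      · simp only [mem_filter, mem_univ, true_and] at hp ⊢
        have := heq f p x y hp
        rwa [hfx, hfy] at this
      · simp only [mem_filter, mem_univ, true_and] at hq ⊢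
        have := heq f⁻¹ q x y' hq
        rwa [← hfx, ← hfy, inv_smul_smul, inv_smul_smul] at this
    have hsum := Finset.sum_card_bipartiteAbove_eq_sum_card_bipartiteBelow (r := fun p y' => R p x y')
      (s := univ.erase x) (t := univ.erase x)
    rw [Finset.sum_eq_card_nsmul (b := k - 1) (fun p hp => by
        rw [← hrow p x (ne_of_mem_erase hp)]
        congr 1
        ext y'
        simp [Finset.mem_bipartiteAbove]),
      Finset.sum_eq_card_nsmul (b := (univ.filter fun p => R p x y).card) (fun y' hy' => by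
        rw [← hconst y' (ne_of_mem_erase hy').symm]
        congr 1
        ext p
        simp only [Finset.mem_bipartiteBelow, mem_filter, mem_erase, mem_univ, true_and, and_true]
        exact ⟨fun h => h.2, fun h => ⟨(hne p x y' h).1, h⟩⟩)] at hsum
    have hpos : 0 < (univ.erase x).card := Finset.card_pos.2 ⟨y, mem_erase.2 ⟨hxy.symm, mem_univ _⟩⟩
    simp only [smul_eq_mul] at hsum
    exact (Nat.eq_of_mul_eq_mul_left hpos hsum).symm
  -- two disjoint translates of the block avoid `a`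
  have hkn : 2 * k + 1 ≤ Fintype.card Ω := by
    obtain ⟨f, hfa, hfb⟩ := h2' (fun e : a = b₀ => haB (e ▸ hb)) hza.symm
    have hdis : Disjoint B (B.image (f • ·)) := by
      rw [Finset.disjoint_left]
      intro w hw hw'
      obtain ⟨u, hu, rfl⟩ := Finset.mem_image.1 hw'
      have := hblock f hfa u hu hw
      exact hzB (this ▸ Finset.mem_image.2 ⟨b₀, hb, hfb⟩)
    have ha' : a ∉ B ∪ B.image (f • ·) := by
      simp only [mem_union, Finset.mem_image, not_or, not_exists, not_and]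
      exact ⟨haB, fun u hu e => haB (smul_left_cancel f (e.trans hfa.symm) ▸ hu)⟩
    have := Finset.card_lt_card ((Finset.ssubset_univ_iff (s := B ∪ B.image (f • ·))).2 fun e => ha' (by rw [e]; exact mem_univ a))
    rw [card_union_of_disjoint hdis, card_image_of_injective _ (MulAction.injective f), card_univ] at this
    omega
  -- count inside and outside the Jordan set
  obtain ⟨x, hx⟩ := Finset.card_pos.1 (zero_lt_one.trans h1)
  have hsum := Finset.sum_card_bipartiteAbove_eq_sum_card_bipartiteBelow (r := fun p y => R p x y)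
    (s := Γᶜ) (t := Γ.erase x)
  have hlow : ∀ p ∈ Γᶜ, min (k - 1) (Γ.card - 1) ≤ ((Γ.erase x).bipartiteAbove (fun p y => R p x y) p).card := by
    intro p hp
    rw [mem_compl] at hp
    have hpx : p ≠ x := fun e => hp (e ▸ hx)
    by_cases hsub : ∀ y, R p x y → y ∈ Γ
    · refine (min_le_left _ _).trans ((hrow p x hpx).ge.trans (Finset.card_le_card fun y hy => ?_))
      simp only [mem_filter, mem_univ, true_and] at hy
      simp [Finset.mem_bipartiteAbove, hy, hsub y hy.2]
    · push Not at hsub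
      obtain ⟨z, hzR, hzΓ⟩ := hsub
      refine (min_le_right _ _).trans (le_of_eq_of_le (card_erase_of_mem hx).symm
        (Finset.card_le_card fun y hy => ?_))
      rw [Finset.mem_bipartiteAbove]
      refine ⟨hy, ?_⟩
      obtain ⟨h, hfix, hxy⟩ := hK x hx y (mem_of_mem_erase hy)
      obtain ⟨g, hg1, hg2⟩ := hmv p x hpx
      have hz := heq h p x z hzR
      rw [hfix p hp, hxy, hfix z hzΓ] at hz
      -- the classes of `x` and `y` share `z`
      have hz0 := (hcls p x z g hg1 hg2).1 hzR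
      obtain ⟨g', hg1', hg2', hz1⟩ := hz
      obtain ⟨u, hu, hu'⟩ := Finset.mem_image.1 hz0
      obtain ⟨w, hw, hw'⟩ := Finset.mem_image.1 hz1
      have hh := hblock (g⁻¹ * g') (by rw [mul_smul, hg1', ← hg1, inv_smul_smul]) w hw
        (by rw [mul_smul, hw', ← hu', inv_smul_smul]; exact hu)
      refine (hcls p x y g hg1 hg2).2 (Finset.mem_image.2 ⟨(g⁻¹ * g') • b₀, ?_, ?_⟩)
      · exact hh ▸ Finset.mem_image_of_mem _ hb
      · rw [← mul_smul, mul_inv_cancel_left, hg2']
  have hup : ∀ y ∈ Γ.erase x, ((Γᶜ).bipartiteBelow (fun p y => R p x y) y).card ≤ k - 1 := by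
    intro y hy
    rw [← hcol x y (ne_of_mem_erase hy).symm]
    exact Finset.card_le_card fun p hp => by
      simp only [Finset.mem_bipartiteBelow] at hp
      simp [hp.2]
  have hA := Finset.card_nsmul_le_sum _ _ _ hlow
  have hB := Finset.sum_le_card_nsmul _ _ _ hup
  rw [hsum] at hA
  have hcount := hA.trans hB
  rw [smul_eq_mul, smul_eq_mul, card_compl, card_erase_of_mem hx] at hcount
  rcases le_total (k - 1) (Γ.card - 1) with hle | hle
  · rw [min_eq_left hle] at hcount
    have := Nat.le_of_mul_le_mul_right hcount (by omega)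
    omega
  · rw [min_eq_right hle, mul_comm] at hcount
    have := Nat.le_of_mul_le_mul_left hcount (by omega)
    omega

/-- A doubly transitive group with a small Jordan set is doubly primitive. -/
theorem isPreprimitive_stabilizer_of_jordan [Finite Ω] (h2 : IsMultiplyPretransitive G Ω 2)
    (Γ : Set Ω) (h1 : 1 < Γ.ncard) (hn : 2 * Γ.ncard ≤ Nat.card Ω)
    (hK : ∀ x ∈ Γ, ∀ y ∈ Γ, ∃ g : G, (∀ z ∉ Γ, g • z = z) ∧ g • x = y) (a : Ω) :
    IsPreprimitive (stabilizer G a) (SubMulAction.ofStabilizer G a) := by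
  classical
  have := Fintype.ofFinite Ω
  have h2' : ∀ {a b c d : Ω}, a ≠ b → c ≠ d → ∃ g : G, g • a = c ∧ g • b = d := (is_two_pretransitive_iff).1 h2
  have htr : IsPretransitive (stabilizer G a) (SubMulAction.ofStabilizer G a) := by
    refine ⟨fun x y => ?_⟩
    obtain ⟨g, hga, hgx⟩ := h2' (Ne.symm x.2) (Ne.symm y.2)
    exact ⟨⟨g, hga⟩, Subtype.ext hgx⟩
  obtain ⟨b, hb⟩ : ∃ b : Ω, b ≠ a := by
    have : 1 < Fintype.card Ω := by rw [← Nat.card_eq_fintype_card]; omega
    exact Fintype.exists_ne_of_one_lt_card this a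
  refine IsPreprimitive.of_isTrivialBlock_base (⟨b, hb⟩ : SubMulAction.ofStabilizer G a) fun {B} hbB hB => ?_
  by_contra hcon
  obtain ⟨hnsub, hnuniv⟩ := not_or.1 hcon
  obtain ⟨c, hcB, hcb⟩ : ∃ c ∈ B, c ≠ (⟨b, hb⟩ : SubMulAction.ofStabilizer G a) := by
    by_contra h
    push Not at h
    exact hnsub fun u hu v hv => (h u hu).trans (h v hv).symm
  obtain ⟨z, hz⟩ := (Set.ne_univ_iff_exists_notMem B).1 hnuniv
  refine false_of_block_of_jordan h2 Γ.toFinset (by rwa [← Set.ncard_eq_toFinset_card'])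
    (by rwa [← Set.ncard_eq_toFinset_card', ← Nat.card_eq_fintype_card])
    (fun x hx y hy => by
      obtain ⟨g, hg, hgxy⟩ := hK x (by simpa using hx) y (by simpa using hy)
      exact ⟨g, fun w hw => hg w (by simpa using hw), hgxy⟩)
    a b c z (Set.toFinset (Subtype.val '' B))
    (by simp only [Set.mem_toFinset]; rintro ⟨w, -, hw⟩; exact w.2 hw)
    (Set.mem_toFinset.2 ⟨⟨b, hb⟩, hbB, rfl⟩) (Set.mem_toFinset.2 ⟨c, hcB, rfl⟩) (fun e => hcb (Subtype.ext e.symm)) z.2
    (by simp only [Set.mem_toFinset]; rintro ⟨w, hw, e⟩; exact hz (Subtype.ext e ▸ hw)) ?_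
  intro h hha w hw hhw
  simp only [Set.mem_toFinset] at hw hhw
  obtain ⟨u, hu, rfl⟩ := hw
  obtain ⟨v, hv, hvw⟩ := hhw
  have heq : (⟨h, hha⟩ : stabilizer G a) • B = B := by
    refine (hB.smul_eq_of_nonempty ⟨v, ⟨u, hu, Subtype.ext hvw.symm⟩, hv⟩)
  rw [← Finset.coe_inj, Finset.coe_image, Set.coe_toFinset, Set.image_image]
  conv_rhs => rw [← heq]
  rw [← Set.image_smul, Set.image_image]
  rfl

/-- Marggraf: primitive with a Jordan set of at most half the points is triply transitive. -/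
theorem isMultiplyPretransitive_three_of_jordan [Finite Ω] (hprim : IsPreprimitive G Ω)
    (Γ : Set Ω) (h1 : 1 < Γ.ncard) (hn : 2 * Γ.ncard ≤ Nat.card Ω)
    (hK : ∀ x ∈ Γ, ∀ y ∈ Γ, ∃ g : G, (∀ z ∉ Γ, g • z = z) ∧ g • x = y) :
    IsMultiplyPretransitive G Ω 3 := by
  classical
  have hΓc : Γᶜ.ncard = Nat.card Ω - Γ.ncard := Set.ncard_compl Γ
  have htrans : IsPretransitive (fixingSubgroup G Γᶜ) (SubMulAction.ofFixingSubgroup G Γᶜ) := by
    refine ⟨fun x y => ?_⟩
    have hx : (x : Ω) ∈ Γ := not_not.1 x.2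
    have hy : (y : Ω) ∈ Γ := not_not.1 y.2
    obtain ⟨g, hg, hgxy⟩ := hK x hx y hy
    exact ⟨⟨g, (mem_fixingSubgroup_iff _).2 fun w hw => hg w hw⟩, Subtype.ext hgxy⟩
  have h2 : IsMultiplyPretransitive G Ω 2 :=
    hprim.is_two_pretransitive (s := Γᶜ) (n := Nat.card Ω - Γ.ncard - 1) (by omega) (by omega) htrans
  obtain ⟨a, ha⟩ : Γᶜ.Nonempty := by
    rw [← Set.ncard_pos]; omega
  have hpa := isPreprimitive_stabilizer_of_jordan h2 Γ h1 hn hK a
  have : IsPretransitive G Ω := hprim.toIsPretransitive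
  rw [show (3 : ℕ) = Nat.succ 2 from rfl, SubMulAction.ofStabilizer.isMultiplyPretransitive (a := a)]
  set s : Set (SubMulAction.ofStabilizer G a) := {w | (w : Ω) ∉ Γ} with hs
  have himg : Subtype.val '' s = Γᶜ \ {a} := by
    ext w
    constructor
    · rintro ⟨u, hu, rfl⟩; exact ⟨hu, u.2⟩
    · rintro ⟨hw, hwa⟩; exact ⟨⟨w, hwa⟩, hw, rfl⟩
  have hscard : s.ncard = Nat.card Ω - Γ.ncard - 1 := by
    rw [← Set.ncard_image_of_injective s Subtype.val_injective, himg,
      Set.ncard_sdiff_singleton_of_mem ha, hΓc]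
  have hsa : Nat.card (SubMulAction.ofStabilizer G a) = Nat.card Ω - 1 := by
    rw [← Set.ncard_singleton a, ← Set.ncard_compl, ← Nat.card_coe_set_eq]
    rfl
  refine hpa.is_two_pretransitive (s := s) (n := Nat.card Ω - Γ.ncard - 2) (by omega) (by omega) ⟨fun x y => ?_⟩
  have hx : ((x : SubMulAction.ofStabilizer G a) : Ω) ∈ Γ := not_not.1 x.2
  have hy : ((y : SubMulAction.ofStabilizer G a) : Ω) ∈ Γ := not_not.1 y.2
  obtain ⟨g, hg, hgxy⟩ := hK _ hx _ hy
  exact ⟨⟨⟨g, hg a ha⟩, (mem_fixingSubgroup_iff _).2 fun w hw => Subtype.ext (hg w hw)⟩,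
    Subtype.ext (Subtype.ext hgxy)⟩

end CfsgLib.OrderDegrees
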