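import Mathlib

/-!
SL2 in characteristic 2 on its natural module; PSL2 in characteristic 2.
-/

set_option autoImplicit false

namespace CfsgLib.OrderDegrees

open Matrix

variable {F : Type*} [Field F]

theorem sl2_sq (A : Matrix.SpecialLinearGroup (Fin 2) F) :
    (A : Matrix (Fin 2) (Fin 2) F) * (A : Matrix (Fin 2) (Fin 2) F) =
      ((A : Matrix (Fin 2) (Fin 2) F) 0 0 + (A : Matrix (Fin 2) (Fin 2) F) 1 1) • (A : Matrix (Fin 2) (Fin 2) F) - 1 := by
  have hd : (A : Matrix (Fin 2) (Fin 2) F).det = 1 := A.2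
  rw [Matrix.det_fin_two] at hd
  ext i j
  fin_cases i <;> fin_cases j <;> simp [Matrix.mul_apply, Fin.sum_univ_two] <;>
    first | linear_combination -hd | ring

theorem sl2_sq_eq_one_of_fixed [CharP F 2] (A : Matrix.SpecialLinearGroup (Fin 2) F) {v : Fin 2 → F}
    (hv : v ≠ 0) (hfix : (A : Matrix (Fin 2) (Fin 2) F) *ᵥ v = v) : A ^ 2 = 1 := by
  have h2 : (2 : F) = 0 := CharP.cast_eq_zero F 2
  set t := (A : Matrix (Fin 2) (Fin 2) F) 0 0 + (A : Matrix (Fin 2) (Fin 2) F) 1 1 with ht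
  have h1 := congrArg (· *ᵥ v) (sl2_sq A)
  simp only [← Matrix.mulVec_mulVec, hfix, Matrix.sub_mulVec, Matrix.smul_mulVec, Matrix.one_mulVec,
    ← ht] at h1
  have h3 : t • v = 0 := by
    funext i
    have := congrFun h1 i
    simp at this ⊢
    have h' : t * v i = 0 := by linear_combination -this + v i * h2
    exact mul_eq_zero.mp h'
  have ht0 : t = 0 := (smul_eq_zero.mp h3).resolve_right hv
  apply Subtype.ext
  rw [Matrix.SpecialLinearGroup.coe_pow, pow_two, sl2_sq A, ← ht, ht0, zero_smul, zero_sub]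
  have hm1 : (-1 : F) = 1 := by linear_combination -h2
  ext i j
  fin_cases i <;> fin_cases j <;> simp [hm1]

theorem center_sl2_eq_bot_of_char_two [CharP F 2] :
    Subgroup.center (Matrix.SpecialLinearGroup (Fin 2) F) = ⊥ := by
  rw [eq_bot_iff]
  intro A hA
  obtain ⟨r, hr, hs⟩ := Matrix.SpecialLinearGroup.mem_center_iff.mp hA
  rw [Subgroup.mem_bot]
  apply Subtype.ext
  rw [Fintype.card_fin] at hr
  have h2 : (2 : F) = 0 := CharP.cast_eq_zero F 2
  have h0 : (r - 1) ^ 2 = 0 := by linear_combination hr + (1 - r) * h2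
  have hr1 : r = 1 := sub_eq_zero.mp ((pow_eq_zero_iff two_ne_zero).mp h0)
  rw [← hs, hr1, map_one]
  rfl

/-- PSL2 = SL2 in characteristic 2. -/
noncomputable def psl2EquivSL2 (F : Type*) [Field F] [CharP F 2] :
    Matrix.ProjectiveSpecialLinearGroup (Fin 2) F ≃* Matrix.SpecialLinearGroup (Fin 2) F :=
  (QuotientGroup.quotientMulEquivOfEq center_sl2_eq_bot_of_char_two).trans QuotientGroup.quotientBot

theorem exists_involution_sl2 [CharP F 2] :
    ∃ A : Matrix.SpecialLinearGroup (Fin 2) F, orderOf A = 2 := by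
  have h2 : (2 : F) = 0 := CharP.cast_eq_zero F 2
  let U : Matrix.SpecialLinearGroup (Fin 2) F := ⟨!![1, 1; 0, 1], by simp [Matrix.det_fin_two]⟩
  have hU : (U : Matrix (Fin 2) (Fin 2) F) = !![1, 1; 0, 1] := rfl
  refine ⟨U, orderOf_eq_prime ?_ ?_⟩
  · rw [pow_two]
    apply Subtype.ext
    rw [Matrix.SpecialLinearGroup.coe_mul, hU]
    have h11 : (1 : F) + 1 = 0 := by linear_combination h2
    ext i j
    fin_cases i <;> fin_cases j <;> simp [Matrix.mul_apply, Fin.sum_univ_two, h11]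
  · intro h
    have := congrArg (fun A : Matrix.SpecialLinearGroup (Fin 2) F => (A : Matrix (Fin 2) (Fin 2) F) 0 1) h
    rw [hU] at this
    simp at this

end CfsgLib.OrderDegrees
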