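import Mathlib

/-!
Two permutations whose supports meet in a single point have a 3-cycle as commutator.
-/

set_option autoImplicit false

namespace CfsgLib.OrderDegrees

open Equiv Equiv.Perm

theorem isThreeCycle_commutator_of_moved_inter {α : Type*} [Fintype α] [DecidableEq α]
    (g h : Perm α) (x : α) (hgx : g x ≠ x) (hhx : h x ≠ x)
    (hinter : ∀ y, g y ≠ y → h y ≠ y → y = x) : (g * h * g⁻¹ * h⁻¹).IsThreeCycle := by
  have gfix : ∀ y, h y ≠ y → y ≠ x → g y = y := fun y hy hyx => by
    by_contra hc; exact hyx (hinter y hc hy)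
  have hfix : ∀ y, g y ≠ y → y ≠ x → h y = y := fun y hy hyx => by
    by_contra hc; exact hyx (hinter y hy hc)
  have ha : g (g x) ≠ g x := fun e => hgx (g.injective e)
  have hb : h (h x) ≠ h x := fun e => hhx (h.injective e)
  have hha : h (g x) = g x := hfix _ ha hgx
  have hgb : g (h x) = h x := gfix _ hb hhx
  have hab : g x ≠ h x := fun e => hb (e ▸ hha)
  have key : g * h * g⁻¹ * h⁻¹ = swap x (h x) * swap x (g x) := by
    ext y
    simp only [Perm.mul_apply]
    rcases eq_or_ne y x with rfl | hyx
    · rw [swap_apply_left, swap_apply_of_ne_of_ne hgx hab]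
      have h1 : h (h⁻¹ y) ≠ h⁻¹ y := by
        simp only [Perm.coe_inv, Equiv.apply_symm_apply]
        intro e; apply hhx; nth_rw 1 [e]; simp
      have h2 : h⁻¹ y ≠ y := fun e => hhx (by nth_rw 1 [← e]; simp)
      have h3 : g (h⁻¹ y) = h⁻¹ y := gfix _ h1 h2
      have h4 : g⁻¹ (h⁻¹ y) = h⁻¹ y := by
        nth_rw 1 [← h3]; exact g.symm_apply_apply _
      rw [h4]; simp
    rcases eq_or_ne y (g x) with rfl | hya
    · rw [swap_apply_right, swap_apply_left]
      have h4 : h⁻¹ (g x) = g x := by
        nth_rw 1 [← hha]; exact h.symm_apply_apply _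
      rw [h4]; simpa using hgb
    rw [swap_apply_of_ne_of_ne hyx hya]
    rcases eq_or_ne y (h x) with rfl | hyb
    · rw [swap_apply_right]
      have h4 : h⁻¹ (h x) = x := h.symm_apply_apply _
      rw [h4]
      have h5 : g⁻¹ x ≠ x := fun e => hgx (by nth_rw 1 [← e]; simp)
      have h6 : g (g⁻¹ x) ≠ g⁻¹ x := by
        intro e; apply h5; nth_rw 1 [← e]; simp
      rw [hfix _ h6 h5]; simp
    rw [swap_apply_of_ne_of_ne hyx hyb]
    by_cases hgy : g y = y
    · by_cases hhy : h y = y
      · have h1 : h⁻¹ y = y := by nth_rw 1 [← hhy]; exact h.symm_apply_apply _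
        have h2 : g⁻¹ y = y := by nth_rw 1 [← hgy]; exact g.symm_apply_apply _
        rw [h1, h2, hhy, hgy]
      · have h1 : h (h⁻¹ y) ≠ h⁻¹ y := by
          intro e; apply hhy; simp only [Perm.coe_inv, Equiv.apply_symm_apply] at e
          nth_rw 1 [e]; simp
        have h2 : h⁻¹ y ≠ x := fun e => hyb (by rw [← e]; simp)
        have h3 : g⁻¹ (h⁻¹ y) = h⁻¹ y := by
          nth_rw 1 [← gfix _ h1 h2]; exact g.symm_apply_apply _
        rw [h3]; simp only [Perm.coe_inv, Equiv.apply_symm_apply]; exact hgy
    · have hy' : h y = y := hfix _ hgy hyx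
      have h1 : h⁻¹ y = y := by nth_rw 1 [← hy']; exact h.symm_apply_apply _
      rw [h1]
      have h2 : g (g⁻¹ y) ≠ g⁻¹ y := by
        intro e; apply hgy; simp only [Perm.coe_inv, Equiv.apply_symm_apply] at e
        nth_rw 1 [e]; simp
      have h3 : g⁻¹ y ≠ x := fun e => hya (by rw [← e]; simp)
      rw [hfix _ h2 h3]; simp
  rw [key]
  exact isThreeCycle_swap_mul_swap_same hhx.symm hgx.symm hab.symm

/-- A primitive group containing two elements whose supports meet in exactly one point
contains the alternating group. -/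
theorem alternatingGroup_le_range_of_moved_inter {G α : Type*} [Group G] [MulAction G α] [Fintype α]
    [DecidableEq α] (hprim : MulAction.IsPreprimitive G α) (g h : G) (x : α) (hgx : g • x ≠ x)
    (hhx : h • x ≠ x) (hinter : ∀ y : α, g • y ≠ y → h • y ≠ y → y = x) :
    alternatingGroup α ≤ (MulAction.toPermHom G α).range := by
  let φ := MulAction.toPermHom G α
  have hp : MulAction.IsPreprimitive φ.range α := by
    let f : α →ₑ[φ.rangeRestrict] α := { toFun := id, map_smul' := fun _ _ => rfl }
    exact MulAction.IsPreprimitive.of_surjective (f := f) Function.surjective_id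
  exact alternatingGroup_le_of_isPreprimitive_of_isThreeCycle_mem hp
    (isThreeCycle_commutator_of_moved_inter (φ g) (φ h) x hgx hhx hinter)
    (by
      refine ⟨g * h * g⁻¹ * h⁻¹, ?_⟩
      simp only [φ, map_mul, map_inv])

end CfsgLib.OrderDegrees
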