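import Mathlib

/-!
Prime graph lemmas: three primes along a normal chain, and solvable normal subgroups against cocliques.
-/

set_option autoImplicit false

namespace CfsgLib.OrderDegrees

/-- Commuting elements with prime divisors `p ≠ q` in their orders give an element of order `p * q`. -/
theorem exists_orderOf_eq_mul_of_commute {G : Type*} [Group G] [Finite G] {p q : ℕ} (hp : p.Prime)
    (hq : q.Prime) (hpq : p ≠ q) {a b : G} (hab : Commute a b) (ha : p ∣ orderOf a) (hb : q ∣ orderOf b) :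
    ∃ x : G, orderOf x = p * q := by
  refine ⟨a ^ (orderOf a / p) * b ^ (orderOf b / q), ?_⟩
  have h1 := orderOf_pow_orderOf_div (orderOf_pos a).ne' ha
  have h2 := orderOf_pow_orderOf_div (orderOf_pos b).ne' hb
  rw [(hab.pow_pow _ _).orderOf_mul_eq_mul_orderOf_of_coprime (by
    rw [h1, h2]; exact (Nat.coprime_primes hp hq).mpr hpq), h1, h2]

/-- A group `Q` normalised fixed-point-freely by `x` (every `x^i ≠ 1` fixes only `1`), acting on the abelian
group `V` without fixed points, forces `v ^ |Q| = 1` unless `x` has a fixed point on `V`. -/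
theorem exists_fixed_of_frobenius_action {G : Type*} [Group G] [Finite G] (V Q : Subgroup G) (x : G) (r : ℕ)
    (hr : 0 < r) (hxr : x ^ r = 1) (hV : ∀ a ∈ V, ∀ b ∈ V, a * b = b * a)
    (hQV : ∀ y ∈ Q, ∀ v ∈ V, y * v * y⁻¹ ∈ V) (hxV : ∀ v ∈ V, x * v * x⁻¹ ∈ V)
    (hxQ : ∀ y ∈ Q, x * y * x⁻¹ ∈ Q)
    (hfpf : ∀ i : ℕ, 0 < i → i < r → ∀ y ∈ Q, x ^ i * y * (x ^ i)⁻¹ = y → y = 1)
    (hCQ : ∀ v ∈ V, (∀ y ∈ Q, y * v * y⁻¹ = v) → v = 1)
    (v : G) (hv : v ∈ V) (hvQ : v ^ Nat.card Q ≠ 1) :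
    ∃ w ∈ V, w ≠ 1 ∧ x * w * x⁻¹ = w := by
  classical
  have := Fintype.ofFinite Q
  by_contra hcon
  push Not at hcon
  let S : Subgroup G :=
    { carrier := {g | (∀ a ∈ V, g * a * g⁻¹ ∈ V) ∧ (∀ a ∈ V, g⁻¹ * a * g ∈ V)}
      mul_mem' := fun {g h} hg hh => by
        refine ⟨fun a ha => ?_, fun a ha => ?_⟩
        · simpa only [mul_inv_rev, mul_assoc] using hg.1 _ (hh.1 a ha)
        · simpa only [mul_inv_rev, mul_assoc] using hh.2 _ (hg.2 a ha)
      one_mem' := by simp
      inv_mem' := fun {g} hg => by simpa [Set.mem_ofPred_eq] using And.symm hg }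
  have hQS : ∀ y ∈ Q, y ∈ S := fun y hy =>
    ⟨hQV y hy, fun a ha => by simpa using hQV y⁻¹ (Q.inv_mem hy) a ha⟩
  have hxS : x ∈ S := by
    have hx' : ∀ i : ℕ, ∀ a ∈ V, x ^ i * a * (x ^ i)⁻¹ ∈ V := by
      intro i
      induction i with
      | zero => simp
      | succ i ih =>
        intro a ha
        simpa only [pow_succ', mul_inv_rev, mul_assoc] using hxV _ (ih a ha)
    refine ⟨hxV, fun a ha => ?_⟩
    have hinv : x⁻¹ = x ^ (r - 1) := by
      apply inv_eq_of_mul_eq_one_right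
      rw [← pow_succ', Nat.sub_add_cancel hr, hxr]
    have := hx' (r - 1) a ha
    rwa [← hinv, inv_inv] at this
  let Vc : CommGroup V := { (inferInstance : Group V) with mul_comm := fun a b => Subtype.ext (hV _ a.2 _ b.2) }
  let act : S → V →* V := fun g => MonoidHom.mk' (fun a => ⟨g * a * (g : G)⁻¹, g.2.1 a a.2⟩) fun a b =>
    Subtype.ext (by simp [mul_assoc])
  have act_mul : ∀ g h : S, ∀ a, act (g * h) a = act g (act h a) := fun g h a => Subtype.ext (by
    simp [act, mul_assoc])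
  have act_one : ∀ a, act 1 a = a := fun a => Subtype.ext (by simp [act])
  let iQ : Q → S := fun y => ⟨y, hQS y y.2⟩
  let xS : S := ⟨x, hxS⟩
  have avgQ : ∀ w : V, ∏ y : Q, act (iQ y) w = 1 := by
    intro w
    apply Subtype.ext
    refine hCQ _ (∏ y : Q, act (iQ y) w).2 fun z hz => ?_
    have : act (iQ ⟨z, hz⟩) (∏ y : Q, act (iQ y) w) = ∏ y : Q, act (iQ y) w := by
      rw [map_prod]
      exact Fintype.prod_equiv (Equiv.mulLeft (⟨z, hz⟩ : Q)) _ _ fun y => (act_mul _ _ w).symm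
    exact congrArg Subtype.val this
  have avgX : ∀ w : V, ∏ i ∈ Finset.range r, act (xS ^ i) w = 1 := by
    intro w
    apply Subtype.ext
    by_contra hne
    apply hcon _ (∏ i ∈ Finset.range r, act (xS ^ i) w).2 hne
    have : act xS (∏ i ∈ Finset.range r, act (xS ^ i) w) = ∏ i ∈ Finset.range r, act (xS ^ i) w := by
      rw [map_prod]
      have hsucc : ∀ i, act xS (act (xS ^ i) w) = act (xS ^ (i + 1)) w := fun i => by
        rw [pow_succ', act_mul]
      simp only [hsucc]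
      obtain ⟨m, rfl⟩ : ∃ m, r = m + 1 := ⟨r - 1, by omega⟩
      have hlast : xS ^ (m + 1) = 1 := Subtype.ext (by simp [xS, hxr])
      rw [Finset.prod_range_succ, hlast, act_one, Finset.prod_range_succ' (fun i => act (xS ^ i) w), pow_zero,
        act_one]
    exact congrArg Subtype.val this
  let v' : V := ⟨v, hv⟩
  let tw : Q → ℕ → V := fun y i => act (iQ y * xS ^ i * (iQ y)⁻¹) v'
  have h1 : ∀ y, ∏ i ∈ Finset.range r, tw y i = 1 := by
    intro y
    simp only [tw, act_mul]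
    rw [← map_prod, avgX, map_one]
  have h2 : ∀ i, 0 < i → i < r → ∏ y : Q, tw y i = 1 := by
    intro i hi hir
    have hxQi : ∀ (i : ℕ) (y : G), y ∈ Q → x ^ i * y * (x ^ i)⁻¹ ∈ Q := by
      intro i
      induction i with
      | zero => simp
      | succ i ih =>
        intro y hy
        simpa only [pow_succ', mul_inv_rev, mul_assoc] using hxQ _ (ih y hy)
    let c : Q → Q := fun y => y * ⟨x ^ i * (y : G)⁻¹ * (x ^ i)⁻¹, hxQi i _ (Q.inv_mem y.2)⟩
    have hc : Function.Injective c := by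
      intro y z h
      have h' : (y : G) * (x ^ i * (y : G)⁻¹ * (x ^ i)⁻¹) = z * (x ^ i * (z : G)⁻¹ * (x ^ i)⁻¹) :=
        congrArg Subtype.val h
      have hfix : x ^ i * ((z : G)⁻¹ * y) * (x ^ i)⁻¹ = (z : G)⁻¹ * y := by
        calc x ^ i * ((z : G)⁻¹ * y) * (x ^ i)⁻¹
            = (z : G)⁻¹ * (z * (x ^ i * (z : G)⁻¹ * (x ^ i)⁻¹)) * (x ^ i * y * (x ^ i)⁻¹) := by group
          _ = (z : G)⁻¹ * (y * (x ^ i * (y : G)⁻¹ * (x ^ i)⁻¹)) * (x ^ i * y * (x ^ i)⁻¹) := by rw [h']
          _ = (z : G)⁻¹ * y := by group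
      have := hfpf i hi hir _ (Q.mul_mem (Q.inv_mem z.2) y.2) hfix
      exact Subtype.ext (inv_mul_eq_one.mp this).symm
    have htw : ∀ y, tw y i = act (iQ (c y)) (act (xS ^ i) v') := by
      intro y
      rw [← act_mul]
      simp only [tw]
      congr 2
      exact Subtype.ext (by simp [iQ, c, xS, mul_assoc])
    simp only [htw]
    rw [← avgQ (act (xS ^ i) v')]
    exact Fintype.prod_equiv (Equiv.ofBijective c hc.bijective_of_finite) _ _ fun y => rfl
  have h3 : ∏ y : Q, tw y 0 = 1 := by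
    have h := Finset.prod_comm (s := (Finset.univ : Finset Q)) (t := Finset.range r) (f := fun y i => tw y i)
    rw [Finset.prod_eq_one fun y _ => h1 y] at h
    rw [Finset.prod_eq_single 0] at h
    · exact h.symm
    · intro i hi hi0
      exact h2 i (Nat.pos_of_ne_zero hi0) (Finset.mem_range.mp hi)
    · intro h0
      exact absurd (Finset.mem_range.mpr hr) h0
  apply hvQ
  have h0 : ∀ y, tw y 0 = v' := fun y => by simp [tw, act_one]
  simp only [h0, Finset.prod_const, Finset.card_univ] at h3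
  rw [Nat.card_eq_fintype_card]
  exact congrArg Subtype.val h3

theorem card_dvd_of_sup_eq_top {G : Type*} [Group G] [Finite G] (A B : Subgroup G) [B.Normal]
    (h : A ⊔ B = ⊤) : Nat.card G ∣ Nat.card A * Nat.card B := by
  have hidx : B.index ∣ Nat.card A := by
    rw [← Subgroup.relIndex_top_right, ← h, Subgroup.relIndex_sup_right]
    exact Subgroup.relIndex_dvd_card B A
  rw [← Subgroup.index_mul_card B]
  exact Nat.mul_dvd_mul_right hidx _

/-- Three distinct primes across a normal chain `1 ≤ K ≤ M ≤ G` give an element whose order is a product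
of two of them. -/
theorem three_primes_chain {G : Type*} [Group G] [Finite G] (K M : Subgroup G) [K.Normal] [M.Normal]
    (hKM : K ≤ M) {p q r : ℕ} (hp : p.Prime) (hq : q.Prime) (hr : r.Prime) (hpq : p ≠ q) (hpr : p ≠ r)
    (hqr : q ≠ r) (hpK : p ∣ Nat.card ↥K) (hqM : q ∣ Nat.card ↥M / Nat.card ↥K)
    (hrG : r ∣ Nat.card G / Nat.card ↥M) :
    (∃ x : G, orderOf x = p * q) ∨ (∃ x : G, orderOf x = p * r) ∨ (∃ x : G, orderOf x = q * r) := by
  have : Fact p.Prime := ⟨hp⟩
  have : Fact q.Prime := ⟨hq⟩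
  have : Fact r.Prime := ⟨hr⟩
  by_contra hcon
  push Not at hcon
  obtain ⟨hne_pq, hne_pr, hne_qr⟩ := hcon
  let P₀ : Sylow p ↥K := default
  set N := Subgroup.normalizer (((P₀ : Subgroup ↥K).map K.subtype : Subgroup G) : Set G) with hN
  set P : Subgroup G := (P₀ : Subgroup ↥K).map K.subtype with hP
  have hNK : N ⊔ K = ⊤ := Sylow.normalizer_sup_eq_top P₀
  -- q divides the order of N ⊓ M
  have hq' : q ∣ Nat.card ↥(N ⊓ M) := by
    have h1 : (N ⊓ M).subgroupOf M ⊔ K.subgroupOf M = ⊤ := by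
      rw [eq_top_iff]
      rintro ⟨m, hm⟩ -
      have hmem : m ∈ N ⊔ K := by rw [hNK]; trivial
      obtain ⟨n, hn, k, hk, rfl⟩ := Subgroup.mem_sup_of_normal_right.mp hmem
      have hnM : n ∈ M := by
        have := M.mul_mem hm (M.inv_mem (hKM hk))
        rwa [mul_inv_cancel_right] at this
      have e1 : (⟨n, hnM⟩ : ↥M) ∈ (N ⊓ M).subgroupOf M := ⟨hn, hnM⟩
      have e2 : (⟨k, hKM hk⟩ : ↥M) ∈ K.subgroupOf M := hk
      exact Subgroup.mul_mem_sup e1 e2
    have h2 := card_dvd_of_sup_eq_top _ _ h1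
    rw [Nat.card_congr (Subgroup.subgroupOfEquivOfLe (inf_le_right : N ⊓ M ≤ M)).toEquiv,
      Nat.card_congr (Subgroup.subgroupOfEquivOfLe hKM).toEquiv] at h2
    have h3 : Nat.card ↥K ∣ Nat.card ↥M := Subgroup.card_dvd_of_le hKM
    exact hqM.trans ((Nat.div_dvd_iff_dvd_mul h3 Nat.card_pos).mpr (by rwa [mul_comm]))
  let Q₀ : Sylow q ↥(N ⊓ M) := default
  set Q : Subgroup G := (Q₀ : Subgroup ↥(N ⊓ M)).map (N ⊓ M).subtype with hQ
  have hQle : Q ≤ N ⊓ M := Subgroup.map_subtype_le _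
  -- normaliser of Q inside N covers G modulo M
  let M' : Subgroup ↥N := M.subgroupOf N
  let e : ↥M' ≃* ↥(N ⊓ M) :=
    { toFun := fun a => ⟨a.1.1, a.1.2, a.2⟩
      invFun := fun a => ⟨⟨a.1, a.2.1⟩, a.2.2⟩
      left_inv := fun _ => rfl
      right_inv := fun _ => rfl
      map_mul' := fun _ _ => rfl }
  let Q₁ : Sylow q ↥M' := Q₀.comapOfInjective e.toMonoidHom e.injective (by
    rw [MonoidHom.range_eq_top.mpr e.surjective]; exact le_top)
  have hfr : Subgroup.normalizer (((Q₁ : Subgroup ↥M').map M'.subtype : Subgroup ↥N) : Set ↥N) ⊔ M' = ⊤ :=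
    Sylow.normalizer_sup_eq_top Q₁
  set R : Subgroup G := Subgroup.normalizer (Q : Set G) ⊓ N with hR
  have hQ₁mem : ∀ a : ↥N, a ∈ (Q₁ : Subgroup ↥M').map M'.subtype ↔ (a : G) ∈ Q := by
    intro a
    constructor
    · rintro ⟨b, hb, rfl⟩
      exact ⟨e b, hb, rfl⟩
    · rintro ⟨b, hb, hba⟩
      exact ⟨e.symm b, by simpa [Q₁] using hb, Subtype.ext hba⟩
  have hRM : R ⊔ M = ⊤ := by
    rw [eq_top_iff]
    intro g _
    have hg : g ∈ N ⊔ K := by rw [hNK]; trivial
    obtain ⟨n, hn, k, hk, rfl⟩ := Subgroup.mem_sup_of_normal_right.mp hg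
    have hn' : (⟨n, hn⟩ : ↥N) ∈
        Subgroup.normalizer (((Q₁ : Subgroup ↥M').map M'.subtype : Subgroup ↥N) : Set ↥N) ⊔ M' := by
      rw [hfr]; trivial
    obtain ⟨a, ha, b, hb, hab⟩ := Subgroup.mem_sup_of_normal_right.mp hn'
    have hab' : (a : G) * b = n := congrArg Subtype.val hab
    rw [← hab']
    have haR : (a : G) ∈ R := by
      refine ⟨?_, a.2⟩
      intro y
      constructor
      · intro hy
        have := (ha ⟨y, (hQle hy).1⟩).mp ((hQ₁mem _).mpr hy)
        exact (hQ₁mem _).mp this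
      · intro hy
        have h := (hQle hy).1
        have hyN : y ∈ N := by
          have := N.mul_mem (N.mul_mem (N.inv_mem a.2) h) a.2
          simpa [mul_assoc] using this
        exact (hQ₁mem _).mp ((ha ⟨y, hyN⟩).mpr ((hQ₁mem _).mpr hy))
    rw [mul_assoc]
    exact Subgroup.mul_mem_sup haR (M.mul_mem hb (hKM hk))
  have hr' : r ∣ Nat.card R :=
    hrG.trans ((Nat.div_dvd_iff_dvd_mul M.card_subgroup_dvd_card Nat.card_pos).mpr
      (by rw [mul_comm]; exact card_dvd_of_sup_eq_top R M hRM))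
  obtain ⟨⟨x, hxR⟩, hx⟩ := exists_prime_orderOf_dvd_card' r hr'
  rw [Subgroup.orderOf_mk] at hx
  -- orders in P and Q
  have hPp : IsPGroup p ↥P := P₀.2.map _
  have hQq : IsPGroup q ↥Q := Q₀.2.map _
  have hord : ∀ {t : ℕ} [Fact t.Prime] {S : Subgroup G}, IsPGroup t ↥S → ∀ a ∈ S, a ≠ 1 → t ∣ orderOf a := by
    intro t _ S hS a ha ha1
    obtain ⟨k, hk⟩ := hS ⟨a, ha⟩
    have hk' : a ^ t ^ k = 1 := congrArg Subtype.val hk
    obtain ⟨j, -, hj⟩ := (Nat.dvd_prime_pow Fact.out).mp (orderOf_dvd_of_pow_eq_one hk')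
    rw [hj]
    apply dvd_pow_self
    rintro rfl
    rw [pow_zero, orderOf_eq_one_iff] at hj
    exact ha1 hj
  have hPne : P ≠ ⊥ := by
    intro h
    exact Sylow.ne_bot_of_dvd_card P₀ hpK
      ((Subgroup.map_eq_bot_iff_of_injective _ K.subtype_injective).mp h)
  have hQne : Q ≠ ⊥ := by
    intro h
    exact Sylow.ne_bot_of_dvd_card Q₀ hq'
      ((Subgroup.map_eq_bot_iff_of_injective _ (N ⊓ M).subtype_injective).mp h)
  set V : Subgroup G := (Subgroup.center ↥P).map P.subtype with hV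
  have : Nontrivial ↥P := (Subgroup.nontrivial_iff_ne_bot _).mpr hPne
  have : Nontrivial ↥(Subgroup.center ↥P) := hPp.center_nontrivial
  obtain ⟨⟨⟨v, hvP⟩, hvc⟩, hv1⟩ := exists_ne (1 : ↥(Subgroup.center ↥P))
  have hv1' : v ≠ 1 := fun h => hv1 (Subtype.ext (Subtype.ext h))
  have hVle : V ≤ P := Subgroup.map_subtype_le _
  have hVconj : ∀ n ∈ N, ∀ a ∈ V, n * a * n⁻¹ ∈ V := by
    rintro n hn _ ⟨⟨a, ha⟩, hac, rfl⟩
    refine ⟨⟨n * a * n⁻¹, (hn a).mp ha⟩, ?_, rfl⟩
    rw [SetLike.mem_coe, Subgroup.mem_center_iff] at hac ⊢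
    rintro ⟨b, hb⟩
    have hb' : n⁻¹ * b * n ∈ P := by
      apply (hn _).mpr
      show n * (n⁻¹ * b * n) * n⁻¹ ∈ P
      have e : n * (n⁻¹ * b * n) * n⁻¹ = b := by group
      rw [e]; exact hb
    have := congrArg Subtype.val (hac ⟨_, hb'⟩)
    apply Subtype.ext
    show b * (n * a * n⁻¹) = n * a * n⁻¹ * b
    calc b * (n * a * n⁻¹) = n * ((n⁻¹ * b * n) * a) * n⁻¹ := by group
      _ = n * (a * (n⁻¹ * b * n)) * n⁻¹ := by
          simp only [Subgroup.coe_mul] at this; rw [this]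
      _ = n * a * n⁻¹ * b := by group
  have hvV : v ∈ V := ⟨⟨v, hvP⟩, hvc, rfl⟩
  have hvQ : v ^ Nat.card Q ≠ 1 := by
    intro h
    obtain ⟨k, hk⟩ := IsPGroup.iff_card.mp hQq
    rw [hk] at h
    have := (hord hPp v hvP hv1').trans (orderOf_dvd_of_pow_eq_one h)
    exact hpq ((Nat.prime_dvd_prime_iff_eq hp hq).mp (hp.dvd_of_dvd_pow this))
  obtain ⟨w, hwV, hw1, hwx⟩ := exists_fixed_of_frobenius_action V Q x r hr.pos
    (by rw [← hx]; exact pow_orderOf_eq_one x)
    (by
      rintro _ ⟨a, hac, rfl⟩ _ ⟨b, -, rfl⟩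
      exact congrArg Subtype.val ((Subgroup.mem_center_iff.mp hac b).symm))
    (fun y hy => hVconj y (hQle hy).1) (hVconj x hxR.2) (fun y hy => (hxR.1 y).mp hy)
    (by
      intro i hi hir y hy hfix
      by_contra hy1
      have hxi : orderOf (x ^ i) = r := by
        rw [orderOf_pow' x hi.ne', hx, Nat.coprime_iff_gcd_eq_one.mp
          ((hr.coprime_iff_not_dvd).mpr fun hd => absurd (Nat.le_of_dvd hi hd) (by omega)), Nat.div_one]
      obtain ⟨z, hz⟩ := exists_orderOf_eq_mul_of_commute hq hr hqr (a := y) (b := x ^ i)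
        (mul_inv_eq_iff_eq_mul.mp hfix).symm (hord hQq y hy hy1) (by rw [hxi])
      exact hne_qr z hz)
    (by
      intro a ha hfix
      by_contra ha1
      obtain ⟨y, hy, hy1⟩ := (Subgroup.ne_bot_iff_exists_ne_one).mp hQne |>.elim
        (fun b hb => (⟨b.1, b.2, fun h => hb (Subtype.ext h)⟩ : ∃ y, y ∈ Q ∧ y ≠ 1))
      obtain ⟨z, hz⟩ := exists_orderOf_eq_mul_of_commute hp hq hpq (a := a) (b := y)
        (mul_inv_eq_iff_eq_mul.mp (hfix y hy)).symm (hord hPp a (hVle ha) ha1) (hord hQq y hy hy1)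
      exact hne_pq z hz)
    v hvV hvQ
  obtain ⟨z, hz⟩ := exists_orderOf_eq_mul_of_commute hp hr hpr (a := w) (b := x)
    (mul_inv_eq_iff_eq_mul.mp hwx).symm (hord hPp w (hVle hwV) hw1) (by rw [hx])
  exact hne_pr z hz

/-- Two non-adjacent primes dividing the order of a solvable normal subgroup are separated by a normal
subgroup. -/
theorem exists_split_of_solvable {G : Type*} [Group G] [Finite G] (K : Subgroup G) [K.Normal]
    (hK : Group.IsSolvable ↥K) {r s : ℕ} (hr : r.Prime) (hs : s.Prime) (hrs : r ≠ s)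
    (hno : ¬ ∃ x : G, orderOf x = r * s) (hrK : r ∣ Nat.card ↥K) (hsK : s ∣ Nat.card ↥K) :
    ∃ L : Subgroup G, L.Normal ∧ L ≤ K ∧
      ((r ∣ Nat.card ↥L ∧ s ∣ Nat.card ↥K / Nat.card ↥L) ∨
       (s ∣ Nat.card ↥L ∧ r ∣ Nat.card ↥K / Nat.card ↥L)) := by
  suffices key : ∀ (n : ℕ) (K : Subgroup G), Nat.card ↥K = n → K.Normal → Group.IsSolvable ↥K →
      r ∣ Nat.card ↥K → s ∣ Nat.card ↥K → ∃ L : Subgroup G, L.Normal ∧ L ≤ K ∧
        ((r ∣ Nat.card ↥L ∧ s ∣ Nat.card ↥K / Nat.card ↥L) ∨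
         (s ∣ Nat.card ↥L ∧ r ∣ Nat.card ↥K / Nat.card ↥L)) from
    key _ K rfl inferInstance hK hrK hsK
  intro n
  induction n using Nat.strong_induction_on with
  | _ n ih =>
  intro K hcard hKn hK hrK hsK
  subst hcard
  set M : Subgroup G := ⁅K, K⁆ with hM
  have hMK : M ≤ K := Subgroup.commutator_le_self K
  have hMn : M.Normal := inferInstance
  have hKne : K ≠ ⊥ := by
    rintro rfl
    rw [Subgroup.card_bot] at hrK
    exact hr.one_lt.ne' (Nat.dvd_one.mp hrK)
  have hlt : M < K := by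
    have : Nontrivial ↥K := (Subgroup.nontrivial_iff_ne_bot _).mpr hKne
    have hlt' := Group.IsSolvable.commutator_lt_top_of_nontrivial (G := ↥K)
    refine lt_of_le_of_ne hMK fun h => hlt'.ne ?_
    apply Subgroup.map_injective K.subtype_injective
    rw [map_commutator_eq, ← MonoidHom.range_eq_map, K.range_subtype]
    exact h
  have hlt' : Nat.card ↥M < Nat.card ↥K := by
    refine lt_of_le_of_ne (Nat.le_of_dvd Nat.card_pos (Subgroup.card_dvd_of_le hMK)) fun h => hlt.ne ?_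
    exact Subgroup.eq_of_le_of_card_ge hMK h.ge
  have hdvd : Nat.card ↥M ∣ Nat.card ↥K := Subgroup.card_dvd_of_le hMK
  have hcases : ∀ {t : ℕ}, t.Prime → t ∣ Nat.card ↥K →
      t ∣ Nat.card ↥M ∨ t ∣ Nat.card ↥K / Nat.card ↥M := by
    intro t ht h
    rw [← Nat.mul_div_cancel' hdvd] at h
    exact ht.dvd_mul.mp h
  rcases hcases hr hrK with h1 | h1 <;> rcases hcases hs hsK with h2 | h2
  · obtain ⟨L, hL, hLM, h⟩ := ih _ hlt' M rfl hMn (Group.isSolvable_of_isSolvable_injective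
      (Subgroup.inclusion_injective hMK)) h1 h2
    have hdiv : Nat.card ↥M / Nat.card ↥L ∣ Nat.card ↥K / Nat.card ↥L :=
      Nat.div_dvd_div (Subgroup.card_dvd_of_le hLM) hdvd
    exact ⟨L, hL, hLM.trans hMK, h.imp (fun h => ⟨h.1, h.2.trans hdiv⟩) (fun h => ⟨h.1, h.2.trans hdiv⟩)⟩
  · exact ⟨M, hMn, hMK, Or.inl ⟨h1, h2⟩⟩
  · exact ⟨M, hMn, hMK, Or.inr ⟨h2, h1⟩⟩
  · exfalso
    have : Fact r.Prime := ⟨hr⟩
    have : Fact s.Prime := ⟨hs⟩
    have hidx : Nat.card (↥K ⧸ M.subgroupOf K) = Nat.card ↥K / Nat.card ↥M := by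
      rw [← Subgroup.index_eq_card]
      have h := Subgroup.index_mul_card (M.subgroupOf K)
      rw [Nat.card_congr (Subgroup.subgroupOfEquivOfLe hMK).toEquiv] at h
      rw [← h, Nat.mul_div_cancel _ Nat.card_pos]
    obtain ⟨a, ha⟩ := exists_prime_orderOf_dvd_card' (G := ↥K ⧸ M.subgroupOf K) r (hidx ▸ h1)
    obtain ⟨b, hb⟩ := exists_prime_orderOf_dvd_card' (G := ↥K ⧸ M.subgroupOf K) s (hidx ▸ h2)
    have hab : Commute a b := by
      induction a using QuotientGroup.induction_on with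
      | H a =>
      induction b using QuotientGroup.induction_on with
      | H b =>
      show (QuotientGroup.mk a : ↥K ⧸ M.subgroupOf K) * QuotientGroup.mk b = QuotientGroup.mk b * QuotientGroup.mk a
      rw [← QuotientGroup.mk_mul, ← QuotientGroup.mk_mul, QuotientGroup.eq, Subgroup.mem_subgroupOf]
      have h := Subgroup.commutator_mem_commutator (H₁ := K) (H₂ := K) (g₁ := (b : G)⁻¹) (g₂ := (a : G)⁻¹)
        (K.inv_mem b.2) (K.inv_mem a.2)
      simp only [commutatorElement_def, inv_inv] at h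
      simpa [mul_inv_rev, mul_assoc] using h
    obtain ⟨z, hz⟩ := exists_orderOf_eq_mul_of_commute hr hs hrs hab (by rw [ha]) (by rw [hb])
    induction z using QuotientGroup.induction_on with
    | H z =>
    have hd : r * s ∣ orderOf (z : G) := by
      rw [← hz, Subgroup.orderOf_coe]
      exact orderOf_map_dvd (QuotientGroup.mk' (M.subgroupOf K)) z
    exact hno ⟨_, orderOf_pow_orderOf_div (orderOf_pos _).ne' hd⟩

/-- A solvable group has no three pairwise non-adjacent primes, and at most one prime of a coclique of size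
three divides the order of a solvable normal subgroup. -/
theorem false_of_solvable_coclique {G : Type*} [Group G] [Finite G] (K : Subgroup G) [K.Normal]
    (hK : Group.IsSolvable ↥K) {r s t : ℕ} (hr : r.Prime) (hs : s.Prime) (ht : t.Prime)
    (hrs : r ≠ s) (hrt : r ≠ t) (hst : s ≠ t)
    (n1 : ¬ ∃ x : G, orderOf x = r * s) (n2 : ¬ ∃ x : G, orderOf x = r * t)
    (n3 : ¬ ∃ x : G, orderOf x = s * t)
    (hrK : r ∣ Nat.card ↥K) (hsK : s ∣ Nat.card ↥K) (htG : t ∣ Nat.card G) : False := by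
  have outer : ∀ {r s t : ℕ}, r.Prime → s.Prime → t.Prime → r ≠ s → r ≠ t → s ≠ t →
      (¬ ∃ x : G, orderOf x = r * s) → (¬ ∃ x : G, orderOf x = r * t) → (¬ ∃ x : G, orderOf x = s * t) →
      ∀ (L T : Subgroup G), L.Normal → T.Normal → L ≤ T → r ∣ Nat.card ↥L →
        s ∣ Nat.card ↥T / Nat.card ↥L → t ∣ Nat.card G / Nat.card ↥T → False := by
    intro r s t hr hs ht hrs hrt hst n1 n2 n3 L T hL hT hLT h1 h2 h3
    rcases three_primes_chain L T hLT hr hs ht hrs hrt hst h1 h2 h3 with h | h | h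
    exacts [n1 h, n2 h, n3 h]
  have comm : ∀ {a b : ℕ}, (¬ ∃ x : G, orderOf x = a * b) → ¬ ∃ x : G, orderOf x = b * a := by
    intro a b h ⟨x, hx⟩
    exact h ⟨x, by rw [hx, mul_comm]⟩
  by_cases htK : t ∣ Nat.card G / Nat.card ↥K
  · obtain ⟨L, hL, hLK, ⟨h1, h2⟩ | ⟨h1, h2⟩⟩ := exists_split_of_solvable K hK hr hs hrs n1 hrK hsK
    · exact outer hr hs ht hrs hrt hst n1 n2 n3 L K hL inferInstance hLK h1 h2 htK
    · exact outer hs hr ht hrs.symm hst hrt (comm n1) n3 n2 L K hL inferInstance hLK h1 h2 htK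
  · have htK' : t ∣ Nat.card ↥K := by
      rw [← Nat.mul_div_cancel' K.card_subgroup_dvd_card] at htG
      exact (ht.dvd_mul.mp htG).resolve_right htK
    obtain ⟨L, hL, hLK, hsplit⟩ := exists_split_of_solvable K hK hr hs hrs n1 hrK hsK
    have hLs : Group.IsSolvable ↥L := Group.isSolvable_of_isSolvable_injective (Subgroup.inclusion_injective hLK)
    have hd : Nat.card ↥L ∣ Nat.card ↥K := Subgroup.card_dvd_of_le hLK
    have inK : ∀ {r s t : ℕ}, r.Prime → s.Prime → t.Prime → r ≠ s → r ≠ t → s ≠ t →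
      (¬ ∃ x : G, orderOf x = r * s) → (¬ ∃ x : G, orderOf x = r * t) → (¬ ∃ x : G, orderOf x = s * t) →
      ∀ (L T : Subgroup G), L.Normal → T.Normal → L ≤ T → T ≤ K → r ∣ Nat.card ↥L →
        s ∣ Nat.card ↥T / Nat.card ↥L → t ∣ Nat.card ↥K / Nat.card ↥T → False := by
      intro r s t hr hs ht hrs hrt hst n1 n2 n3 L T hL hT hLT hTK h1 h2 h3
      have e1 := Nat.card_congr (Subgroup.subgroupOfEquivOfLe (hLT.trans hTK)).toEquiv
      have e2 := Nat.card_congr (Subgroup.subgroupOfEquivOfLe hTK).toEquiv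
      rw [← e1] at h1 h2
      rw [← e2] at h2 h3
      rcases three_primes_chain (L.subgroupOf K) (T.subgroupOf K) (Subgroup.comap_mono hLT) hr hs ht hrs
        hrt hst h1 h2 h3 with ⟨x, hx⟩ | ⟨x, hx⟩ | ⟨x, hx⟩
      · exact n1 ⟨x, by rw [Subgroup.orderOf_coe, hx]⟩
      · exact n2 ⟨x, by rw [Subgroup.orderOf_coe, hx]⟩
      · exact n3 ⟨x, by rw [Subgroup.orderOf_coe, hx]⟩
    -- general step: `a` divides |L|, `b` divides |K/L|, `t` divides |K|
    have step : ∀ {a b : ℕ}, a.Prime → b.Prime → a ≠ b → a ≠ t → b ≠ t →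
        (¬ ∃ x : G, orderOf x = a * b) → (¬ ∃ x : G, orderOf x = a * t) → (¬ ∃ x : G, orderOf x = b * t) →
        a ∣ Nat.card ↥L → b ∣ Nat.card ↥K / Nat.card ↥L → False := by
      intro a b ha hb hab hat hbt m1 m2 m3 haL hbL
      have htK'' := htK'
      rw [← Nat.mul_div_cancel' hd] at htK''
      rcases ht.dvd_mul.mp htK'' with h | h
      · obtain ⟨L', hL', hL'L, ⟨u1, u2⟩ | ⟨u1, u2⟩⟩ := exists_split_of_solvable L hLs ha ht hat m2 haL h
        · exact inK ha ht hb hat hab hbt.symm m2 m1 (comm m3) L' L hL' hL hL'L hLK u1 u2 hbL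
        · exact inK ht ha hb hat.symm hbt.symm hab (comm m2) (comm m3) m1 L' L hL' hL hL'L hLK u1 u2 hbL
      · -- b and t both in K/L: split the image of K in G/L
        let Kb : Subgroup (G ⧸ L) := K.map (QuotientGroup.mk' L)
        have hKb : Kb.Normal := Subgroup.Normal.map inferInstance _ (QuotientGroup.mk'_surjective L)
        have hKbs : Group.IsSolvable ↥Kb :=
          Group.isSolvable_of_surjective ((QuotientGroup.mk' L).subgroupMap_surjective K)
        have hcard : Nat.card ↥Kb = Nat.card ↥K / Nat.card ↥L := by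
          have hidx := Subgroup.relIndex_ker K (QuotientGroup.mk' L)
          rw [QuotientGroup.ker_mk'] at hidx
          have := Subgroup.index_mul_card (L.subgroupOf K)
          rw [Nat.card_congr (Subgroup.subgroupOfEquivOfLe hLK).toEquiv] at this
          rw [← this, Nat.mul_div_cancel _ Nat.card_pos]
          exact hidx.symm
        have noedge : ¬ ∃ z : G ⧸ L, orderOf z = b * t := by
          rintro ⟨z, hz⟩
          induction z using QuotientGroup.induction_on with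
          | H z =>
          have hd' : b * t ∣ orderOf z := hz ▸ orderOf_map_dvd (QuotientGroup.mk' L) z
          exact m3 ⟨_, orderOf_pow_orderOf_div (orderOf_pos _).ne' hd'⟩
        obtain ⟨L'', hL'', hle, hsp⟩ := exists_split_of_solvable Kb hKbs hb ht hbt noedge
          (hcard ▸ hbL) (hcard ▸ h)
        set T : Subgroup G := L''.comap (QuotientGroup.mk' L) with hT
        have hTn : T.Normal := inferInstance
        have hLT : L ≤ T := fun y hy => by
          rw [hT, Subgroup.mem_comap]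
          have : QuotientGroup.mk' L y = 1 := (QuotientGroup.eq_one_iff y).mpr hy
          rw [this]; exact L''.one_mem
        have hTK : T ≤ K := by
          intro y hy
          obtain ⟨k, hk, hky⟩ := hle hy
          have : k⁻¹ * y ∈ L := QuotientGroup.eq.mp hky
          simpa using K.mul_mem hk (hLK this)
        have hTcard : Nat.card ↥T = Nat.card ↥L'' * Nat.card ↥L := by
          have hmap : T.map (QuotientGroup.mk' L) = L'' :=
            Subgroup.map_comap_eq_self_of_surjective (QuotientGroup.mk'_surjective L) L''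
          have := Subgroup.index_mul_card (L.subgroupOf T)
          rw [Nat.card_congr (Subgroup.subgroupOfEquivOfLe hLT).toEquiv] at this
          have hidx := Subgroup.relIndex_ker T (QuotientGroup.mk' L)
          rw [QuotientGroup.ker_mk', hmap] at hidx
          rw [← this, ← hidx]
          rfl
        have f1 : Nat.card ↥L'' = Nat.card ↥T / Nat.card ↥L := by
          rw [hTcard, Nat.mul_div_cancel _ Nat.card_pos]
        have f2 : Nat.card ↥Kb / Nat.card ↥L'' = Nat.card ↥K / Nat.card ↥T := by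
          rw [hcard, hTcard, Nat.div_div_eq_div_mul, mul_comm]
        rcases hsp with ⟨u1, u2⟩ | ⟨u1, u2⟩ <;> rw [f1] at u1 <;> rw [f2] at u2
        · exact inK ha hb ht hab hat hbt m1 m2 m3 L T hL hTn hLT hTK haL u1 u2
        · exact inK ha ht hb hat hab hbt.symm m2 m1 (comm m3) L T hL hTn hLT hTK haL u1 u2
    rcases hsplit with ⟨u1, u2⟩ | ⟨u1, u2⟩
    · exact step hr hs hrs hrt hst n1 n2 n3 u1 u2
    · exact step hs hr hrs.symm hst hrt (comm n1) n3 n2 u1 u2

end CfsgLib.OrderDegrees
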