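import Cfsg.Agent.Lib.OrderDegrees.G2Rep

/-!
The invariants of the six dimensional representation of G2 in characteristic 2, and the stabiliser of the
first basis vector.
-/

set_option autoImplicit false

namespace CfsgLib.OrderDegrees.G2

open Matrix

variable {F : Type*} [CommRing F]

def omega (u v : Fin 6 → F) : F :=
  u 0 * v 5 + u 5 * v 0 + u 1 * v 4 + u 4 * v 1 + u 2 * v 3 + u 3 * v 2

def quad (u : Fin 6 → F) : F := u 0 * u 5 + u 1 * u 4 + u 2 * u 3

def det3 (i j k : Fin 6) (u v z : Fin 6 → F) : F :=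
  u i * (v j * z k + v k * z j) + u j * (v i * z k + v k * z i) + u k * (v i * z j + v j * z i)

/-- the alternating trilinear form of the split octonions, on the six dimensional space -/
def tri (u v z : Fin 6 → F) : F := det3 0 3 4 u v z + det3 5 2 1 u v z

/-- invariance of the forms defining G2 -/
def Inv (g : Matrix (Fin 6) (Fin 6) F) : Prop :=
  (∀ u v, omega (g *ᵥ u) (g *ᵥ v) = omega u v) ∧
  ∃ lam : (Fin 6 → F) → F, (∀ u, quad (g *ᵥ u) = quad u + lam u ^ 2) ∧
    ∀ u v z, tri (g *ᵥ u) (g *ᵥ v) (g *ᵥ z) =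
      tri u v z + lam u * omega v z + lam v * omega z u + lam z * omega u v

theorem Inv.one : Inv (1 : Matrix (Fin 6) (Fin 6) F) :=
  ⟨fun u v => by simp, fun _ => 0, fun u => by simp, fun u v z => by simp⟩

theorem Inv.mul [CharP F 2] {g h : Matrix (Fin 6) (Fin 6) F} (hg : Inv g) (hh : Inv h) : Inv (g * h) := by
  obtain ⟨hg1, lg, hg2, hg3⟩ := hg
  obtain ⟨hh1, lh, hh2, hh3⟩ := hh
  refine ⟨fun u v => by rw [← mulVec_mulVec, ← mulVec_mulVec, hg1, hh1],
    fun u => lh u + lg (h *ᵥ u), fun u => ?_, fun u v z => ?_⟩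
  · rw [← mulVec_mulVec, hg2, hh2, CharTwo.add_sq, add_assoc]
  · rw [← mulVec_mulVec, ← mulVec_mulVec, ← mulVec_mulVec, hg3, hh3, hh1, hh1, hh1]
    ring

theorem Inv.inv [CharP F 2] {g k : Matrix (Fin 6) (Fin 6) F} (hgk : g * k = 1) (hg : Inv g) : Inv k := by
  obtain ⟨h1, l, h2, h3⟩ := hg
  have e : ∀ u, g *ᵥ (k *ᵥ u) = u := fun u => by rw [mulVec_mulVec, hgk, one_mulVec]
  have hw : ∀ u v, omega (k *ᵥ u) (k *ᵥ v) = omega u v := fun u v => by
    conv_rhs => rw [← e u, ← e v, h1]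
  refine ⟨hw, fun u => l (k *ᵥ u), fun u => ?_, fun u v z => ?_⟩
  · have h := h2 (k *ᵥ u)
    rw [e u] at h
    rw [h, add_assoc, CharTwo.add_self_eq_zero, add_zero]
  · have h := h3 (k *ᵥ u) (k *ᵥ v) (k *ᵥ z)
    rw [e u, e v, e z, hw, hw, hw] at h
    rw [h]
    simp only [add_assoc]
    rw [add_comm (l (k *ᵥ u) * _) _]
    abel_nf
    simp [two_smul, CharTwo.add_self_eq_zero]

def Yv (r : Fin 12) (t : F) (u : Fin 6 → F) : Fin 6 → F := fun i =>
  u i + ((off r).map fun e => if e.1 = i then t ^ e.2.2 * u e.2.1 else 0).sum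

variable [CharP F 2]

theorem Y_mulVec (r : Fin 12) (t : F) (u : Fin 6 → F) : Y r t *ᵥ u = Yv r t u := by
  ext i
  simp only [mulVec, dotProduct, Y, evM, of_apply, Ys, ev_append, add_mul, Finset.sum_add_distrib, Yv]
  congr 1
  · rw [Finset.sum_eq_single i] <;> simp +contextual [pone, ev, eq_comm]
  · induction off r with
    | nil => simp [ev]
    | cons e l ih =>
      rw [List.map_cons, List.sum_cons, ← ih]
      rw [show (if e.1 = i then t ^ e.2.2 * u e.2.1 else 0) =
        ∑ j, (if e.1 = i ∧ e.2.1 = j then t ^ e.2.2 else 0) * u j by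
          by_cases h : e.1 = i <;> simp [h, ite_mul]]
      rw [← Finset.sum_add_distrib]
      refine Finset.sum_congr rfl fun j _ => ?_
      rw [List.filterMap_cons]
      split_ifs with h <;> simp [ev, add_mul]

def lamY (r : Fin 12) (t : F) (u : Fin 6 → F) : F :=
  t * (![0, 0, u 0, u 1, u 2, 0, 0, u 3, u 4, u 5, 0, 0] r)


theorem two_zero : (2 : F) = 0 := CharTwo.two_eq_zero

theorem omega_Y (r : Fin 12) (t : F) (u v : Fin 6 → F) : omega (Yv r t u) (Yv r t v) = omega u v := by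
  fin_cases r <;> simp [omega, Yv, off] <;> ring_nf <;> simp [two_zero]

theorem quad_Y (r : Fin 12) (t : F) (u : Fin 6 → F) :
    quad (Yv r t u) = quad u + lamY r t u ^ 2 := by
  fin_cases r <;> simp [quad, lamY, Yv, off] <;> ring_nf <;> simp [two_zero]

theorem tri_Y (r : Fin 12) (t : F) (u v z : Fin 6 → F) :
    tri (Yv r t u) (Yv r t v) (Yv r t z) =
      tri u v z + lamY r t u * omega v z + lamY r t v * omega z u + lamY r t z * omega u v := by
  fin_cases r <;> simp [tri, det3, omega, lamY, Yv, off] <;> ring_nf <;> simp [two_zero]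

theorem inv_Y (r : Fin 12) (t : F) : Inv (Y r t) :=
  ⟨fun u v => by rw [Y_mulVec, Y_mulVec, omega_Y],
    lamY r t, fun u => by rw [Y_mulVec, quad_Y],
    fun u v z => by rw [Y_mulVec, Y_mulVec, Y_mulVec, tri_Y]⟩

end CfsgLib.OrderDegrees.G2
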