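import Cfsg.Agent.Lib.OrderDegrees.G2Stab

/-!
The six dimensional group is isomorphic to the Chevalley group of type G2 of the Prelude.
-/

set_option autoImplicit false

namespace CfsgLib.OrderDegrees.G2

open Matrix Cfsg.Lie

variable {F : Type*}

/-- The alternating matrix with given coordinates. -/
def alt [Add F] [Zero F] (v : Fin 2 ⊕ Fin 12 → F) : Matrix (Fin 6) (Fin 6) F :=
  !![0, v (.inr 11), v (.inr 10), v (.inr 8), v (.inr 7), v (.inl 0);
     v (.inr 11), 0, v (.inr 9), v (.inr 6), v (.inl 0) + v (.inl 1), v (.inr 4);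
     v (.inr 10), v (.inr 9), 0, v (.inl 1), v (.inr 5), v (.inr 3);
     v (.inr 8), v (.inr 6), v (.inl 1), 0, v (.inr 2), v (.inr 1);
     v (.inr 7), v (.inl 0) + v (.inl 1), v (.inr 5), v (.inr 2), 0, v (.inr 0);
     v (.inl 0), v (.inr 4), v (.inr 3), v (.inr 1), v (.inr 0), 0]

/-- the coordinates of an alternating matrix -/
def coord (M : Matrix (Fin 6) (Fin 6) F) : Fin 2 ⊕ Fin 12 → F := fun a => M (pos a).1 (pos a).2

theorem coord_alt [CommRing F] (v : Fin 2 ⊕ Fin 12 → F) : coord (alt v) = v := by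
  funext a
  rcases a with a | a <;> fin_cases a <;> rfl

theorem phi_mulVec [CommRing F] (g : Matrix (Fin 6) (Fin 6) F) (v : Fin 2 ⊕ Fin 12 → F) :
    (phi g : Matrix (Fin 2 ⊕ Fin 12) (Fin 2 ⊕ Fin 12) F) *ᵥ v = coord (g * alt v * gᵀ) := by
  funext a
  change ∑ b : Fin 2 ⊕ Fin 12, ((basis b).map fun e => g (pos a).1 e.1 * g (pos a).2 e.2).sum * v b =
    (g * alt v * gᵀ) (pos a).1 (pos a).2
  generalize (pos a).1 = i
  generalize (pos a).2 = j
  simp [Fintype.sum_sum_type, Fin.sum_univ_two, Fin.sum_univ_succ (n := 11), Fin.sum_univ_succ, basis, pos, alt,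
    mul_apply, Fin.sum_univ_six]
  ring

theorem omega_col [CommRing F] {g : Matrix (Fin 6) (Fin 6) F} (hg : ∀ u v, omega (g *ᵥ u) (g *ᵥ v) = omega u v)
    (k l : Fin 6) :
    g 0 k * g 5 l + g 5 k * g 0 l + g 1 k * g 4 l + g 4 k * g 1 l + g 2 k * g 3 l + g 3 k * g 2 l =
      if (k : ℕ) + l = 5 then 1 else 0 := by
  have h := hg (Pi.single k 1) (Pi.single l 1)
  simp only [omega, mulVec_single_one, col_apply] at h
  rw [h]
  fin_cases k <;> fin_cases l <;> simp

theorem alt_coord_conj [Field F] [CharP F 2] {g : Matrix (Fin 6) (Fin 6) F}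
    (hg : ∀ u v, omega (g *ᵥ u) (g *ᵥ v) = omega u v) (v : Fin 2 ⊕ Fin 12 → F) :
    alt (coord (g * alt v * gᵀ)) = g * alt v * gᵀ := by
  have hd : ∀ i, (g * alt v * gᵀ) i i = 0 := fun i => by
    simp [alt, mul_apply, Fin.sum_univ_six]
    ring_nf
    simp [two_zero]
  have hs : ∀ i j, (g * alt v * gᵀ) j i = (g * alt v * gᵀ) i j := fun i j => by
    simp [alt, mul_apply, Fin.sum_univ_six]
    ring
  have ht : (g * alt v * gᵀ) 0 5 + (g * alt v * gᵀ) 1 4 + (g * alt v * gᵀ) 2 3 = 0 := by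
    have c := omega_col hg
    have c01 := c 0 1; have c02 := c 0 2; have c03 := c 0 3; have c04 := c 0 4; have c05 := c 0 5
    have c12 := c 1 2; have c13 := c 1 3; have c14 := c 1 4; have c15 := c 1 5
    have c23 := c 2 3; have c24 := c 2 4; have c25 := c 2 5
    have c34 := c 3 4; have c35 := c 3 5; have c45 := c 4 5
    simp at c01 c02 c03 c04 c05 c12 c13 c14 c15 c23 c24 c25 c34 c35 c45
    simp [alt, mul_apply, Fin.sum_univ_six]
    linear_combination v (.inr 11) * c01 + v (.inr 10) * c02 + v (.inr 8) * c03 + v (.inr 7) * c04 +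
      v (.inl 0) * c05 + v (.inr 9) * c12 + v (.inr 6) * c13 + (v (.inl 0) + v (.inl 1)) * c14 + v (.inr 4) * c15 +
      v (.inl 1) * c23 + v (.inr 5) * c24 + v (.inr 3) * c25 + v (.inr 2) * c34 + v (.inr 1) * c35 +
      v (.inr 0) * c45 + (v (.inl 0) + v (.inl 1)) * two_zero (F := F)
  have e14 : (g * alt v * gᵀ) 0 5 + (g * alt v * gᵀ) 2 3 = (g * alt v * gᵀ) 1 4 := by
    linear_combination ht - (g * alt v * gᵀ) 1 4 * two_zero (F := F)
  generalize hM : g * alt v * gᵀ = M at hd hs e14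
  ext i j
  fin_cases i <;> fin_cases j <;> simp [alt, coord, pos, hd, e14] <;> exact hs _ _

theorem phi_mul [Field F] [CharP F 2] (g : Matrix (Fin 6) (Fin 6) F) {k : Matrix (Fin 6) (Fin 6) F} (hk : Inv k) :
    phi (g * k) = phi g * phi k := by
  apply Matrix.ext_of_mulVec_single
  intro b
  rw [← mulVec_mulVec]
  have h := fun (x : Matrix (Fin 6) (Fin 6) F) (v : Fin 2 ⊕ Fin 12 → F) => phi_mulVec x v
  erw [h, h, h, alt_coord_conj hk.1]
  rw [transpose_mul]
  simp only [Matrix.mul_assoc]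

theorem phi_one [CommRing F] : phi (1 : Matrix (Fin 6) (Fin 6) F) = 1 := by
  apply Matrix.ext_of_mulVec_single
  intro b
  rw [one_mulVec]
  erw [phi_mulVec, transpose_one, one_mul, mul_one, coord_alt]

variable [Field F] [CharP F 2]

variable (F) in
/-- The adjoint representation of `G6`. -/
def phiHom : G6 F →* GL chevG2.Idx F :=
  ({ toFun := fun g => phi ((g : GL (Fin 6) F) : Matrix (Fin 6) (Fin 6) F)
     map_one' := phi_one
     map_mul' := fun a b => phi_mul _ (inv_of_mem b.2) } :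
    G6 F →* Matrix chevG2.Idx chevG2.Idx F).toHomUnits

theorem phiHom_val (g : G6 F) :
    (phiHom F g : Matrix chevG2.Idx chevG2.Idx F) = phi ((g : GL (Fin 6) F) : Matrix (Fin 6) (Fin 6) F) := rfl

theorem phiHom_range : (phiHom F).range = chevG2.group F := by
  rw [MonoidHom.range_eq_map]
  have htop : (⊤ : Subgroup (G6 F)) = Subgroup.closure {g : G6 F | ∃ (r : Fin 12) (t : F), (g : GL (Fin 6) F) = Ygl r t} :=
    (Subgroup.closure_closure_coe_preimage (k := {g | ∃ (r : Fin 12) (t : F), g = Ygl r t})).symm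
  rw [htop, MonoidHom.map_closure, ChevalleyDatum.group]
  congr 1
  ext x
  constructor
  · rintro ⟨g, ⟨r, t, hg⟩, rfl⟩
    exact ⟨r, t, by rw [phiHom_val, hg, Ygl_val, phi_Y]⟩
  · rintro ⟨r, t, hx⟩
    exact ⟨⟨Ygl r t, Ygl_mem r t⟩, ⟨r, t, rfl⟩, Units.ext ((phi_Y r t).trans hx.symm)⟩

theorem phiHom_injective : Function.Injective (phiHom F) := by
  rw [injective_iff_map_eq_one]
  intro g hg
  have h : phi ((g : GL (Fin 6) F) : Matrix (Fin 6) (Fin 6) F) = 1 := by
    rw [← phiHom_val, hg]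
    rfl
  obtain ⟨hw, -⟩ := inv_of_mem g.2
  set M := ((g : GL (Fin 6) F) : Matrix (Fin 6) (Fin 6) F) with hM
  let J : Matrix (Fin 6) (Fin 6) F := !![0, 0, 0, 0, 0, 1; 0, 0, 0, 0, 1, 0; 0, 0, 0, 1, 0, 0; 0, 0, 1, 0, 0, 0; 0, 1, 0, 0, 0, 0; 1, 0, 0, 0, 0, 0]
  have hJ : Mᵀ * J * M = J := by
    ext k l
    have := omega_col hw k l
    fin_cases k <;> fin_cases l <;> simp [mul_apply, Fin.sum_univ_six, J] <;> simp at this <;>
      linear_combination this
  have hcomm : ∀ v : Fin 2 ⊕ Fin 12 → F, alt v * J * M = M * (alt v * J) := fun v => by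
    have h1 : M * alt v * Mᵀ = alt v := by
      rw [← alt_coord_conj hw v, ← phi_mulVec, h]
      erw [one_mulVec]
    calc alt v * J * M = M * alt v * Mᵀ * J * M := by rw [h1]
      _ = M * alt v * (Mᵀ * J * M) := by simp only [Matrix.mul_assoc]
      _ = M * (alt v * J) := by rw [hJ, Matrix.mul_assoc]
  have hE : ∀ (b : Fin 12) (i j : Fin 6),
      (alt (Pi.single (Sum.inr b : Fin 2 ⊕ Fin 12) (1 : F)) * J * M) i j =
        (M * (alt (Pi.single (Sum.inr b : Fin 2 ⊕ Fin 12) (1 : F)) * J)) i j := fun b i j => by rw [hcomm]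
  have z01 : M 0 1 = 0 := by simpa [alt, J, mul_apply, Fin.sum_univ_six, eq_comm] using hE 9 0 3
  have z02 : M 0 2 = 0 := by simpa [alt, J, mul_apply, Fin.sum_univ_six, eq_comm] using hE 9 0 4
  have z03 : M 0 3 = 0 := by simpa [alt, J, mul_apply, Fin.sum_univ_six, eq_comm] using hE 6 0 4
  have z04 : M 0 4 = 0 := by simpa [alt, J, mul_apply, Fin.sum_univ_six, eq_comm] using hE 5 0 3
  have z05 : M 0 5 = 0 := by simpa [alt, J, mul_apply, Fin.sum_univ_six, eq_comm] using hE 4 0 4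
  have z10 : M 1 0 = 0 := by simpa [alt, J, mul_apply, Fin.sum_univ_six, eq_comm] using hE 10 1 3
  have z12 : M 1 2 = 0 := by simpa [alt, J, mul_apply, Fin.sum_univ_six, eq_comm] using hE 10 1 5
  have z13 : M 1 3 = 0 := by simpa [alt, J, mul_apply, Fin.sum_univ_six, eq_comm] using hE 8 1 5
  have z14 : M 1 4 = 0 := by simpa [alt, J, mul_apply, Fin.sum_univ_six, eq_comm] using hE 7 1 5
  have z15 : M 1 5 = 0 := by simpa [alt, J, mul_apply, Fin.sum_univ_six, eq_comm] using hE 3 1 3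
  have z20 : M 2 0 = 0 := by simpa [alt, J, mul_apply, Fin.sum_univ_six, eq_comm] using hE 11 2 4
  have z21 : M 2 1 = 0 := by simpa [alt, J, mul_apply, Fin.sum_univ_six, eq_comm] using hE 11 2 5
  have z23 : M 2 3 = 0 := by simpa [alt, J, mul_apply, Fin.sum_univ_six, eq_comm] using hE 8 2 5
  have z24 : M 2 4 = 0 := by simpa [alt, J, mul_apply, Fin.sum_univ_six, eq_comm] using hE 7 2 5
  have z25 : M 2 5 = 0 := by simpa [alt, J, mul_apply, Fin.sum_univ_six, eq_comm] using hE 4 2 4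
  have z30 : M 3 0 = 0 := by simpa [alt, J, mul_apply, Fin.sum_univ_six, eq_comm] using hE 11 3 4
  have z31 : M 3 1 = 0 := by simpa [alt, J, mul_apply, Fin.sum_univ_six, eq_comm] using hE 11 3 5
  have z32 : M 3 2 = 0 := by simpa [alt, J, mul_apply, Fin.sum_univ_six, eq_comm] using hE 10 3 5
  have z34 : M 3 4 = 0 := by simpa [alt, J, mul_apply, Fin.sum_univ_six, eq_comm] using hE 7 3 5
  have z35 : M 3 5 = 0 := by simpa [alt, J, mul_apply, Fin.sum_univ_six, eq_comm] using hE 4 3 4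
  have z40 : M 4 0 = 0 := by simpa [alt, J, mul_apply, Fin.sum_univ_six, eq_comm] using hE 11 4 4
  have z41 : M 4 1 = 0 := by simpa [alt, J, mul_apply, Fin.sum_univ_six, eq_comm] using hE 11 4 5
  have z42 : M 4 2 = 0 := by simpa [alt, J, mul_apply, Fin.sum_univ_six, eq_comm] using hE 10 4 5
  have z43 : M 4 3 = 0 := by simpa [alt, J, mul_apply, Fin.sum_univ_six, eq_comm] using hE 8 4 5
  have z45 : M 4 5 = 0 := by simpa [alt, J, mul_apply, Fin.sum_univ_six, eq_comm] using hE 4 4 4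
  have z50 : M 5 0 = 0 := by simpa [alt, J, mul_apply, Fin.sum_univ_six, eq_comm] using hE 11 5 4
  have z51 : M 5 1 = 0 := by simpa [alt, J, mul_apply, Fin.sum_univ_six, eq_comm] using hE 11 5 5
  have z52 : M 5 2 = 0 := by simpa [alt, J, mul_apply, Fin.sum_univ_six, eq_comm] using hE 10 5 5
  have z53 : M 5 3 = 0 := by simpa [alt, J, mul_apply, Fin.sum_univ_six, eq_comm] using hE 8 5 5
  have z54 : M 5 4 = 0 := by simpa [alt, J, mul_apply, Fin.sum_univ_six, eq_comm] using hE 7 5 5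
  have d1 : M 1 1 = M 0 0 := by simpa [alt, J, mul_apply, Fin.sum_univ_six] using hE 7 0 1
  have d2 : M 2 2 = M 0 0 := by simpa [alt, J, mul_apply, Fin.sum_univ_six] using hE 8 0 2
  have d3 : M 3 3 = M 0 0 := by simpa [alt, J, mul_apply, Fin.sum_univ_six] using hE 10 0 3
  have d4 : M 4 4 = M 0 0 := by simpa [alt, J, mul_apply, Fin.sum_univ_six] using hE 11 0 4
  have d5 : M 5 5 = M 1 1 := by simpa [alt, J, mul_apply, Fin.sum_univ_six] using hE 11 1 5
  have hc : M 0 0 = 1 := by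
    have c05 := omega_col hw 0 5
    simp [z10, z20, z30, z40, z50, d5, d1] at c05
    have : (M 0 0 + 1) ^ 2 = 0 := by
      linear_combination c05 + (M 0 0 + 1) * two_zero (F := F)
    have h2 := pow_eq_zero_iff two_ne_zero |>.mp this
    linear_combination h2 - two_zero (F := F)
  apply Subtype.ext
  apply Units.ext
  rw [← hM]
  ext i j
  fin_cases i <;> fin_cases j <;>
    simp [z01, z02, z03, z04, z05, z10, z12, z13, z14, z15, z20, z21, z23, z24, z25, z30, z31, z32, z34, z35, z40, z41, z42, z43, z45, z50, z51, z52, z53, z54, d1, d2, d3, d4, d5, hc]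

theorem nonempty_equiv : Nonempty (G6 F ≃* chevG2.group F) :=
  ⟨(MonoidHom.ofInjective phiHom_injective).trans (MulEquiv.subgroupCongr phiHom_range)⟩

end CfsgLib.OrderDegrees.G2
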