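import Cfsg.Prelude.Def_ChevG2

/-!
The six dimensional representation of the Chevalley group of type G2 in characteristic 2: explicit root
elements, and the comparison with the adjoint matrices of the Prelude.
-/

set_option autoImplicit false

namespace CfsgLib.OrderDegrees.G2

open Matrix Cfsg.Lie

/-! ### Polynomials over the field with two elements as lists of exponents -/

section poly

set_option linter.unusedSectionVars false

variable {F : Type*} [CommRing F] [CharP F 2]

def ev (t : F) (l : List ℕ) : F := (l.map fun k => t ^ k).sum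

def lmul (p q : List ℕ) : List ℕ := p.flatMap fun a => q.map fun b => a + b

def toggle (x : ℕ) : List ℕ → List ℕ
  | [] => [x]
  | y :: l => if x = y then l else if x < y then x :: y :: l else y :: toggle x l

def nrm (l : List ℕ) : List ℕ := l.foldr toggle []

theorem ev_nil (t : F) : ev t [] = 0 := rfl

theorem ev_cons (t : F) (a : ℕ) (l : List ℕ) : ev t (a :: l) = t ^ a + ev t l := by simp [ev]

theorem ev_append (t : F) (p q : List ℕ) : ev t (p ++ q) = ev t p + ev t q := by simp [ev]

theorem ev_lmul (t : F) (p q : List ℕ) : ev t (lmul p q) = ev t p * ev t q := by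
  induction p with
  | nil => simp [lmul, ev]
  | cons a p ih =>
    have h : ev t (q.map fun b => a + b) = t ^ a * ev t q := by
      simp [ev, List.map_map, Function.comp_def, pow_add, List.sum_map_mul_left]
    rw [lmul, List.flatMap_cons, ev_append, ev_cons, h, add_mul]
    rw [← lmul, ih]

theorem ev_flatMap {α : Type*} (t : F) (l : List α) (f : α → List ℕ) :
    ev t (l.flatMap f) = (l.map fun a => ev t (f a)).sum := by
  induction l with
  | nil => rfl
  | cons a l ih => rw [List.flatMap_cons, ev_append, List.map_cons, List.sum_cons, ih]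

theorem ev_toggle (t : F) (x : ℕ) (l : List ℕ) : ev t (toggle x l) = t ^ x + ev t l := by
  induction l with
  | nil => simp [toggle, ev]
  | cons y l ih =>
    simp only [toggle]
    split_ifs with h1 h2
    · subst h1
      rw [ev_cons, ← add_assoc, CharTwo.add_self_eq_zero, zero_add]
    · rw [ev_cons]
    · rw [ev_cons, ev_cons, ih, add_left_comm]

theorem ev_nrm (t : F) (l : List ℕ) : ev t (nrm l) = ev t l := by
  induction l with
  | nil => rfl
  | cons a l ih =>
    have : nrm (a :: l) = toggle a (nrm l) := rfl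
    rw [this, ev_toggle, ih, ev_cons]

theorem ev_eq_of_nrm (t : F) {p q : List ℕ} (h : nrm p = nrm q) : ev t p = ev t q := by
  rw [← ev_nrm t p, h, ev_nrm]

/-- In a ring with `t ^ m = 1` only exponents modulo `m` matter. -/
theorem ev_mod (t : F) {m : ℕ} (h : t ^ m = 1) (p : List ℕ) : ev t (p.map fun k => k % m) = ev t p := by
  simp only [ev, List.map_map, Function.comp_def]
  congr 1
  exact List.map_congr_left fun k _ => by
    conv_rhs => rw [← Nat.mod_add_div k m, pow_add, pow_mul, h, one_pow, mul_one]

end poly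

/-- A matrix of polynomials. -/
abbrev PM : Type := Fin 6 → Fin 6 → List ℕ

def pmul (A B : PM) : PM := fun i j => (List.finRange 6).flatMap fun k => lmul (A i k) (B k j)

def pone : PM := fun i j => if i = j then [0] else []

def ppow (A : PM) : ℕ → PM
  | 0 => pone
  | k + 1 => pmul (ppow A k) A

def evM {F : Type*} [CommRing F] (t : F) (A : PM) : Matrix (Fin 6) (Fin 6) F :=
  Matrix.of fun i j => ev t (A i j)

section evM

set_option linter.unusedSectionVars false

variable {F : Type*} [CommRing F] [CharP F 2]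

theorem evM_pmul (t : F) (A B : PM) : evM t (pmul A B) = evM t A * evM t B := by
  ext i j
  simp only [evM, pmul, of_apply, mul_apply, ev_flatMap, ev_lmul]
  rw [Fin.sum_univ_def]

theorem evM_pone (t : F) : evM t pone = 1 := by
  ext i j
  simp only [evM, pone, of_apply, one_apply]
  split_ifs <;> simp [ev]

theorem evM_ppow (t : F) (A : PM) (k : ℕ) : evM t (ppow A k) = evM t A ^ k := by
  induction k with
  | zero => rw [ppow, evM_pone, pow_zero]
  | succ k ih => rw [ppow, evM_pmul, ih, pow_succ]

theorem evM_congr (t : F) {A B : PM} (h : ∀ i j, nrm (A i j) = nrm (B i j)) : evM t A = evM t B := by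
  ext i j
  exact ev_eq_of_nrm t (h i j)

theorem evM_congr_mod (t : F) {m : ℕ} (hm : t ^ m = 1) {A B : PM}
    (h : ∀ i j, nrm ((A i j).map fun k => k % m) = nrm ((B i j).map fun k => k % m)) : evM t A = evM t B := by
  ext i j
  rw [evM, evM, of_apply, of_apply, ← ev_mod t hm (A i j), ← ev_mod t hm (B i j)]
  exact ev_eq_of_nrm t (h i j)

end evM

/-- the off-diagonal entries `(i, j, k)`, standing for `t ^ k`, of the root elements in dimension 6 -/
def off : Fin 12 → List (Fin 6 × Fin 6 × ℕ) :=
  ![[(4, 0, 1), (5, 1, 1)],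
    [(3, 0, 1), (5, 2, 1)],
    [(3, 1, 1), (4, 2, 1), (5, 0, 2)],
    [(2, 0, 1), (4, 1, 2), (5, 3, 1)],
    [(1, 0, 1), (3, 2, 2), (5, 4, 1)],
    [(2, 1, 1), (4, 3, 1)],
    [(1, 2, 1), (3, 4, 1)],
    [(0, 1, 1), (2, 3, 2), (4, 5, 1)],
    [(0, 2, 1), (1, 4, 2), (3, 5, 1)],
    [(0, 5, 2), (1, 3, 1), (2, 4, 1)],
    [(0, 3, 1), (2, 5, 1)],
    [(0, 4, 1), (1, 5, 1)]]

def Ys (r : Fin 12) : PM := fun i j =>
  pone i j ++ (off r).filterMap fun e => if e.1 = i ∧ e.2.1 = j then some e.2.2 else none

/-- The root element `x_r(t)` in dimension 6. -/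
def Y {F : Type*} [CommRing F] (r : Fin 12) (t : F) : Matrix (Fin 6) (Fin 6) F := evM t (Ys r)

theorem Ys_invol : ∀ r : Fin 12, ∀ i j, nrm (pmul (Ys r) (Ys r) i j) = nrm (pone i j) := by decide +kernel

theorem Y_mul_self {F : Type*} [CommRing F] [CharP F 2] (r : Fin 12) (t : F) : Y r t * Y r t = 1 := by
  rw [Y, ← evM_pmul, evM_congr t (Ys_invol r), evM_pone]

/-! ### The adjoint representation inside the alternating matrices -/

/-- the entry of an alternating matrix giving a coordinate -/
def pos : (Fin 2 ⊕ Fin 12) → Fin 6 × Fin 6 :=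
  Sum.elim (![(0, 5), (2, 3)] : Fin 2 → Fin 6 × Fin 6)
    (![(4, 5), (3, 5), (3, 4), (2, 5), (1, 5), (2, 4), (1, 3), (0, 4), (0, 3), (1, 2), (0, 2), (0, 1)] :
      Fin 12 → Fin 6 × Fin 6)

/-- the nonzero entries of the alternating matrices of the basis -/
def basis : (Fin 2 ⊕ Fin 12) → List (Fin 6 × Fin 6) :=
  Sum.elim (![[(0, 5), (5, 0), (1, 4), (4, 1)], [(1, 4), (4, 1), (2, 3), (3, 2)]] : Fin 2 → List (Fin 6 × Fin 6))
    (fun s : Fin 12 => [pos (Sum.inr s), ((pos (Sum.inr s)).2, (pos (Sum.inr s)).1)])

def phiS (A : PM) (a b : (Fin 2 ⊕ Fin 12)) : List ℕ :=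
  (basis b).flatMap fun e => lmul (A (pos a).1 e.1) (A (pos a).2 e.2)

/-- the induced matrix on the adjoint module -/
def phi {F : Type*} [CommRing F] (g : Matrix (Fin 6) (Fin 6) F) : Matrix (Fin 2 ⊕ Fin 12) (Fin 2 ⊕ Fin 12) F :=
  Matrix.of fun a b => ((basis b).map fun e => g (pos a).1 e.1 * g (pos a).2 e.2).sum

theorem phi_evM {F : Type*} [CommRing F] [CharP F 2] (t : F) (A : PM) (a b : (Fin 2 ⊕ Fin 12)) :
    phi (evM t A) a b = ev t (phiS A a b) := by
  simp only [phi, phiS, of_apply, ev_flatMap, ev_lmul, evM]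

def oddPow (c : ℤ) (k : ℕ) : List ℕ := if c % 2 = 0 then [] else [k]

/-- the entries of `x_r(t)` in characteristic 2 -/
def xs (r : Fin chevG2.nroots) (row col : chevG2.Idx) : List ℕ :=
  match col with
  | Sum.inl i =>
    (match row with
     | Sum.inl i' => if i' = i then [0] else []
     | Sum.inr u => if u = r then oddPow ((chevG2.cartanSR.getD i.val #[]).getD r.val 0) 1 else [])
  | Sum.inr s =>
    if s = r then (match row with | Sum.inr u => if u = r then [0] else [] | Sum.inl _ => [])
    else if s.val = chevG2.negIdx.getD r.val 0 then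
      (match row with
       | Sum.inl i => oddPow ((chevG2.coroot.getD r.val #[]).getD i.val 0) 1
       | Sum.inr u => if u = s then [0] else if u = r then [2] else [])
    else
      (match row with
       | Sum.inl _ => []
       | Sum.inr u => (if u = s then [0] else []) ++
           (chevG2.chainCoeff r.val s.val u.val).flatMap fun km => oddPow km.2 km.1)

theorem intCast_mul_pow {F : Type*} [CommRing F] [CharP F 2] (c : ℤ) (t : F) (k : ℕ) :
    (c : F) * t ^ k = ev t (oddPow c k) := by
  unfold oddPow
  split_ifs with h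
  · rw [(CharP.intCast_eq_zero_iff F 2 c).mpr (by omega), zero_mul, ev_nil]
  · have : ((c - 1 : ℤ) : F) = 0 := (CharP.intCast_eq_zero_iff F 2 _).mpr (by omega)
    rw [Int.cast_sub, Int.cast_one, sub_eq_zero] at this
    simp [ev, this]

theorem xMat_eq {F : Type*} [Field F] [CharP F 2] (r : Fin chevG2.nroots) (t : F) (row col : chevG2.Idx) :
    chevG2.xMat F r t row col = ev t (xs r row col) := by
  rcases col with i | s <;> rcases row with i' | u <;>
    simp only [ChevalleyDatum.xMat, xs, of_apply]
  · split_ifs <;> simp [ev]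
  · split_ifs
    · rw [CharTwo.neg_eq, ← intCast_mul_pow, pow_one]
    · rfl
  · split_ifs
    · rfl
    · rw [← intCast_mul_pow, pow_one]
    · rfl
  · split_ifs <;> try simp [ev, CharTwo.neg_eq]
    all_goals
      rw [show ((chevG2.chainCoeff r.val s.val u.val).map fun km => ((km.2 : ℤ) : F) * t ^ km.1) =
        (chevG2.chainCoeff r.val s.val u.val).map fun km => ev t (oddPow km.2 km.1) from
          List.map_congr_left fun km _ => intCast_mul_pow _ _ _, ← ev_flatMap]
    all_goals simp [ev]

theorem phiS_eq_xs : ∀ r : Fin 12, ∀ a b : Fin 2 ⊕ Fin 12, nrm (phiS (Ys r) a b) = nrm (xs r a b) := by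
  decide +kernel

theorem phi_Y {F : Type*} [Field F] [CharP F 2] (r : Fin 12) (t : F) : phi (Y r t) = chevG2.xMat F r t := by
  ext a b
  rw [Y, phi_evM]
  exact (ev_eq_of_nrm t (phiS_eq_xs r a b)).trans (xMat_eq r t a b).symm

end CfsgLib.OrderDegrees.G2
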