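import Cfsg.Agent.Lib.OrderDegrees.G2Invariant

/-!
The group generated by the six dimensional root elements: transitivity on nonzero vectors and the prime
orders of elements fixing a nonzero vector.
-/

set_option autoImplicit false

namespace CfsgLib.OrderDegrees.G2

open Matrix

variable {F : Type*} [Field F] [CharP F 2]

def Ygl (r : Fin 12) (t : F) : GL (Fin 6) F := ⟨Y r t, Y r t, Y_mul_self r t, Y_mul_self r t⟩

@[simp] theorem Ygl_val (r : Fin 12) (t : F) : (Ygl r t : Matrix (Fin 6) (Fin 6) F) = Y r t := rfl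

variable (F) in
/-- The Chevalley group of type G2 in dimension 6. -/
def G6 : Subgroup (GL (Fin 6) F) := Subgroup.closure {g | ∃ (r : Fin 12) (t : F), g = Ygl r t}

theorem Ygl_mem (r : Fin 12) (t : F) : Ygl r t ∈ G6 F := Subgroup.subset_closure ⟨r, t, rfl⟩

theorem inv_of_mem {g : GL (Fin 6) F} (hg : g ∈ G6 F) : Inv (g : Matrix (Fin 6) (Fin 6) F) := by
  induction hg using Subgroup.closure_induction with
  | mem x hx => obtain ⟨r, t, rfl⟩ := hx; exact inv_Y r t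
  | one => exact Inv.one
  | mul x y _ _ hx hy => exact hx.mul hy
  | inv x _ hx => exact Inv.inv x.mul_inv hx

/-- reachability by elements of the group -/
def Reach (u v : Fin 6 → F) : Prop := ∃ g ∈ G6 F, (g : Matrix (Fin 6) (Fin 6) F) *ᵥ u = v

theorem Reach.trans {u v w : Fin 6 → F} (h1 : Reach u v) (h2 : Reach v w) : Reach u w := by
  obtain ⟨g, hg, h1⟩ := h1
  obtain ⟨k, hk, h2⟩ := h2
  exact ⟨k * g, mul_mem hk hg, by rw [Units.val_mul, ← mulVec_mulVec, h1, h2]⟩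

theorem Reach.step (r : Fin 12) (t : F) (u : Fin 6 → F) : Reach u (Yv r t u) :=
  ⟨Ygl r t, Ygl_mem r t, Y_mulVec r t u⟩

theorem reach_nonzero_zero {v : Fin 6 → F} (hv : v ≠ 0) : ∃ w, Reach v w ∧ w 0 ≠ 0 := by
  by_cases h0 : v 0 ≠ 0
  · exact ⟨v, ⟨1, one_mem _, one_mulVec v⟩, h0⟩
  rw [not_not] at h0
  by_cases h1 : v 1 ≠ 0
  · exact ⟨_, Reach.step 7 1 v, by simp [Yv, off, h0, h1]⟩
  by_cases h2 : v 2 ≠ 0
  · exact ⟨_, Reach.step 8 1 v, by simp [Yv, off, h0, h2]⟩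
  by_cases h3 : v 3 ≠ 0
  · exact ⟨_, Reach.step 10 1 v, by simp [Yv, off, h0, h3]⟩
  by_cases h4 : v 4 ≠ 0
  · exact ⟨_, Reach.step 11 1 v, by simp [Yv, off, h0, h4]⟩
  by_cases h5 : v 5 ≠ 0
  · exact ⟨_, Reach.step 9 1 v, by simp [Yv, off, h0, h5]⟩
  exfalso
  refine hv (funext fun i => ?_)
  simp only [not_not] at h1 h2 h3 h4 h5
  fin_cases i <;> assumption

theorem reach_clear [Finite F] {v : Fin 6 → F} (hv : v 0 ≠ 0) : Reach v ![v 0, 0, 0, 0, 0, 0] := by
  have key : ∀ a b : F, a ≠ 0 → b + b / a * a = 0 := fun a b ha => by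
    rw [div_mul_cancel₀ b ha, CharTwo.add_self_eq_zero]
  obtain ⟨a1, ha1⟩ : ∃ w, w = Yv 4 (v 1 / v 0) v := ⟨_, rfl⟩
  have e1 : a1 0 = v 0 ∧ a1 1 = 0 := by
    subst ha1; exact ⟨by simp [Yv, off], by simp [Yv, off, key _ _ hv]⟩
  obtain ⟨a2, ha2⟩ : ∃ w, w = Yv 3 (a1 2 / v 0) a1 := ⟨_, rfl⟩
  have e2 : a2 0 = v 0 ∧ a2 1 = 0 ∧ a2 2 = 0 := by
    subst ha2
    refine ⟨by simp [Yv, off, e1.1], by simp [Yv, off, e1.2], ?_⟩
    simp [Yv, off, e1.1, key _ _ hv]
  obtain ⟨a3, ha3⟩ : ∃ w, w = Yv 1 (a2 3 / v 0) a2 := ⟨_, rfl⟩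
  have e3 : a3 0 = v 0 ∧ a3 1 = 0 ∧ a3 2 = 0 ∧ a3 3 = 0 := by
    subst ha3
    refine ⟨by simp [Yv, off, e2.1], by simp [Yv, off, e2.2.1], by simp [Yv, off, e2.2.2], ?_⟩
    simp [Yv, off, e2.1, key _ _ hv]
  obtain ⟨a4, ha4⟩ : ∃ w, w = Yv 0 (a3 4 / v 0) a3 := ⟨_, rfl⟩
  have e4 : a4 0 = v 0 ∧ a4 1 = 0 ∧ a4 2 = 0 ∧ a4 3 = 0 ∧ a4 4 = 0 := by
    subst ha4
    refine ⟨by simp [Yv, off, e3.1], by simp [Yv, off, e3.2.1], by simp [Yv, off, e3.2.2.1],
      by simp [Yv, off, e3.2.2.2], ?_⟩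
    simp [Yv, off, e3.1, key _ _ hv]
  have : Fintype F := Fintype.ofFinite F
  obtain ⟨s, hs⟩ := FiniteField.isSquare_of_char_two (ringChar.eq F 2) (a4 5 / v 0)
  refine (Reach.step 4 (v 1 / v 0) v).trans ?_
  rw [← ha1]
  refine (Reach.step 3 (a1 2 / v 0) a1).trans ?_
  rw [← ha2]
  refine (Reach.step 1 (a2 3 / v 0) a2).trans ?_
  rw [← ha3]
  refine (Reach.step 0 (a3 4 / v 0) a3).trans ?_
  rw [← ha4]
  convert Reach.step 2 s a4 using 1
  obtain ⟨f0, f1, f2, f3, f4⟩ := e4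
  funext i
  fin_cases i <;> simp [Yv, off, f0, f1, f2, f3, f4]
  rw [pow_two, ← hs, key _ _ hv]

theorem reach_e0 {c : F} (hc : c ≠ 0) : Reach ![c, 0, 0, 0, 0, 0] ![1, 0, 0, 0, 0, 0] := by
  have h1 : Yv 4 (1 / c) ![c, 0, 0, 0, 0, 0] = ![c, 1, 0, 0, 0, 0] := by
    funext i; fin_cases i <;> simp [Yv, off, hc]
  have h2 : Yv 7 (c + 1) ![c, 1, 0, 0, 0, 0] = ![1, 1, 0, 0, 0, 0] := by
    funext i; fin_cases i <;> simp [Yv, off]
    rw [← add_assoc, CharTwo.add_self_eq_zero, zero_add]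
  have h3 : Yv 4 (1 : F) ![1, 1, 0, 0, 0, 0] = ![1, 0, 0, 0, 0, 0] := by
    funext i; fin_cases i <;> simp [Yv, off, CharTwo.add_self_eq_zero]
  exact (h1 ▸ Reach.step 4 (1 / c) _).trans ((h2 ▸ Reach.step 7 (c + 1) _).trans (h3 ▸ Reach.step 4 1 _))

/-- `G6` is transitive on nonzero vectors. -/
theorem exists_move [Finite F] {v : Fin 6 → F} (hv : v ≠ 0) : Reach v ![1, 0, 0, 0, 0, 0] := by
  obtain ⟨w, h1, hw⟩ := reach_nonzero_zero hv
  exact h1.trans ((reach_clear hw).trans (reach_e0 hw))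

/-! ### The stabiliser of the first basis vector -/

/-- The shape of the matrices fixing the first basis vector. -/
structure StabShape (g : Matrix (Fin 6) (Fin 6) F) : Prop where
  col : ∀ i, g i 0 = if i = 0 then 1 else 0
  row : ∀ j, g 5 j = if j = 5 then 1 else 0
  z31 : g 3 1 = 0
  z32 : g 3 2 = 0
  z41 : g 4 1 = 0
  z42 : g 4 2 = 0

theorem stabShape_of_inv {g k : Matrix (Fin 6) (Fin 6) F} (hgk : g * k = 1) (hg : Inv g) (hk : Inv k)
    (h0 : g *ᵥ ![1, 0, 0, 0, 0, 0] = ![1, 0, 0, 0, 0, 0]) : StabShape g := by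
  obtain ⟨hw, l, hq, ht⟩ := hg
  have e : (![1, 0, 0, 0, 0, 0] : Fin 6 → F) = Pi.single 0 1 := by
    funext i; fin_cases i <;> simp
  have hl : l ![1, 0, 0, 0, 0, 0] = 0 := by
    have h := hq ![1, 0, 0, 0, 0, 0]
    rw [h0] at h
    refine pow_eq_zero_iff two_ne_zero |>.mp ?_
    simpa [quad] using h.symm
  have hcol : ∀ i, g i 0 = if i = 0 then 1 else 0 := by
    intro i
    have h := congrFun h0 i
    rw [e] at h
    simpa [Pi.single_apply] using h
  have hrow : ∀ u, (g *ᵥ u) 5 = u 5 := by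
    intro u
    have h := hw ![1, 0, 0, 0, 0, 0] u
    rw [h0] at h
    simpa [omega] using h
  have hrow' : ∀ j, g 5 j = if j = 5 then 1 else 0 := by
    intro j
    have h := hrow (Pi.single j 1)
    simpa [Pi.single_apply, eq_comm] using h
  have hz : ∀ (j : Fin 6) (z : Fin 6 → F), j = 1 ∨ j = 2 → z 5 = 0 →
      (g *ᵥ Pi.single j 1) 3 * (g *ᵥ z) 4 + (g *ᵥ Pi.single j 1) 4 * (g *ᵥ z) 3 = 0 := by
    intro j z hj hz
    have h := ht ![1, 0, 0, 0, 0, 0] (Pi.single j 1) z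
    rw [h0, hl] at h
    have h5 : (g *ᵥ Pi.single j 1) 5 = 0 := by
      rw [hrow]; rcases hj with rfl | rfl <;> simp
    have hz5 : (g *ᵥ z) 5 = 0 := by rw [hrow, hz]
    rcases hj with rfl | rfl <;> simpa [tri, det3, omega, h5, hz5, hz] using h
  have e' : ∀ u, g *ᵥ (k *ᵥ u) = u := fun u => by rw [mulVec_mulVec, hgk, one_mulVec]
  have hk5 : ∀ u : Fin 6 → F, u 5 = 0 → (k *ᵥ u) 5 = 0 := fun u hu => by rw [← hrow (k *ᵥ u), e', hu]
  have h3 := fun j hj => hz j (k *ᵥ Pi.single 3 1) hj (hk5 _ (by simp))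
  have h4 := fun j hj => hz j (k *ᵥ Pi.single 4 1) hj (hk5 _ (by simp))
  simp only [e'] at h3 h4
  exact ⟨hcol, hrow', by simpa using h4 1 (Or.inl rfl), by simpa using h4 2 (Or.inr rfl),
    by simpa using h3 1 (Or.inl rfl), by simpa using h3 2 (Or.inr rfl)⟩

variable (F) in
/-- the stabiliser of the first basis vector in `G6` -/
def stab : Subgroup (G6 F) where
  carrier := {g | ((g : GL (Fin 6) F) : Matrix (Fin 6) (Fin 6) F) *ᵥ ![1, 0, 0, 0, 0, 0] = ![1, 0, 0, 0, 0, 0]}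
  one_mem' := one_mulVec _
  mul_mem' := fun {a b} ha hb => by
    simp only [Set.mem_setOf_eq, Subgroup.coe_mul, Units.val_mul] at *
    rw [← mulVec_mulVec, hb, ha]
  inv_mem' := fun {a} ha => by
    simp only [Set.mem_setOf_eq, Subgroup.coe_inv] at *
    conv_lhs => rw [← ha]
    rw [mulVec_mulVec, Units.inv_mul, one_mulVec]

theorem shape_stab (g : stab F) : StabShape (((g : G6 F) : GL (Fin 6) F) : Matrix (Fin 6) (Fin 6) F) :=
  stabShape_of_inv (Units.mul_inv _) (inv_of_mem (g : G6 F).2) (inv_of_mem (inv_mem (g : G6 F).2)) g.2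

/-- the Levi quotient of the stabiliser, as pairs of 2 × 2 matrices -/
def levi (g : stab F) : Matrix (Fin 2) (Fin 2) F × Matrix (Fin 2) (Fin 2) F :=
  let M := (((g : G6 F) : GL (Fin 6) F) : Matrix (Fin 6) (Fin 6) F)
  (!![M 1 1, M 1 2; M 2 1, M 2 2], !![M 3 3, M 3 4; M 4 3, M 4 4])

variable (F) in
def leviHom : stab F →* Matrix (Fin 2) (Fin 2) F × Matrix (Fin 2) (Fin 2) F where
  toFun := levi
  map_one' := by
    refine Prod.ext ?_ ?_ <;> ext i j <;> fin_cases i <;> fin_cases j <;> simp [levi]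
  map_mul' := fun a b => by
    have ha := shape_stab a
    have hb := shape_stab b
    refine Prod.ext ?_ ?_ <;> ext i j <;> fin_cases i <;> fin_cases j <;>
      simp [levi, Matrix.mul_apply, Matrix.mul_fin_two, Fin.sum_univ_six, Fin.sum_univ_two, ha.col, ha.row, ha.z31, ha.z32, ha.z41,
        ha.z42, hb.col, hb.row, hb.z31, hb.z32, hb.z41, hb.z42]

theorem pow_eight_eq_one_of_levi (g : stab F) (h : leviHom F g = 1) : g ^ 8 = 1 := by
  have hs := shape_stab g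
  obtain ⟨hA, hD⟩ := Prod.ext_iff.mp h
  set M := (((g : G6 F) : GL (Fin 6) F) : Matrix (Fin 6) (Fin 6) F) with hM
  have a11 : M 1 1 = 1 := congrFun (congrFun hA 0) 0
  have a12 : M 1 2 = 0 := congrFun (congrFun hA 0) 1
  have a21 : M 2 1 = 0 := congrFun (congrFun hA 1) 0
  have a22 : M 2 2 = 1 := congrFun (congrFun hA 1) 1
  have d33 : M 3 3 = 1 := congrFun (congrFun hD 0) 0
  have d34 : M 3 4 = 0 := congrFun (congrFun hD 0) 1
  have d43 : M 4 3 = 0 := congrFun (congrFun hD 1) 0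
  have d44 : M 4 4 = 1 := congrFun (congrFun hD 1) 1
  have hN : ∀ i j : Fin 6, j ≤ i → (M - 1) i j = 0 := by
    intro i j hij
    fin_cases i <;> fin_cases j <;> first
      | exact absurd hij (by decide)
      | simp [hs.col, hs.row, hs.z31, hs.z32, hs.z41, hs.z42, a11, a21, a22, d33, d43, d44]
  have hpow : ∀ (m : ℕ) (i j : Fin 6), (j : ℕ) < (i : ℕ) + m → ((M - 1) ^ m) i j = 0 := by
    intro m
    induction m with
    | zero =>
      intro i j hij
      rw [pow_zero, one_apply_ne]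
      intro e; subst e; omega
    | succ m ih =>
      intro i j hij
      rw [pow_succ, mul_apply]
      refine Finset.sum_eq_zero fun k _ => ?_
      by_cases hk : (k : ℕ) < (i : ℕ) + m
      · rw [ih i k hk, zero_mul]
      · rw [hN k j (by rw [Fin.le_def]; omega), mul_zero]
  have h8 : M ^ 8 = 1 := by
    have h0 : (M - 1) ^ 8 = 0 := by
      ext i j; exact hpow 8 i j (by omega)
    have hc := sub_pow_char_pow_of_commute (R := Matrix (Fin 6) (Fin 6) F) (p := 2) (n := 3) (Commute.one_right M)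
    rw [show (2 : ℕ) ^ 3 = 8 from rfl, one_pow, h0] at hc
    exact sub_eq_zero.mp hc.symm
  apply Subtype.ext; apply Subtype.ext; apply Units.ext
  simpa [← hM] using h8

/-- Elements of prime order with a nonzero fixed vector. -/
theorem prime_dvd_of_fixed [Fintype F] {g : GL (Fin 6) F} (hg : g ∈ G6 F) {v : Fin 6 → F} (hv : v ≠ 0)
    (hfix : (g : Matrix (Fin 6) (Fin 6) F) *ᵥ v = v) :
    orderOf g ∣ 8 * ((Fintype.card F ^ 2 - 1) * (Fintype.card F ^ 2 - Fintype.card F)) := by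
  classical
  obtain ⟨k, hk, hkv⟩ := exists_move hv
  have hmem : (⟨k * g * k⁻¹, mul_mem (mul_mem hk hg) (inv_mem hk)⟩ : G6 F) ∈ stab F := by
    change ((k * g * k⁻¹ : GL (Fin 6) F) : Matrix (Fin 6) (Fin 6) F) *ᵥ _ = _
    conv_lhs => rw [← hkv, mulVec_mulVec, ← Units.val_mul, inv_mul_cancel_right, Units.val_mul, ← mulVec_mulVec,
      hfix, hkv]
  set x : stab F := ⟨_, hmem⟩ with hx
  set c := (Fintype.card F ^ 2 - 1) * (Fintype.card F ^ 2 - Fintype.card F) with hc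
  have hord : orderOf x = orderOf g := by
    rw [hx, Subgroup.orderOf_mk, Subgroup.orderOf_mk]
    exact (MulEquiv.orderOf_eq (MulAut.conj k) g)
  have hcard : Nat.card (GL (Fin 2) F) = c := by
    rw [Matrix.card_GL_field, Fin.prod_univ_two]; simp [hc]
  have h1 : leviHom F x ^ c = 1 := by
    set u := (leviHom F).toHomUnits x with hu
    have hu1 : (MulEquiv.prodUnits u).1 ^ c = 1 := hcard ▸ pow_card_eq_one'
    have hu2 : (MulEquiv.prodUnits u).2 ^ c = 1 := hcard ▸ pow_card_eq_one'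
    have : u ^ c = 1 := by
      apply MulEquiv.prodUnits.injective
      rw [map_pow, map_one]
      exact Prod.ext hu1 hu2
    have := congrArg Units.val this
    simpa [hu] using this
  have h8 := pow_eight_eq_one_of_levi (x ^ c) (by rw [map_pow, h1])
  rw [← pow_mul, mul_comm] at h8
  exact hord ▸ orderOf_dvd_of_pow_eq_one h8

end CfsgLib.OrderDegrees.G2
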