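import Cfsg.Agent.Lib.BrauerCharacters.ClassMul
import Cfsg.Agent.Lib.Frobenius.TI

/-!
# Pairs of involutions weighted by an induced virtual character

If every pair of involutions whose product lies in the support of `v` lies in `H`, then the sums
`∑ χ, (Ind v, χ) χ(a) χ(b) / χ(1)` over involutions `a`, `b` are computed inside `H`.
-/

set_option autoImplicit false

open scoped ComplexConjugate
open Cfsg CfsgLib.Frobenius CfsgLib.BrauerCharacters

namespace CfsgLib.OrderDegrees

variable {G : Type*} [Group G] [Fintype G]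

omit [Fintype G] in
theorem isConj_conj_iff (a g x : G) : IsConj a (g * x * g⁻¹) ↔ IsConj a x :=
  ⟨fun h => h.trans (isConj_iff.2 ⟨g⁻¹, by group⟩), fun h => h.trans (isConj_iff.2 ⟨g, rfl⟩)⟩

omit [Fintype G] in
theorem mul_self_eq_one_of_isConj {a x : G} (ha : a * a = 1) (h : IsConj a x) : x * x = 1 := by
  obtain ⟨c, rfl⟩ := isConj_iff.1 h
  rw [show c * a * c⁻¹ * (c * a * c⁻¹) = c * (a * a) * c⁻¹ by group, ha]
  group

omit [Fintype G] in
theorem inv_eq_self {x : G} (h : x * x = 1) : x⁻¹ = x := inv_eq_of_mul_eq_one_right h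

open scoped Classical in
/-- The sums over pairs of conjugate involutions, inside a subgroup. -/
theorem sum_indFun_involutions [Fintype (IrrCharacter G)] (H : Subgroup G) [Fintype H] (a b : G)
    (ha : a * a = 1) (hb : b * b = 1) (v : H → ℂ)
    (hH : ∀ x y : G, x * x = 1 → y * y = 1 → ∀ h : H, v h ≠ 0 → x * y = h → x ∈ H) :
    ∑ χ : IrrCharacter G, classInner (indFun H v) (χ : G → ℂ) *
        ((χ : G → ℂ) a * (χ : G → ℂ) b / (χ : G → ℂ) 1) =
      (Nat.card (Subgroup.centralizer ({a} : Set G)) : ℂ) *
          (Nat.card (Subgroup.centralizer ({b} : Set G)) : ℂ) /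
          ((Nat.card G : ℂ) * (Nat.card H : ℂ)) *
        ∑ x : H, ∑ y : H, if IsConj a (x : G) ∧ IsConj b (y : G) then v (x * y) else 0 := by
  set V := indFun H v with hVdef
  have hV : IsClassFunction G V := indFun_isClassFunction H v
  set S : ℂ := ∑ x : G, ∑ y : G, if IsConj a x ∧ IsConj b y then V (x * y) else 0 with hS
  have hG : (Nat.card G : ℂ) ≠ 0 := by simp
  have hHc : (Nat.card H : ℂ) ≠ 0 := by simp
  -- through the class multiplication formula
  have h1 := sum_weight_pairs a b (fun u => V u⁻¹)
  have hL : ∑ u : G, V u⁻¹ *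
      ((Finset.univ.filter fun x => IsConj a x ∧ IsConj b (x * u)).card : ℂ) = S := by
    simp only [← Finset.sum_boole, Finset.mul_sum, mul_ite, mul_one, mul_zero]
    rw [Finset.sum_comm, hS]
    refine Finset.sum_congr rfl fun x _ => Fintype.sum_equiv (Equiv.mulLeft x) _ _ fun u => ?_
    simp only [Equiv.coe_mulLeft]
    split_ifs with hc
    · refine Eq.trans ?_ (if_pos hc).symm
      have hx := mul_self_eq_one_of_isConj ha hc.1
      have hy := mul_self_eq_one_of_isConj hb hc.2
      rw [← hV (x * (x * u)) x, inv_eq_self hx]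
      congr 1
      rw [show x * (x * (x * u)) * x = (x * x) * ((x * u) * x) by group, hx, one_mul]
      exact (inv_eq_of_mul_eq_one_right (show u * ((x * u) * x) = 1 by
        rw [show u * (x * u * x) = x⁻¹ * ((x * u) * (x * u)) * x by group, hy]; group))
    · exact (if_neg hc).symm
  rw [hL] at h1
  have hterm : ∀ χ : IrrCharacter G,
      centralChar (χ : G → ℂ) a * conj ((χ : G → ℂ) b) * ∑ u : G, V u⁻¹ * (χ : G → ℂ) u =
        ((Subgroup.centralizer ({a} : Set G)).index : ℂ) * (Nat.card G : ℂ) *
          (classInner V (χ : G → ℂ) * ((χ : G → ℂ) a * (χ : G → ℂ) b / (χ : G → ℂ) 1)) := by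
    intro χ
    have hs : ∑ u : G, V u⁻¹ * (χ : G → ℂ) u = (Nat.card G : ℂ) * classInner V (χ : G → ℂ) := by
      rw [classInner, ← mul_assoc, mul_inv_cancel₀ hG, one_mul]
      refine Fintype.sum_equiv (Equiv.inv G) _ _ fun u => ?_
      simp [conj_apply]
    rw [hs, conj_apply, inv_eq_self hb, centralChar]
    ring
  rw [Finset.sum_congr rfl fun χ _ => hterm χ, ← Finset.mul_sum] at h1
  -- inside `H`
  have h2 : S = (Nat.card G : ℂ) / (Nat.card H : ℂ) *
      ∑ x : H, ∑ y : H, if IsConj a (x : G) ∧ IsConj b (y : G) then v (x * y) else 0 := by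
    have hz : ∑ x : G, ∑ y : G, (if IsConj a x ∧ IsConj b y then extendByZero H v (x * y) else 0) =
        ∑ x : H, ∑ y : H, if IsConj a (x : G) ∧ IsConj b (y : G) then v (x * y) else 0 := by
      have hne : ∀ x y : G, (if IsConj a x ∧ IsConj b y then extendByZero H v (x * y) else 0) ≠ 0 →
          x ∈ H ∧ y ∈ H := by
        intro x y h
        have hc : IsConj a x ∧ IsConj b y := by by_contra hc; exact h (if_neg hc)
        rw [if_pos hc] at h
        have hm : x * y ∈ H := by by_contra hm; exact h (extendByZero_of_not_mem H v hm)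
        rw [extendByZero_of_mem H v hm] at h
        have hx := hH x y (mul_self_eq_one_of_isConj ha hc.1) (mul_self_eq_one_of_isConj hb hc.2)
          ⟨x * y, hm⟩ h rfl
        exact ⟨hx, by simpa using H.mul_mem (H.inv_mem hx) hm⟩
      rw [← Finset.sum_subset (Finset.subset_univ (Finset.univ.filter (· ∈ H))) fun x _ hx =>
        Finset.sum_eq_zero fun y _ => by_contra fun h => hx (by simpa using (hne x y h).1)]
      rw [Finset.sum_subtype (Finset.univ.filter (· ∈ H)) (p := (· ∈ H)) (by simp)]
      refine Finset.sum_congr rfl fun x _ => ?_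
      rw [← Finset.sum_subset (Finset.subset_univ (Finset.univ.filter (· ∈ H))) fun y _ hy =>
        by_contra fun h => hy (by simpa using (hne x y h).2)]
      rw [Finset.sum_subtype (Finset.univ.filter (· ∈ H)) (p := (· ∈ H)) (by simp)]
      refine Finset.sum_congr rfl fun y _ => ?_
      rw [← Subgroup.coe_mul, extendByZero_coe]
    rw [← hz, hS]
    have hexp : ∀ x y : G, (if IsConj a x ∧ IsConj b y then V (x * y) else 0) =
        (Nat.card H : ℂ)⁻¹ * ∑ g : G, if IsConj a x ∧ IsConj b y then
          extendByZero H v (g⁻¹ * x * g * (g⁻¹ * y * g)) else 0 := by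
      intro x y
      split_ifs
      · rw [hVdef]
        simp only [indFun]
        congr 1
        refine Finset.sum_congr rfl fun g _ => ?_
        congr 1
        group
      · simp
    simp only [hexp, ← Finset.mul_sum]
    rw [div_eq_inv_mul, mul_assoc]
    congr 1
    calc _ = ∑ g : G, ∑ x : G, ∑ y : G, (if IsConj a x ∧ IsConj b y then
          extendByZero H v (g⁻¹ * x * g * (g⁻¹ * y * g)) else 0) := by
            rw [Finset.sum_comm (f := fun g x => ∑ y : G, if IsConj a x ∧ IsConj b y then
              extendByZero H v (g⁻¹ * x * g * (g⁻¹ * y * g)) else 0)]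
            exact Finset.sum_congr rfl fun x _ => Finset.sum_comm
      _ = ∑ _g : G, ∑ x : G, ∑ y : G, (if IsConj a x ∧ IsConj b y then
          extendByZero H v (x * y) else 0) := by
            refine Finset.sum_congr rfl fun g _ => ?_
            refine Fintype.sum_equiv (MulAut.conj g⁻¹).toEquiv _ _ fun x => ?_
            refine Fintype.sum_equiv (MulAut.conj g⁻¹).toEquiv _ _ fun y => ?_
            refine if_congr (and_congr ?_ ?_) ?_ rfl
            · exact (isConj_conj_iff a g⁻¹ x).symm
            · exact (isConj_conj_iff b g⁻¹ y).symm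
            · simp
      _ = _ := by simp [Finset.sum_const, Nat.card_eq_fintype_card]
  rw [h2] at h1
  have hia : ((Subgroup.centralizer ({a} : Set G)).index : ℂ) =
      (Nat.card G : ℂ) / (Nat.card (Subgroup.centralizer ({a} : Set G)) : ℂ) := by
    rw [eq_div_iff (by simp), ← Nat.cast_mul, Subgroup.index_mul_card]
  have hib : ((Subgroup.centralizer ({b} : Set G)).index : ℂ) =
      (Nat.card G : ℂ) / (Nat.card (Subgroup.centralizer ({b} : Set G)) : ℂ) := by
    rw [eq_div_iff (by simp), ← Nat.cast_mul, Subgroup.index_mul_card]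
  rw [hia, hib] at h1
  have hca : (Nat.card (Subgroup.centralizer ({a} : Set G)) : ℂ) ≠ 0 := by simp
  have hcb : (Nat.card (Subgroup.centralizer ({b} : Set G)) : ℂ) ≠ 0 := by simp
  field_simp at h1 ⊢
  linear_combination -h1

end CfsgLib.OrderDegrees
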