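import Cfsg.Agent.Lib.CharTheory.Decomp
import Cfsg.Agent.Lib.CharTheory.Degree
import Cfsg.Agent.Lib.CharTheory.Values

/-!
# Linear groups whose `p`-elements do not commute

Generalities on complex representations in which two elements of `p`-power order do not commute.
-/

set_option autoImplicit false
set_option linter.unusedSectionVars false
set_option linter.style.haveILetI false

namespace CfsgLib.OrderDegrees.Linear

open Cfsg CfsgLib.CharTheory Module

/-- An element of `p`-power order. -/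
def PElt (p : ℕ) {G : Type*} [Monoid G] (x : G) : Prop := ∃ k : ℕ, x ^ p ^ k = 1

/-- The images of the elements of `p`-power order commute. -/
def PComm (p : ℕ) {G V : Type*} [Group G] [AddCommGroup V] [Module ℂ V]
    (ρ : Representation ℂ G V) : Prop :=
  ∀ x y : G, PElt p x → PElt p y → ρ x * ρ y = ρ y * ρ x

variable {p : ℕ}

theorem PElt.one {G : Type*} [Monoid G] : PElt p (1 : G) := ⟨0, one_pow _⟩

theorem PElt.map {G H : Type*} [Monoid G] [Monoid H] (f : G →* H) {x : G} (hx : PElt p x) :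
    PElt p (f x) := hx.imp fun k hk => by rw [← map_pow, hk, map_one]

theorem PElt.of_map {G H : Type*} [Monoid G] [Monoid H] {f : G →* H} (hf : Function.Injective f)
    {x : G} (hx : PElt p (f x)) : PElt p x :=
  hx.imp fun k hk => hf (by rw [map_pow, hk, map_one])

theorem PElt.pow {G : Type*} [Monoid G] {x : G} (hx : PElt p x) (n : ℕ) : PElt p (x ^ n) :=
  hx.imp fun k hk => by rw [← pow_mul, mul_comm, pow_mul, hk, one_pow]

theorem PElt.inv {G : Type*} [Group G] {x : G} (hx : PElt p x) : PElt p x⁻¹ :=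
  hx.imp fun k hk => by rw [inv_pow, hk, inv_one]

theorem PElt.conj {G : Type*} [Group G] {x : G} (hx : PElt p x) (a : G) : PElt p (a * x * a⁻¹) :=
  hx.map (MulAut.conj a).toMonoidHom

theorem PElt.orderOf_eq {G : Type*} [Monoid G] [hp : Fact p.Prime] {x : G} (hx : PElt p x) :
    ∃ k, orderOf x = p ^ k := by
  obtain ⟨k, hk⟩ := hx
  obtain ⟨i, -, hi⟩ := (Nat.dvd_prime_pow hp.out).1 (orderOf_dvd_of_pow_eq_one hk)
  exact ⟨i, hi⟩

theorem pElt_of_orderOf {G : Type*} [Monoid G] {x : G} {k : ℕ} (hx : orderOf x = p ^ k) :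
    PElt p x := ⟨k, hx ▸ pow_orderOf_eq_one x⟩

theorem pElt_of_isPGroup {G : Type*} [Group G] {Q : Subgroup G} (hQ : IsPGroup p Q) {x : G}
    (hx : x ∈ Q) : PElt p x :=
  (hQ ⟨x, hx⟩).imp fun k hk => by simpa using congrArg Subtype.val hk

theorem isPGroup_zpowers {G : Type*} [Group G] {x : G} (hx : PElt p x) :
    IsPGroup p (Subgroup.zpowers x) := by
  rintro ⟨y, hy⟩
  obtain ⟨k, hk⟩ := hx
  obtain ⟨n, rfl⟩ := Subgroup.mem_zpowers_iff.1 hy
  refine ⟨k, Subtype.ext ?_⟩
  show (x ^ n) ^ p ^ k = 1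
  rw [← zpow_natCast, ← zpow_mul, mul_comm, zpow_mul, zpow_natCast, hk, one_zpow]

/-- An exponent turning an element into its `p`-part and fixing its `p`-powers. -/
theorem exists_pPart {G : Type*} [Group G] [Finite G] [hp : Fact p.Prime] (g : G) :
    ∃ m : ℕ, PElt p (g ^ m) ∧ ∀ a : ℕ, p ^ a ∣ orderOf g → m ≡ 1 [MOD p ^ a] := by
  obtain ⟨a, r, hr, hn⟩ := Nat.exists_eq_pow_mul_and_not_dvd (orderOf_pos g).ne' p hp.out.ne_one
  have hcop : Nat.Coprime (p ^ a) r := ((hp.out.coprime_iff_not_dvd).2 hr).pow_left a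
  obtain ⟨m, hm1, hm2⟩ := Nat.chineseRemainder hcop 1 0
  refine ⟨m, ⟨a, ?_⟩, fun j hj => hm1.of_dvd ?_⟩
  · obtain ⟨c, hc⟩ := Nat.modEq_zero_iff_dvd.1 hm2
    rw [← pow_mul, hc, show r * c * p ^ a = orderOf g * c by rw [hn]; ring, pow_mul,
      pow_orderOf_eq_one, one_pow]
  · rw [hn] at hj
    exact (((hp.out.coprime_iff_not_dvd).2 hr).pow_left j).dvd_of_dvd_mul_right hj

theorem PElt.pow_eq_self {G : Type*} [Monoid G] [Fact p.Prime] {y : G} (hy : PElt p y) {n m : ℕ}
    (hn : y ^ n = 1) (hm : ∀ a : ℕ, p ^ a ∣ n → m ≡ 1 [MOD p ^ a]) : y ^ m = y := by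
  obtain ⟨j, hj⟩ := hy.orderOf_eq
  rw [← pow_mod_orderOf, hj, hm j (hj ▸ orderOf_dvd_of_pow_eq_one hn), ← hj, pow_mod_orderOf, pow_one]

variable {G V : Type*} [Group G] [AddCommGroup V] [Module ℂ V] {ρ : Representation ℂ G V}

/-- The restriction to a subgroup. -/
abbrev res (ρ : Representation ℂ G V) (M : Subgroup G) : Representation ℂ M V := ρ.comp M.subtype

theorem PComm.commute (h : PComm p ρ) (hρ : Function.Injective ρ) {x y : G} (hx : PElt p x)
    (hy : PElt p y) : x * y = y * x :=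
  hρ (by rw [map_mul, map_mul]; exact h x y hx hy)

theorem exists_of_not_pComm (h : ¬ PComm p ρ) :
    ∃ x y : G, PElt p x ∧ PElt p y ∧ ρ x * ρ y ≠ ρ y * ρ x := by
  unfold PComm at h
  push Not at h
  exact h

theorem pComm_of_sup {q r s : Subrepresentation ρ} (hs : q ⊔ r = s)
    (hq : PComm p q.toRepresentation) (hr : PComm p r.toRepresentation) :
    PComm p s.toRepresentation := by
  intro x y hx hy
  refine LinearMap.ext fun v => Subtype.ext ?_
  obtain ⟨a, ha, b, hb, hab⟩ := Submodule.mem_sup.1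
    (show (v : V) ∈ q.toSubmodule ⊔ r.toSubmodule by
      rw [← Subrepresentation.toSubmodule_sup, hs]; exact v.2)
  have e1 : ρ x (ρ y a) = ρ y (ρ x a) :=
    congrArg Subtype.val (LinearMap.congr_fun (hq x y hx hy) ⟨a, ha⟩)
  have e2 : ρ x (ρ y b) = ρ y (ρ x b) :=
    congrArg Subtype.val (LinearMap.congr_fun (hr x y hx hy) ⟨b, hb⟩)
  show ρ x (ρ y (v : V)) = ρ y (ρ x (v : V))
  rw [← hab, map_add, map_add, map_add, map_add, e1, e2]

theorem pComm_of_top (h : PComm p (⊤ : Subrepresentation ρ).toRepresentation) : PComm p ρ := by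
  intro x y hx hy
  refine LinearMap.ext fun v => ?_
  exact congrArg Subtype.val (LinearMap.congr_fun (h x y hx hy) ⟨v, trivial⟩)

/-- The two parts of an invariant decomposition determine the action. -/
theorem eq_of_isCompl {r c : Subrepresentation ρ} (hc : IsCompl r c) {f f' : Module.End ℂ V}
    (h1 : ∀ v ∈ r.toSubmodule, f v = f' v) (h2 : ∀ v ∈ c.toSubmodule, f v = f' v) : f = f' := by
  refine LinearMap.ext fun v => ?_
  obtain ⟨a, ha, b, hb, hab⟩ := Submodule.mem_sup.1
    (show v ∈ r.toSubmodule ⊔ c.toSubmodule by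
      rw [← Subrepresentation.toSubmodule_sup, hc.sup_eq_top]; trivial)
  rw [← hab, map_add, map_add, h1 a ha, h2 b hb]

theorem finrank_compl [FiniteDimensional ℂ V] {r c : Subrepresentation ρ} (hc : IsCompl r c) :
    finrank ℂ r.toSubmodule + finrank ℂ c.toSubmodule = finrank ℂ V := by
  refine Submodule.finrank_add_eq_of_isCompl ⟨?_, ?_⟩
  · rw [disjoint_iff, ← Subrepresentation.toSubmodule_inf, hc.inf_eq_bot]; rfl
  · rw [codisjoint_iff, ← Subrepresentation.toSubmodule_sup, hc.sup_eq_top]; rfl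

/-- An irreducible summand on which two `p`-elements do not commute. -/
theorem exists_big [Finite G] [FiniteDimensional ℂ V] (hV : ¬ PComm p ρ) :
    ∃ r c : Subrepresentation ρ, IsCompl r c ∧ r.toRepresentation.IsIrreducible ∧
      ¬ PComm p r.toRepresentation := by
  suffices H : ∀ s : Subrepresentation ρ,
      PComm p s.toRepresentation ∨ ∃ a : Subrepresentation ρ, IsAtom a ∧ ¬ PComm p a.toRepresentation by
    rcases H ⊤ with h | ⟨a, ha, hna⟩
    · exact absurd (pComm_of_top h) hV
    · obtain ⟨c, hc⟩ := exists_isCompl a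
      exact ⟨a, c, hc, isIrreducible_of_isAtom ha, hna⟩
  refine subrep_induction ρ (Or.inl fun x y _ _ => LinearMap.ext fun v => ?_) (fun a ha => ?_) ?_
  · exact Subtype.ext (((Submodule.mem_bot ℂ).1 (Subtype.prop _)).trans
      ((Submodule.mem_bot ℂ).1 (Subtype.prop _)).symm)
  · exact (Classical.em (PComm p a.toRepresentation)).imp id fun h => ⟨a, ha, h⟩
  · rintro q r s hs - (hq | hq) (hr | hr)
    · exact Or.inl (pComm_of_sup hs hq hr)
    all_goals first | exact Or.inr hq | exact Or.inr hr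

theorem pComm_of_finrank_le_one [FiniteDimensional ℂ V] (h : finrank ℂ V ≤ 1) : PComm p ρ := by
  intro x y _ _
  rcases Nat.lt_or_ge (finrank ℂ V) 1 with h0 | h1
  · haveI : Subsingleton V := (Module.finrank_zero_iff (R := ℂ)).1 (by omega)
    exact LinearMap.ext fun v => Subsingleton.elim _ _
  obtain ⟨v₀, -, hgen⟩ := finrank_eq_one_iff'.1 (le_antisymm h h1)
  refine LinearMap.ext fun v => ?_
  obtain ⟨a, rfl⟩ := hgen v
  obtain ⟨b, hb⟩ := hgen (ρ x v₀)
  obtain ⟨c, hc⟩ := hgen (ρ y v₀)
  simp only [Module.End.mul_apply, map_smul, ← hb, ← hc, smul_smul, mul_comm b c]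

/-- A faithful `p`-group of degree less than `p` is abelian. -/
theorem commute_of_pGroup [Finite G] [hp : Fact p.Prime] [FiniteDimensional ℂ V]
    (hd : finrank ℂ V < p) (hρ : Function.Injective ρ) {Q : Subgroup G} (hQ : IsPGroup p Q)
    {x y : G} (hx : x ∈ Q) (hy : y ∈ Q) : x * y = y * x := by
  by_contra hne
  have hn : ¬ PComm p (res ρ Q) := fun h => hne (hρ (by
    rw [map_mul, map_mul]
    exact h ⟨x, hx⟩ ⟨y, hy⟩ (hQ _) (hQ _)))
  obtain ⟨r, c, -, hirr, hnr⟩ := exists_big hn
  haveI := hirr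
  haveI : Fintype Q := Fintype.ofFinite Q
  have h1 := finrank_dvd_card r.toRepresentation
  obtain ⟨k, hk⟩ := hQ.exists_card_eq
  rw [hk] at h1
  obtain ⟨i, -, hi⟩ := (Nat.dvd_prime_pow hp.out).1 h1
  refine hnr (pComm_of_finrank_le_one (le_of_eq ?_))
  rcases i with _ | i
  · rw [hi, pow_zero]
  · have h2 := Submodule.finrank_le r.toSubmodule
    have h3 : p ≤ p ^ (i + 1) := Nat.le_self_pow (Nat.succ_ne_zero i) p
    omega

theorem exists_scalar_of_mem_center [FiniteDimensional ℂ V] [ρ.IsIrreducible] {z : G}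
    (hz : z ∈ Subgroup.center G) : ∃ c : ℂ, ρ z = c • (1 : Module.End ℂ V) :=
  exists_smul_of_commute ρ (ρ z) fun g => by
    show ρ z * ρ g = ρ g * ρ z
    rw [← map_mul, ← map_mul, Subgroup.mem_center_iff.1 hz g]

theorem mem_center_of_scalar (hρ : Function.Injective ρ) {z : G} {c : ℂ}
    (hc : ρ z = c • (1 : Module.End ℂ V)) : z ∈ Subgroup.center G :=
  Subgroup.mem_center_iff.2 fun g => hρ (by
    rw [map_mul, map_mul, hc, mul_smul_comm, smul_mul_assoc, mul_one, one_mul])

/-- A normal subgroup with non-commuting `p`-elements of an irreducible group of degree `< p - 1`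
acts irreducibly, once such subgroups have degree at least `(p - 1) / 2`. -/
theorem isIrreducible_of_normal [Finite G] [FiniteDimensional ℂ V] [ρ.IsIrreducible]
    (M : Subgroup G) [M.Normal] (hM : ¬ PComm p (res ρ M)) (hd : finrank ℂ V + 1 < p)
    (hsmall : ∀ r : Subrepresentation (res ρ M), r.toRepresentation.IsIrreducible →
      ¬ PComm p r.toRepresentation → p ≤ 2 * finrank ℂ r.toSubmodule + 1) :
    (res ρ M).IsIrreducible := by
  obtain ⟨r, c, -, hirr, hnr⟩ := exists_big hM
  haveI := hirr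
  have hm := hsmall r hirr hnr
  have hinv : ∀ g : G, ∀ v ∈ r.toSubmodule, ρ g v ∈ r.toSubmodule := by
    intro g
    let s : Subrepresentation (res ρ M) :=
      ⟨r.toSubmodule.map (ρ g), by
        rintro ⟨n, hn⟩ w ⟨v, hv, rfl⟩
        refine ⟨ρ (g⁻¹ * n * g) v, r.apply_mem_toSubmodule
          (⟨g⁻¹ * n * g, by simpa using Subgroup.Normal.conj_mem ‹M.Normal› n hn g⁻¹⟩ : M) hv, ?_⟩
        show ρ g (ρ (g⁻¹ * n * g) v) = ρ n (ρ g v)
        rw [← Module.End.mul_apply, ← map_mul, ← Module.End.mul_apply, ← map_mul]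
        congr 2
        group⟩
    have hinj : Function.Injective (ρ g) := fun a b hab => by
      have := congrArg (ρ g⁻¹) hab
      rwa [← Module.End.mul_apply, ← Module.End.mul_apply, ← map_mul, inv_mul_cancel, map_one,
        Module.End.one_apply, Module.End.one_apply] at this
    have hsr : finrank ℂ s.toSubmodule = finrank ℂ r.toSubmodule :=
      (LinearEquiv.finrank_eq (Submodule.equivMapOfInjective _ hinj _)).symm
    let i : Subrepresentation r.toRepresentation :=
      ⟨s.toSubmodule.comap r.toSubmodule.subtype, fun n v hv => s.apply_mem_toSubmodule n hv⟩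
    rcases IsSimpleOrder.eq_bot_or_eq_top i with h | h
    · exfalso
      have hinf : r.toSubmodule ⊓ s.toSubmodule = ⊥ := by
        refine eq_bot_iff.2 fun v hv => ?_
        have hv' : (⟨v, hv.1⟩ : r.toSubmodule) ∈ i.toSubmodule := hv.2
        rw [h] at hv'
        exact (Submodule.mem_bot ℂ).2 (congrArg Subtype.val ((Submodule.mem_bot ℂ).1 hv'))
      have h1 := Submodule.finrank_sup_add_finrank_inf_eq r.toSubmodule s.toSubmodule
      rw [hinf, finrank_bot, hsr] at h1
      have h2 := Submodule.finrank_le (r.toSubmodule ⊔ s.toSubmodule)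
      omega
    · have hle : r.toSubmodule ≤ s.toSubmodule := fun v hv => by
        have hv' : (⟨v, hv⟩ : r.toSubmodule) ∈ i.toSubmodule := by rw [h]; trivial
        exact hv'
      have heq := Submodule.eq_of_le_of_finrank_le hle hsr.le
      intro v hv
      rw [heq]
      exact ⟨v, hv, rfl⟩
  rcases IsSimpleOrder.eq_bot_or_eq_top (⟨r.toSubmodule, hinv⟩ : Subrepresentation ρ) with h | h
  · exfalso
    have h' : r.toSubmodule = ⊥ := congrArg Subrepresentation.toSubmodule h
    have := finrank_pos_of_isIrreducible r.toRepresentation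
    rw [Submodule.finrank_eq_zero.2 h'] at this
    exact absurd this (lt_irrefl 0)
  · have h' : r.toSubmodule = ⊤ := congrArg Subrepresentation.toSubmodule h
    have hr : r = ⊤ := Subrepresentation.toSubmodule_injective h'
    subst hr
    exact isIrreducible_of_equiv (topEquiv (res ρ M))

end CfsgLib.OrderDegrees.Linear
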