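import Cfsg.Agent.Lib.OrderDegrees.LinearExact
import Cfsg.Agent.S0899

/-!
# Non-commuting `p`-elements force degree at least `(p - 1) / 2`
-/

set_option autoImplicit false
set_option linter.unusedSectionVars false
set_option linter.style.haveILetI false

namespace CfsgLib.OrderDegrees.Linear

open Cfsg CfsgLib.CharTheory Module

variable {p : ℕ} [hp : Fact p.Prime]

section Image

variable {G V : Type*} [Group G] [AddCommGroup V] [Module ℂ V]

/-- The image in the units. -/
noncomputable def img (ρ : Representation ℂ G V) : Subgroup (Module.End ℂ V)ˣ :=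
  (MonoidHom.toHomUnits ρ).range

/-- The inclusion of the image. -/
noncomputable def imgRep (ρ : Representation ℂ G V) : Representation ℂ (img ρ) V :=
  (Units.coeHom _).comp (img ρ).subtype

/-- The map onto the image. -/
noncomputable def toImg (ρ : Representation ℂ G V) : G →* img ρ :=
  (MonoidHom.toHomUnits ρ).rangeRestrict

variable {ρ : Representation ℂ G V}

theorem imgRep_toImg (g : G) : imgRep ρ (toImg ρ g) = ρ g := rfl

theorem toImg_surjective : Function.Surjective (toImg ρ) :=
  (MonoidHom.toHomUnits ρ).rangeRestrict_surjective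

theorem imgRep_injective : Function.Injective (imgRep ρ) :=
  fun _ _ h => Subtype.ext (Units.ext h)

theorem finite_img [Finite G] : Finite (img ρ) := Finite.of_surjective _ toImg_surjective

theorem card_img_dvd [Finite G] : Nat.card (img ρ) ∣ Nat.card G :=
  Subgroup.card_dvd_of_surjective _ toImg_surjective

theorem isIrreducible_imgRep [ρ.IsIrreducible] [FiniteDimensional ℂ V] :
    (imgRep ρ).IsIrreducible := by
  haveI := nontrivial_of_isIrreducible ρ
  haveI : Nontrivial (Subrepresentation (imgRep ρ)) := ⟨⊥, ⊤, fun h =>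
    bot_ne_top (α := Submodule ℂ V) (congrArg Subrepresentation.toSubmodule h)⟩
  refine ⟨fun q => ?_⟩
  rcases IsSimpleOrder.eq_bot_or_eq_top
    (⟨q.toSubmodule, fun g v hv => q.apply_mem_toSubmodule (toImg ρ g) hv⟩ : Subrepresentation ρ)
    with h | h
  · exact Or.inl (Subrepresentation.toSubmodule_injective
      (show q.toSubmodule = ⊥ from congrArg Subrepresentation.toSubmodule h))
  · exact Or.inr (Subrepresentation.toSubmodule_injective
      (show q.toSubmodule = ⊤ from congrArg Subrepresentation.toSubmodule h))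

theorem exists_pElt_lift [Finite G] {z : img ρ} (hz : PElt p z) :
    ∃ x : G, PElt p x ∧ toImg ρ x = z := by
  obtain ⟨x, rfl⟩ := toImg_surjective z
  obtain ⟨m, hm, hm'⟩ := exists_pPart (p := p) x
  exact ⟨x ^ m, hm, by
    rw [map_pow]
    exact hz.pow_eq_self (by rw [← map_pow, pow_orderOf_eq_one, map_one]) hm'⟩

theorem not_pComm_imgRep (h : ¬ PComm p ρ) : ¬ PComm p (imgRep ρ) := fun hc =>
  h fun x y hx hy => hc (toImg ρ x) (toImg ρ y) (hx.map _) (hy.map _)

end Image

/-- A Sylow subgroup is normal when the elements of `p`-power order commute. -/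
theorem sylow_normal_of_commute {G : Type*} [Group G] [Finite G]
    (h : ∀ x y : G, PElt p x → PElt p y → x * y = y * x) (P : Sylow p G) :
    (P : Subgroup G).Normal := by
  refine ⟨fun x hx g => ?_⟩
  have hy : PElt p (g * x * g⁻¹) := (pElt_of_isPGroup P.isPGroup' hx).conj g
  have hle : Subgroup.zpowers (g * x * g⁻¹) ≤ Subgroup.normalizer ((P : Subgroup G) : Set G) := by
    rw [Subgroup.zpowers_le, Subgroup.mem_normalizer_iff]
    intro z
    constructor
    · intro hz
      rwa [h _ z hy (pElt_of_isPGroup P.isPGroup' hz), mul_inv_cancel_right]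
    · intro hz
      have h1 := h _ _ hy (pElt_of_isPGroup P.isPGroup' hz)
      simp only [mul_assoc, mul_left_cancel_iff] at h1
      have h2 : g * x * g⁻¹ * z * (g * x * g⁻¹)⁻¹ = z := by
        have h3 : Commute (g * x * g⁻¹) (g * x * g⁻¹ * z * (g * x * g⁻¹)⁻¹) :=
          h _ _ hy (pElt_of_isPGroup P.isPGroup' hz)
        have h4 : g * x * g⁻¹ * z * (g * x * g⁻¹)⁻¹ =
            (g * x * g⁻¹)⁻¹ * (g * x * g⁻¹ * z * (g * x * g⁻¹)⁻¹) * (g * x * g⁻¹) := by
          rw [mul_assoc _ _ (g * x * g⁻¹), ← h3.eq, inv_mul_cancel_left]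
        rw [h4]
        group
      rwa [h2] at hz
  have hpg := IsPGroup.to_sup_of_normal_left' P.isPGroup' (isPGroup_zpowers hy) hle
  have heq := P.is_maximal' hpg le_sup_left
  exact heq ▸ (le_sup_right : Subgroup.zpowers (g * x * g⁻¹) ≤ _) (Subgroup.mem_zpowers _)

variable {G V : Type*} [Group G] [AddCommGroup V] [Module ℂ V] [FiniteDimensional ℂ V]
  {ρ : Representation ℂ G V}

theorem exists_big_img [Finite G] (hd : finrank ℂ V + 1 < p) (hnc : ¬ PComm p ρ) :
    ∃ m : ℕ, m ≤ finrank ℂ V ∧ ∀ _ : ¬ p ^ 2 ∣ Nat.card G, p ≤ 2 * m + 1 := by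
  obtain ⟨r, c, -, hirr, hnr⟩ := exists_big hnc
  haveI := hirr
  refine ⟨finrank ℂ r.toSubmodule, Submodule.finrank_le _, fun hsq => ?_⟩
  haveI := finite_img (ρ := r.toRepresentation)
  haveI := isIrreducible_imgRep (ρ := r.toRepresentation)
  have hle := Submodule.finrank_le r.toSubmodule
  exact (eigen_spec (ρ := imgRep r.toRepresentation) imgRep_injective (by omega)
    (not_pComm_imgRep hnr) fun h => hsq (h.trans card_img_dvd)).1

theorem small_injective [Finite G] (hρ : Function.Injective ρ) (hd : finrank ℂ V + 1 < p)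
    (hnc : ¬ PComm p ρ) : p ≤ 2 * finrank ℂ V + 1 := by
  by_contra hlt
  have hρ' : Function.Injective (conjRep ρ (Module.finBasis ℂ V).equivFun) := fun a b h => by
    refine hρ (LinearMap.ext fun v => ?_)
    have h' := LinearMap.congr_fun h ((Module.finBasis ℂ V).equivFun v)
    rw [conjRep_apply, conjRep_apply, LinearEquiv.symm_apply_apply] at h'
    exact (Module.finBasis ℂ V).equivFun.injective h'
  have hall : ∀ P : Sylow p G, (P : Subgroup G).Normal := by
    refine fun P => Cfsg.Agent.S0899.result _ _ hρ' p (Or.inr ⟨hd, fun K hK Q => ?_⟩) P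
    refine sylow_normal_of_commute (fun x y hx hy => ?_) Q
    have hK' : PComm p (res ρ K) := by
      by_contra hn
      obtain ⟨m, hm, hm'⟩ := exists_big_img (ρ := res ρ K) hd hn
      have := hm' hK
      omega
    exact hK'.commute (fun a b h => Subtype.ext (hρ h)) hx hy
  obtain ⟨x, y, hx, hy, hxy⟩ := exists_of_not_pComm hnc
  obtain ⟨P⟩ : Nonempty (Sylow p G) := inferInstance
  haveI := hall P
  haveI := Sylow.unique_of_normal P (hall P)
  have hmem : ∀ z : G, PElt p z → z ∈ (P : Subgroup G) := fun z hz => by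
    obtain ⟨Q, hQ⟩ := (isPGroup_zpowers hz).exists_le_sylow
    rw [Subsingleton.elim P Q]
    exact hQ (Subgroup.mem_zpowers z)
  apply hxy
  rw [← map_mul, ← map_mul, commute_of_pGroup (by omega) hρ P.isPGroup' (hmem x hx) (hmem y hy)]

/-- Non-commuting `p`-elements force degree at least `(p - 1) / 2`. -/
theorem small [Finite G] (hd : finrank ℂ V + 1 < p) (hnc : ¬ PComm p ρ) :
    p ≤ 2 * finrank ℂ V + 1 := by
  haveI := finite_img (ρ := ρ)
  exact small_injective (ρ := imgRep ρ) imgRep_injective hd (not_pComm_imgRep hnc)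

theorem isIrreducible_res_normal [Finite G] [ρ.IsIrreducible] (M : Subgroup G) [M.Normal]
    (hM : ¬ PComm p (res ρ M)) (hd : finrank ℂ V + 1 < p) : (res ρ M).IsIrreducible :=
  isIrreducible_of_normal M hM hd fun r _ hnr => by
    have := Submodule.finrank_le r.toSubmodule
    exact small (by omega) hnr

/-- The `p`-elements of a normal subgroup on which they commute are central. -/
theorem mem_center_of_normal [Finite G] [ρ.IsIrreducible] (hρ : Function.Injective ρ)
    (hd : finrank ℂ V + 1 < p) (hnc : ¬ PComm p ρ) (M : Subgroup G) [M.Normal]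
    (hM : PComm p (res ρ M)) {x : G} (hx : x ∈ M) (hxp : PElt p x) : x ∈ Subgroup.center G := by
  classical
  have hcomm : ∀ a b : G, a ∈ M → b ∈ M → PElt p a → PElt p b → a * b = b * a := fun a b ha hb h1 h2 =>
    congrArg Subtype.val (hM.commute (fun _ _ h => Subtype.ext (hρ h))
      (PElt.of_map (f := M.subtype) M.subtype_injective (x := ⟨a, ha⟩) h1)
      (PElt.of_map (f := M.subtype) M.subtype_injective (x := ⟨b, hb⟩) h2))
  let Q : Subgroup G :=
    { carrier := {a | a ∈ M ∧ PElt p a}
      one_mem' := ⟨M.one_mem, PElt.one⟩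
      mul_mem' := by
        rintro a b ⟨ha, k, hk⟩ ⟨hb, l, hl⟩
        refine ⟨M.mul_mem ha hb, k + l, ?_⟩
        rw [(show Commute a b from hcomm a b ha hb ⟨k, hk⟩ ⟨l, hl⟩).mul_pow, pow_add,
          pow_mul, hk, one_pow, mul_comm (p ^ k), pow_mul, hl, one_pow, mul_one]
      inv_mem' := fun ⟨ha, h⟩ => ⟨M.inv_mem ha, h.inv⟩ }
  haveI : Q.Normal := ⟨fun a ha g => ⟨Subgroup.Normal.conj_mem ‹_› a ha.1 g, ha.2.conj g⟩⟩
  have hQ : IsPGroup p Q := fun a => a.2.2.imp fun k hk => Subtype.ext (by simpa using hk)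
  have hxy : ∀ y : G, PElt p y → x * y = y * x := fun y hy =>
    commute_of_pGroup (by omega) hρ (IsPGroup.to_sup_of_normal_left hQ (isPGroup_zpowers hy))
      ((le_sup_left : Q ≤ _) ⟨hx, hxp⟩)
      ((le_sup_right : Subgroup.zpowers y ≤ _) (Subgroup.mem_zpowers y))
  let O : Subgroup G := Subgroup.closure {y : G | PElt p y}
  haveI : O.Normal := by
    refine ⟨fun a ha g => ?_⟩
    have : O ≤ O.comap (MulAut.conj g).toMonoidHom := (Subgroup.closure_le _).2 fun y hy =>
      Subgroup.subset_closure (PElt.conj hy g)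
    exact this ha
  have hmemO : ∀ y : G, PElt p y → y ∈ O := fun y hy => Subgroup.subset_closure hy
  have hO : ¬ PComm p (res ρ O) := fun h => hnc fun a b ha hb =>
    h ⟨a, hmemO a ha⟩ ⟨b, hmemO b hb⟩ (PElt.of_map (f := O.subtype) O.subtype_injective ha)
      (PElt.of_map (f := O.subtype) O.subtype_injective hb)
  haveI := isIrreducible_res_normal O hO hd
  have hOC : O ≤ Subgroup.centralizer {x} := (Subgroup.closure_le _).2 fun y hy =>
    Subgroup.mem_centralizer_singleton_iff.2 (hxy y hy).symm
  obtain ⟨c, hc⟩ := exists_smul_of_commute (res ρ O) (ρ x) fun g => by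
    show ρ x * ρ (g : G) = ρ (g : G) * ρ x
    rw [← map_mul, ← map_mul, (Subgroup.mem_centralizer_singleton_iff.1 (hOC g.2))]
  exact mem_center_of_scalar hρ (c := c) hc

end CfsgLib.OrderDegrees.Linear
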