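import Cfsg.Agent.Lib.OrderDegrees.NineteenPrincipal

/-!
# The product of a character of degree `16` with its conjugate
-/

set_option autoImplicit false
set_option linter.style.haveILetI false
set_option linter.unusedSectionVars false

namespace CfsgLib.OrderDegrees.Nineteen

open Cfsg CfsgLib.CharTheory CfsgLib.Blocks CfsgLib.DefectOne CfsgLib.SmallGroups
open CfsgLib.SmallGroups.SmallDegree CfsgLib.SmallGroups.QuasiSimple Finset
open CfsgLib.ZerosCodegree (powTwist powTwist_apply classInner_powTwist)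

open scoped ComplexConjugate Classical

variable {G : Type*} [Group G] [Fintype G] {p : ℕ} [hp : Fact p.Prime]

/-- What is known about the product on the regular elements. -/
structure Setup [Fintype (IrrCharacter G)] (S : Sect G p) where
  /-- the member of the principal family -/
  f : IrrCharacter G
  /-- the member of the family of degree `16` -/
  P : IrrCharacter G
  /-- the first fixed member -/
  x : IrrCharacter G
  /-- the second fixed member -/
  y : IrrCharacter G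
  /-- its sign -/
  εx : ℤ
  /-- its sign -/
  εy : ℤ
  /-- the parameter of the degree -/
  L : ℕ
  /-- the multiplicity of `x` -/
  nx : ℕ
  /-- the multiplicity of `y` -/
  ny : ℕ
  /-- the multiplicities of the others -/
  R : IrrCharacter G → ℕ
  L_pos : 1 ≤ L
  deg_f : charDegree (f : G → ℂ) = 19 * L + 3
  deg_P : charDegree (P : G → ℂ) = 16
  f_central : HasCentral S (1 : S.V →* ℂˣ) (f : G → ℂ)
  fix_x : Fixed S x εx
  fix_y : Fixed S y εy
  rel : ∀ g, ¬ p ∣ orderOf g → (f : G → ℂ) g = 1 + εx * (x : G → ℂ) g + εy * (y : G → ℂ) g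
  decomp : ∀ g, ¬ p ∣ orderOf g → (P : G → ℂ) g * conj ((P : G → ℂ) g) =
    3 * (f : G → ℂ) g + nx * (x : G → ℂ) g + ny * (y : G → ℂ) g +
      ∑ χ : IrrCharacter G, (R χ : ℂ) * (χ : G → ℂ) g
  neg_x : εx = -1 → 1 ≤ nx
  neg_y : εy = -1 → 1 ≤ ny
  R_central : ∀ χ, R χ ≠ 0 → HasCentral S (1 : S.V →* ℂˣ) (χ : G → ℂ)
  R_dvd : ∀ χ, R χ ≠ 0 → p ∣ charDegree (χ : G → ℂ)
  R_ne : ∀ χ, R χ ≠ 0 → χ ≠ trivIrr G
  tw_f : ∀ k (hk : FixExp S k), tw k hk.1 f = f
  tw_P : ∀ k (hk : FixExp S k), tw k hk.1 P = P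
  tw_x : charDegree (x : G → ℂ) ≠ charDegree (y : G → ℂ) → ∀ k (hk : FixExp S k), tw k hk.1 x = x
  tw_y : charDegree (x : G → ℂ) ≠ charDegree (y : G → ℂ) → ∀ k (hk : FixExp S k), tw k hk.1 y = y
  tw_R : ∀ k (hk : FixExp S k) χ, R (tw k hk.1 χ) = R χ

/-- The symmetric setup. -/
def Setup.swap [Fintype (IrrCharacter G)] {S : Sect G p} (D : Setup S) : Setup S where
  f := D.f
  P := D.P
  x := D.y
  y := D.x
  εx := D.εy
  εy := D.εx
  L := D.L
  nx := D.ny
  ny := D.nx
  R := D.R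
  L_pos := D.L_pos
  deg_f := D.deg_f
  deg_P := D.deg_P
  f_central := D.f_central
  fix_x := D.fix_y
  fix_y := D.fix_x
  rel g hg := by rw [D.rel g hg]; ring
  decomp g hg := by rw [D.decomp g hg]; ring
  neg_x := D.neg_y
  neg_y := D.neg_x
  R_central := D.R_central
  R_dvd := D.R_dvd
  R_ne := D.R_ne
  tw_f := D.tw_f
  tw_P := D.tw_P
  tw_x hne := D.tw_y (Ne.symm hne)
  tw_y hne := D.tw_x (Ne.symm hne)
  tw_R := D.tw_R

theorem neg_one_cube : ((-1 : ZMod 19)) ^ 3 ≠ 1 ^ 3 := by decide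

variable {S : Sect G p} {ψ : G → ℂ} (h : Hyp S ψ) (hp19 : p = 19)
  (he : rowE S (trivIrr S.V) = 3)

include h hp19 he

theorem nonempty_setup [Fintype (IrrCharacter G)] (hD : charDegree ψ = 16) : Nonempty (Setup S) := by
  have hG := h.exact
  have hc := h.cent
  have hlt : rowE S (trivIrr S.V) < p - 1 := by omega
  obtain ⟨M, hM⟩ := exists_isPModular_of_prime hG.prime
  haveI := isPrime_of_isPModular hM
  obtain ⟨X₁, X₀, L, hL1, hX₁, hX₀, hmult⟩ := exists_families h hp19 he hD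
  obtain ⟨x, y, εx, εy, hx, hy, hxy, hlist, hrel⟩ := exists_principal h hp19 he X₀
  set H := eGroup S (trivIrr S.V) with hH
  have h1 : (1 : ZMod p) ≠ 0 := one_ne_zero
  have hm1 : (-1 : ZMod p) ≠ 0 := neg_ne_zero.2 one_ne_zero
  have hneg : -(1 : ZMod p) ∉ orb H 1 := by
    rw [Upper.mem_orb_iff_pow one_ne_zero, show Nat.card H = 3 from he]
    subst hp19
    exact neg_one_cube
  set F : G → ℂ := fun g => (X₁.x 1 : G → ℂ) g * conj ((X₁.x (-1) : G → ℂ) g) with hF
  set F' : G → ℂ := fun g => (X₁.x 1 : G → ℂ) g * conj ((X₁.x (-(-1)) : G → ℂ) g) with hF'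
  have hchar : ∀ b, IsCharacter G fun g => (X₁.x 1 : G → ℂ) g * conj ((X₁.x b : G → ℂ) g) := fun b =>
    CfsgLib.CharTheory.isCharacter_mul (IsIrrCharacter.isCharacter (X₁.x 1).2)
      (CfsgLib.CharTheory.isCharacter_conj (IsIrrCharacter.isCharacter (X₁.x b).2))
  have hcen : ∀ b, HasCentral S (1 : S.V →* ℂˣ)
      fun g => (X₁.x 1 : G → ℂ) g * conj ((X₁.x b : G → ℂ) g) := fun b g v => by
    simp only [X₁.central 1 g v, X₁.central b g v, map_mul, MonoidHom.one_apply, Units.val_one]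
    linear_combination ((X₁.x 1 : G → ℂ) g * conj ((X₁.x b : G → ℂ) g)) * mul_conj_linear h.lamHom v
  obtain ⟨m, hm⟩ := IsCharacter.exists_sum (hchar (-1))
  have hmi : ∀ χ : IrrCharacter G, classInner F (χ : G → ℂ) = (m χ : ℂ) := fun χ => by
    rw [hF, hm, classInner_sum_irr]
  obtain ⟨m', hm'⟩ := IsCharacter.exists_sum (hchar (-(-1)))
  have hmi' : ∀ χ : IrrCharacter G, classInner F' (χ : G → ℂ) = (m' χ : ℂ) := fun χ => by
    rw [hF', hm', classInner_sum_irr]
  -- membership in the principal set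
  have htc : HasCentral S (1 : S.V →* ℂˣ) (trivIrr G : G → ℂ) := hasCentral_one.2 fun g v => rfl
  have hin : ∀ {c : IrrCharacter G} (ε : ℂ), HasCentral S (1 : S.V →* ℂˣ) (c : G → ℂ) →
      (∃ k : (ZMod p)ˣ, (c : G → ℂ) (S.u ^ (k : ZMod p).val) ≠ 0) →
      rowT hG S c (trivIrr S.V) ≠ 0 := fun {c} _ hc' hv => by
    rw [← linIrr_one]; exact rowT_of_val h hc' hv
  have hεne : ∀ {c : IrrCharacter G} {ε : ℤ}, Fixed S c ε → (ε : ℂ) ≠ 0 := fun {c ε} hf => by
    rcases hf.sign with h' | h' <;> rw [h'] <;> norm_num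
  have hfixin : ∀ {c : IrrCharacter G} {ε : ℤ}, Fixed S c ε → rowT hG S c (trivIrr S.V) ≠ 0 :=
    fun {c ε} hf => hin 0 hf.central ⟨1, by rw [hf.val]; exact hεne hf⟩
  have htin : rowT hG S (trivIrr G) (trivIrr S.V) ≠ 0 := hin 0 htc ⟨1, by simp [trivIrr_apply]⟩
  have hXin : ∀ z, z ≠ 0 → rowT hG S (X₀.x z) (trivIrr S.V) ≠ 0 := fun z hz =>
    hin 0 (X₀.central z) (fam_not_const h X₀ hz hlt 0)
  have hXne : ∀ z, z ≠ 0 → ∀ {c : IrrCharacter G} (ε : ℂ),
      (∀ k : (ZMod p)ˣ, (c : G → ℂ) (S.u ^ (k : ZMod p).val) = ε) → X₀.x z ≠ c :=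
    fun z hz c ε hv hzc => by
      obtain ⟨k, hk⟩ := fam_not_const h X₀ hz hlt ε
      exact hk (by rw [hzc, hv])
  set Y : Finset (IrrCharacter G) := ((univ : Finset (ZMod p)).erase 0).image X₀.x with hY
  set Φ : Finset (IrrCharacter G) := univ.filter fun χ => rowT hG S χ (trivIrr S.V) ≠ 0 with hΦ
  have htY : ∀ {c : IrrCharacter G} (ε : ℂ),
      (∀ k : (ZMod p)ˣ, (c : G → ℂ) (S.u ^ (k : ZMod p).val) = ε) → c ∉ Y := fun {c} ε hv hcY => by
    obtain ⟨z, hz, hzc⟩ := mem_image.1 hcY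
    exact hXne z (ne_of_mem_erase hz) ε hv hzc
  have hΦeq : Φ = insert (trivIrr G) (insert x (insert y Y)) := by
    ext χ
    simp only [hΦ, hY, mem_filter, mem_univ, true_and, mem_insert, mem_image, mem_erase, and_true]
    refine ⟨fun hχ => hlist χ hχ, ?_⟩
    rintro (rfl | rfl | rfl | ⟨z, hz, rfl⟩)
    · exact htin
    · exact hfixin hx
    · exact hfixin hy
    · exact hXin z hz
  have ht0 : classInner F (trivIrr G : G → ℂ) = 0 := by
    have e : classInner F (trivIrr G : G → ℂ) = classInner (X₁.x 1 : G → ℂ) (X₁.x (-1) : G → ℂ) := by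
      simp [classInner, hF, trivIrr_apply]
    rw [e, classInner_irrCharacter, if_neg fun hx' => hneg (X₁.mem_orb_of_eq hG S h1 hm1 hx'.symm)]
  have ht1 : classInner F' (trivIrr G : G → ℂ) = 1 := by
    have e : classInner F' (trivIrr G : G → ℂ) = classInner (X₁.x 1 : G → ℂ) (X₁.x 1 : G → ℂ) := by
      simp [classInner, hF', trivIrr_apply]
    rw [e, classInner_irrCharacter, if_pos rfl]
  -- the multiplicities of the fixed members
  have hdiff : ∀ {c : IrrCharacter G} {ε : ℤ}, Fixed S c ε → (m c : ℤ) = m' c - ε := fun {c ε} hf => by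
    have hcl : IsClassFunction G (F - F') := fun a b => by
      have ha : F (b * a * b⁻¹) = F a := IsCharacter.isClassFunction (hchar (-1)) a b
      have hb : F' (b * a * b⁻¹) = F' a := IsCharacter.isClassFunction (hchar (-(-1))) a b
      rw [Pi.sub_apply, Pi.sub_apply, ha, hb]
    have hDc : HasCentral S (1 : S.V →* ℂˣ) (F - F') := fun g v => by
      simp only [Pi.sub_apply, hF, hF', hcen (-1) g v, hcen (-(-1)) g v, mul_sub]
    have h0 : ∀ g, ¬ p ∣ orderOf g → (F - F') g = 0 := fun g hg => by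
      simp only [Pi.sub_apply, hF, hF', X₁.reg (-1) (-(-1)) g hg, sub_self]
    have hA := inner_singular hG S hc hcl (IsIrrCharacter.isClassFunction c.2) hDc hf.central
      fun g hg => by rw [h0 g hg, zero_mul]
    have hB := inner_singular hG S hc hcl (IsIrrCharacter.isClassFunction (trivIrr G).2) hDc htc
      fun g hg => by rw [h0 g hg, zero_mul]
    rw [classInner_sub_left, hmi, hmi',
      sum_congr rfl fun k _ => by rw [hf.val, map_intCast], ← sum_mul] at hA
    simp only [trivIrr_apply, map_one, mul_one] at hB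
    rw [classInner_sub_left, ht0, ht1] at hB
    apply Int.cast_injective (α := ℂ)
    push_cast
    refine mul_left_cancel₀ (mul_ne_zero (Nat.cast_ne_zero.2 (rowE_pos hG S (trivIrr S.V)).ne')
      (Nat.cast_ne_zero.2 hp.out.ne_zero : (p : ℂ) ≠ 0)) ?_
    linear_combination hA - (ε : ℂ) * hB
  -- the members of the family in the product
  have hsumY : ∑ χ ∈ Y, m χ = 3 := by
    have h9 : ∑ z ∈ (univ : Finset (ZMod p)).erase 0, m (X₀.x z) = 9 := by
      have hcz : ∀ z ∈ (univ : Finset (ZMod p)).erase 0, m (X₀.x z) = circ H 1 1 z := fun z hz => by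
        have h' := hmult 1 1 z h1 h1 (ne_of_mem_erase hz)
        have h'' := (hmi (X₀.x z)).symm.trans h'
        exact_mod_cast h''
      have h' := sum_circ (H := H) h1 h1
      rw [if_neg hneg, add_zero, show Nat.card H = 3 from he] at h'
      rw [sum_congr rfl hcz, h']
    have h3 : ∑ z ∈ (univ : Finset (ZMod p)).erase 0, m (X₀.x z) = 3 * ∑ χ ∈ Y, m χ := by
      rw [mul_sum, hY, ← sum_fiberwise_of_maps_to (g := X₀.x)
        (t := ((univ : Finset (ZMod p)).erase 0).image X₀.x) (fun z hz => mem_image_of_mem _ hz)]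
      refine sum_congr rfl fun χ hχ => ?_
      obtain ⟨a, ha, rfl⟩ := mem_image.1 hχ
      have ha0 := ne_of_mem_erase ha
      rw [sum_congr rfl (g := fun _ => m (X₀.x a)) fun z hz => by rw [(mem_filter.1 hz).2], sum_const,
        smul_eq_mul, ← he, rowE, ← card_orb ha0]
      congr 2
      ext b
      simp only [mem_filter, mem_erase, mem_univ, and_true]
      exact ⟨fun hb => X₀.mem_orb_of_eq hG S ha0 hb.1 hb.2,
        fun hb => ⟨ne_zero_of_mem_orb ha0 hb, X₀.eq_of_mem_orb hG S hc ha0 hb⟩⟩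
    omega
  -- invariance
  have hFtw : ∀ k (hk : FixExp S k), powTwist k F = F := fun k hk => funext fun g => by
    show (tw k hk.1 (X₁.x 1) : G → ℂ) g * conj ((tw k hk.1 (X₁.x (-1)) : G → ℂ) g) = _
    rw [tw_fam h X₁ hlt hk h1, tw_fam h X₁ hlt hk hm1]
  have hfixtw : ∀ {c : IrrCharacter G} {ε : ℤ}, Fixed S c ε → ∀ k (hk : FixExp S k),
      tw k hk.1 c = x ∨ tw k hk.1 c = y := fun {c ε} hf k hk => by
    have hval : ∀ i : (ZMod p)ˣ, (tw k hk.1 c : G → ℂ) (S.u ^ (i : ZMod p).val) = ε := fun i => by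
      rw [tw_apply, hk.apply_pow, hf.val]
    rcases hlist (tw k hk.1 c) (hin 0 (hk.hasCentral hc hf.central)
      ⟨1, by rw [hval]; exact hεne hf⟩) with h' | h' | h' | ⟨z, hz, h'⟩
    · exfalso
      have h2 := charDegree_tw hk.1 c
      rw [h', charDegree] at h2
      simp only [trivIrr_apply, Complex.one_re, Nat.floor_one] at h2
      have := hf.large
      omega
    · exact Or.inl h'
    · exact Or.inr h'
    · exact absurd h' (hXne z hz _ hval)
  have hΦtw : ∀ k (hk : FixExp S k), ∀ χ ∈ Φ, tw k hk.1 χ ∈ Φ := fun k hk χ hχ => by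
    rw [hΦeq] at hχ ⊢
    simp only [hY, mem_insert, mem_image, mem_erase, mem_univ, and_true] at hχ ⊢
    rcases hχ with rfl | rfl | rfl | ⟨z, hz, rfl⟩
    · exact Or.inl (Subtype.ext (funext fun g => rfl))
    · rcases hfixtw hx k hk with h' | h'
      · exact Or.inr (Or.inl h')
      · exact Or.inr (Or.inr (Or.inl h'))
    · rcases hfixtw hy k hk with h' | h'
      · exact Or.inr (Or.inl h')
      · exact Or.inr (Or.inr (Or.inl h'))
    · exact Or.inr (Or.inr (Or.inr ⟨z, hz, (tw_fam h X₀ hlt hk hz).symm⟩))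
  refine ⟨⟨X₀.x 1, X₁.x 1, x, y, εx, εy, L, m x, m y, fun χ => if χ ∈ Φ then 0 else m χ, hL1, hX₀,
    hX₁ 1, X₀.central 1, hx, hy, hrel, fun g hg => ?_, fun hε => ?_, fun hε => ?_, fun χ hχ => ?_,
    fun χ hχ => ?_, fun χ hχ => ?_, fun k hk => tw_fam h X₀ hlt hk h1,
    fun k hk => tw_fam h X₁ hlt hk h1, fun hne k hk => ?_, fun hne k hk => ?_, fun k hk χ => ?_⟩⟩
  · have hFg : (X₁.x 1 : G → ℂ) g * conj ((X₁.x 1 : G → ℂ) g) = F g := by
      simp only [hF, X₁.reg (-1) 1 g hg]
    rw [hFg, show F g = ∑ χ : IrrCharacter G, (m χ : ℂ) * (χ : G → ℂ) g by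
      refine (congrFun hm g).trans ?_
      simp [Finset.sum_apply]]
    have hsplit : ∑ χ : IrrCharacter G, (m χ : ℂ) * (χ : G → ℂ) g =
        ∑ χ ∈ Φ, (m χ : ℂ) * (χ : G → ℂ) g +
          ∑ χ : IrrCharacter G, ((if χ ∈ Φ then 0 else m χ : ℕ) : ℂ) * (χ : G → ℂ) g := by
      rw [← sum_filter_add_sum_filter_not univ (· ∈ Φ), filter_mem_eq_inter, univ_inter]
      congr 1
      rw [sum_filter]
      exact sum_congr rfl fun χ _ => by split_ifs <;> simp
    rw [hsplit]
    congr 1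
    have htx : trivIrr G ∉ insert x (insert y Y) := by
      simp only [mem_insert, not_or]
      exact ⟨hx.ne_triv.symm, hy.ne_triv.symm, htY 1 fun k => rfl⟩
    have hxy' : x ∉ insert y Y := by
      simp only [mem_insert, not_or]
      exact ⟨hxy, htY _ hx.val⟩
    rw [hΦeq, sum_insert htx, sum_insert hxy', sum_insert (htY _ hy.val),
      show (m (trivIrr G) : ℂ) = 0 by rw [← hmi]; exact ht0,
      sum_congr rfl (g := fun χ => (m χ : ℂ) * (X₀.x 1 : G → ℂ) g) fun χ hχ => by
        obtain ⟨z, -, rfl⟩ := mem_image.1 hχ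
        rw [X₀.reg z 1 g hg],
      ← sum_mul, ← Nat.cast_sum, hsumY]
    push_cast
    ring
  · have := hdiff hx; omega
  · have := hdiff hy; omega
  · simp only [ne_eq, ite_eq_left_iff, not_forall, exists_prop] at hχ
    have hne : classInner F (χ : G → ℂ) ≠ 0 := by rw [hmi]; exact Nat.cast_ne_zero.2 hχ.2
    exact hasCentral_one.2 fun g v => by
      have h' := apply_mul_of_constituent (f := F) (h.center_eq.ge v.2) (μ := 1)
        (fun g => by rw [hF, hcen (-1) g v, MonoidHom.one_apply, Units.val_one]) hne g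
      rwa [one_mul] at h'
  · simp only [ne_eq, ite_eq_left_iff, not_forall, exists_prop] at hχ
    have hne : classInner F (χ : G → ℂ) ≠ 0 := by rw [hmi]; exact Nat.cast_ne_zero.2 hχ.2
    have hcχ : HasCentral S (1 : S.V →* ℂˣ) (χ : G → ℂ) := hasCentral_one.2 fun g v => by
      have h' := apply_mul_of_constituent (f := F) (h.center_eq.ge v.2) (μ := 1)
        (fun g => by rw [hF, hcen (-1) g v, MonoidHom.one_apply, Units.val_one]) hne g
      rwa [one_mul] at h'
    by_contra hd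
    obtain ⟨φ, hφ⟩ := (not_dvd_degree_iff hG S hM χ).1 hd
    have hφ1 := eq_linIrr_of_rowT_ne hG hcχ hφ
    rw [linIrr_one] at hφ1
    rw [hφ1] at hφ
    exact hχ.1 (mem_filter.2 ⟨mem_univ _, hφ⟩)
  · simp only [ne_eq, ite_eq_left_iff, not_forall, exists_prop] at hχ
    rintro rfl
    exact hχ.1 (mem_filter.2 ⟨mem_univ _, htin⟩)
  · refine (hfixtw hx k hk).resolve_right fun h' => hne ?_
    rw [← charDegree_tw hk.1 x, h']
  · refine (hfixtw hy k hk).resolve_left fun h' => hne ?_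
    rw [← charDegree_tw hk.1 y, h']
  · have hmem : tw k hk.1 χ ∈ Φ ↔ χ ∈ Φ := by
      refine ⟨fun hχ => ?_, hΦtw k hk χ⟩
      have himg : Φ.image (tw k hk.1) = Φ := eq_of_subset_of_card_le
        (image_subset_iff.2 (hΦtw k hk)) (card_image_of_injective _ (tw_injective hk.1)).ge
      rw [← himg, mem_image] at hχ
      obtain ⟨c, hc', hce⟩ := hχ
      rwa [← tw_injective hk.1 hce]
    have hmm : m (tw k hk.1 χ) = m χ := by
      apply Nat.cast_injective (R := ℂ)
      rw [← hmi, ← hmi]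
      conv_lhs => rw [← hFtw k hk]
      exact classInner_powTwist hk.1 _ _
    simp only [hmem, hmm]

end CfsgLib.OrderDegrees.Nineteen
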