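import Cfsg.Agent.Lib.SmallGroups.QuasiSimpleValues
import Cfsg.Agent.Lib.DefectOne.SmallDegree

/-!
# Constant values on an element of order `11`

If a character trivial on the center is constant on the generators of `⟨u⟩`, `|⟨u⟩| = 11`, its
value `z` satisfies `10 z = g r a`, with `g` and `r` dividing `10` and `a` a degree of the regular
part of the centralizer modulo the center.
-/

set_option autoImplicit false
set_option linter.style.haveILetI false
set_option linter.unusedSectionVars false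

namespace CfsgLib.OrderDegrees.Nineteen

open Cfsg CfsgLib.CharTheory CfsgLib.Blocks CfsgLib.DefectOne Finset
open CfsgLib.SmallGroups.QuasiSimple (apply_mul_of_constituent)

open scoped Classical

variable {G : Type*} [Group G] [Fintype G] {q : ℕ} [hq : Fact q.Prime] (hG : ExactPrime G q)
  (S : Sect G q)

include hG

theorem card_orbit_dvd (φ : IrrCharacter S.V) : Nat.card (MulAction.orbit S.N φ) ∣ q - 1 := by
  obtain ⟨M, hM⟩ := exists_isPModular_of_prime hG.prime
  haveI := isPrime_of_isPModular hM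
  refine Dvd.dvd.trans ?_ ((dvd_of_eq (rowE_trivIrr S hG)).trans (rowE_dvd hG S _))
  rw [Nat.card_coe_set_eq, ← MulAction.index_stabilizer, Subgroup.relIndex]
  refine Subgroup.index_dvd_of_le fun c hc => ?_
  rw [Subgroup.mem_subgroupOf, Subgroup.mem_centralizer_iff] at hc
  rw [MulAction.mem_stabilizer_iff]
  obtain ⟨x, hx, v, hv⟩ := exists_decomp S.ord hG.sq hM S.V.subtype S.range_subtype
    (hc S.u (Subgroup.mem_zpowers _)).symm
  refine (S.smul_eq_iff c _ _).2 fun w => ?_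
  rw [← IsIrrCharacter.isClassFunction φ.2 w v]
  refine congrArg (φ : S.V → ℂ) (Subtype.ext ?_)
  rw [Sect.conjV_apply, Subgroup.coe_mul, Subgroup.coe_mul, Subgroup.coe_inv]
  have hxw : Commute x ((v : G) * (w : G) * (v : G)⁻¹) := by
    obtain ⟨i, rfl⟩ := Subgroup.mem_zpowers_iff.1 hx
    exact (((S.comm v).mul_left (S.comm w)).mul_left (S.comm v).inv_left).symm.zpow_left i
  have hv' : (c : G) = x * (v : G) := hv
  calc (c : G) * (w : G) * (c : G)⁻¹ = x * ((v : G) * (w : G) * (v : G)⁻¹) * x⁻¹ := by rw [hv']; group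
    _ = _ := by rw [hxw.eq, mul_inv_cancel_right]

/-- The sum of the values at the generators of `⟨u⟩`. -/
theorem sum_values {M : Ideal AlgInt} [M.IsPrime] (hM : IsPModular q M) [Fintype (IrrCharacter S.V)]
    (χ : IrrCharacter G) :
    (∀ φ, rowT hG S χ φ = 0) ∧ ∑ k : (ZMod q)ˣ, (χ : G → ℂ) (S.u ^ (k : ZMod q).val) = 0 ∨
      ∃ (φ : IrrCharacter S.V) (s : ℤ), rowT hG S χ φ = s ∧ (s = 1 ∨ s = -1) ∧
        ∑ k : (ZMod q)ˣ, (χ : G → ℂ) (S.u ^ (k : ZMod q).val) =
          (s : ℂ) * ((galStab hG χ * (Nat.card (MulAction.orbit S.N φ) * charDegree (φ : S.V → ℂ)) : ℕ) : ℂ) := by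
  have hT : ∑ k : (ZMod q)ˣ, (χ : G → ℂ) (S.u ^ (k : ZMod q).val) =
      (galStab hG χ : ℂ) * ∑ φ : IrrCharacter S.V, rowT hG S χ φ * (φ : S.V → ℂ) 1 := by
    calc ∑ k : (ZMod q)ˣ, (χ : G → ℂ) (S.u ^ (k : ZMod q).val)
        = ∑ k : (ZMod q)ˣ, ∑ φ : IrrCharacter S.V,
            row S (χ : G → ℂ) φ (k : ZMod q).val * (φ : S.V → ℂ) 1 := sum_congr rfl fun k _ => by
          rw [← apply_eq_sum_row S (IsIrrCharacter.isClassFunction χ.2), OneMemClass.coe_one, mul_one]
      _ = _ := by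
          rw [sum_comm, mul_sum]
          exact sum_congr rfl fun φ _ => by rw [← sum_mul, sum_row_units hG]; ring
  by_cases hall : ∀ φ, rowT hG S χ φ = 0
  · refine Or.inl ⟨hall, ?_⟩
    rw [hT, sum_eq_zero fun φ _ => by rw [hall, zero_mul], mul_zero]
  push Not at hall
  obtain ⟨φ, hφ⟩ := hall
  obtain ⟨s, hs, hs3⟩ := (rowT_spec hG S hM χ).1 φ
  have hs1 : s = 1 ∨ s = -1 := hs3.resolve_left fun h0 => hφ (by rw [hs, h0, Int.cast_zero])
  refine Or.inr ⟨φ, s, hs, hs1, ?_⟩
  rw [hT, ← sum_subset (s₁ := univ.filter (· ∈ MulAction.orbit S.N φ)) (subset_univ _) fun ψ _ hψ => ?_]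
  · rw [sum_congr rfl (g := fun _ => (s : ℂ) * (charDegree (φ : S.V → ℂ) : ℂ)) fun ψ hψ => ?_,
      sum_const, nsmul_eq_mul, ← Fintype.card_subtype, ← Nat.card_eq_fintype_card]
    · push_cast; ring
    · obtain ⟨y, rfl⟩ := (mem_filter.1 hψ).2
      rw [rowT_smul hG, hs, ← S.charDegree_smul y φ, charDegree_cast]
  · have : rowT hG S χ ψ = 0 := by
      by_contra h0
      exact hψ (mem_filter.2 ⟨mem_univ _, (rowT_ne_zero_iff hG S hM hφ ψ).1 h0⟩)
    rw [this, zero_mul]

/-- A character vanishing at the generators vanishes on their sections. -/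
theorem apply_sect_eq_zero (χ : IrrCharacter G)
    (h0 : ∀ k : (ZMod q)ˣ, (χ : G → ℂ) (S.u ^ (k : ZMod q).val) = 0) (k : (ZMod q)ˣ) (v : S.V) :
    (χ : G → ℂ) (S.u ^ (k : ZMod q).val * v) = 0 := by
  obtain ⟨M, hM⟩ := exists_isPModular_of_prime hG.prime
  haveI := isPrime_of_isPModular hM
  haveI := Fintype.ofFinite (IrrCharacter S.V)
  rcases sum_values hG S hM χ with ⟨hall, -⟩ | ⟨φ, s, -, hs, hsum⟩
  · rw [apply_eq_sum_row S (IsIrrCharacter.isClassFunction χ.2)]
    refine sum_eq_zero fun φ _ => ?_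
    have : rowU S χ φ k = 0 := by
      by_contra h'
      exact (count hG S hM φ).1 χ ⟨k, h'⟩ (hall φ)
    rw [show row S (χ : G → ℂ) φ (k : ZMod q).val = 0 from this, zero_mul]
  · exfalso
    rw [sum_eq_zero fun k _ => h0 k, eq_comm, mul_eq_zero, Int.cast_eq_zero, Nat.cast_eq_zero] at hsum
    rcases hsum with h' | h'
    · omega
    · have h1 := galStab_pos hG χ
      have h2 : charDegree (φ : S.V → ℂ) ≠ 0 := charDegree_ne_zero' φ
      have h3 : 0 < Nat.card (MulAction.orbit S.N φ) :=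
        Nat.pos_of_ne_zero fun h3 => not_dvd_card_orbit hG S φ (by rw [h3]; exact dvd_zero _)
      simp only [mul_eq_zero] at h'
      omega

/-- The value is `0`, or neither a multiple of `8` nor of `q`. -/
theorem value_cases (hq11 : q = 11)
    (hodd : ∀ v ∈ S.V, v * v ∈ Subgroup.center G → v ∈ Subgroup.center G)
    (χ : IrrCharacter G) (hχ : ∀ g, ∀ z ∈ Subgroup.center G, (χ : G → ℂ) (g * z) = (χ : G → ℂ) g)
    {z : ℤ} (hval : ∀ k : (ZMod q)ˣ, (χ : G → ℂ) (S.u ^ (k : ZMod q).val) = z) :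
    z = 0 ∨ (¬ (8 : ℤ) ∣ z ∧ ¬ (11 : ℤ) ∣ z) := by
  obtain ⟨M, hM⟩ := exists_isPModular_of_prime hG.prime
  haveI := isPrime_of_isPModular hM
  haveI := Fintype.ofFinite (IrrCharacter S.V)
  have hz10 : ∑ k : (ZMod q)ˣ, (χ : G → ℂ) (S.u ^ (k : ZMod q).val) = ((10 * z : ℤ) : ℂ) := by
    rw [sum_congr rfl fun k _ => hval k, sum_const, card_univ, ZMod.card_units, nsmul_eq_mul,
      show q - 1 = 10 by omega]
    push_cast; ring
  rcases sum_values hG S hM χ with ⟨-, hsum⟩ | ⟨φ, s, hsφ, hs, hsum⟩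
  · rw [hz10, Int.cast_eq_zero] at hsum
    exact Or.inl (by omega)
  rw [hz10] at hsum
  set g := galStab hG χ with hg
  set r := Nat.card (MulAction.orbit S.N φ) with hr
  set a := charDegree (φ : S.V → ℂ) with ha
  have hq1 : q - 1 = 10 := by omega
  have hg10 : g ∣ 10 := (galStab_dvd hG χ).trans (dvd_of_eq hq1)
  have hr10 : r ∣ 10 := (card_orbit_dvd hG S φ).trans (dvd_of_eq hq1)
  -- the degree of `φ`
  set N : Subgroup S.V := (Subgroup.center G).subgroupOf S.V with hN
  have hφN : ∀ v ∈ N, (φ : S.V → ℂ) v = (φ : S.V → ℂ) 1 := fun v hv => by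
    have hv' : (v : G) ∈ Subgroup.center G := Subgroup.mem_subgroupOf.1 hv
    obtain ⟨k, hk⟩ : ∃ k : (ZMod q)ˣ, row S (χ : G → ℂ) φ (k : ZMod q).val ≠ 0 := by
      by_contra hno
      push Not at hno
      have h' := sum_row_units hG S χ φ
      rw [sum_eq_zero fun k _ => hno k, hsφ, eq_comm, mul_eq_zero, Nat.cast_eq_zero, Int.cast_eq_zero] at h'
      have := galStab_pos hG χ
      omega
    have h' := apply_mul_of_constituent (G := S.V) (f := fun v : S.V => (χ : G → ℂ) (S.u ^ (k : ZMod q).val * v))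
      (z := v) (Subgroup.mem_center_iff.2 fun w => Subtype.ext (Subgroup.mem_center_iff.1 hv' w)) (μ := 1)
      (fun w => by
        show (χ : G → ℂ) (_ * ((w : G) * (v : G))) = _
        rw [← mul_assoc, hχ _ _ hv', one_mul]) hk 1
    rwa [one_mul, one_mul] at h'
  obtain ⟨φ', hφ', hφeq⟩ := exists_descend φ.2 N hφN
  haveI : Fintype (S.V ⧸ N) := Fintype.ofFinite _
  obtain ⟨d, -, hd, hd'⟩ := CharTheory.IsIrrCharacter.exists_degree_dvd hφ'
  have had : a = d := by
    rw [ha, charDegree, hφeq 1, QuotientGroup.mk_one, hd', Complex.natCast_re, Nat.floor_natCast]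
  have hodd' : ¬ 2 ∣ a := fun h2 => by
    haveI : Fact (Nat.Prime 2) := ⟨Nat.prime_two⟩
    obtain ⟨x, hx⟩ := exists_prime_orderOf_dvd_card' (G := S.V ⧸ N) 2 ((had ▸ h2).trans hd)
    obtain ⟨v, rfl⟩ := QuotientGroup.mk_surjective x
    have hvv : v * v ∈ N := by
      rw [← QuotientGroup.eq_one_iff, QuotientGroup.mk_mul, ← sq, ← hx, pow_orderOf_eq_one]
    have hvN : v ∈ N := Subgroup.mem_subgroupOf.2 (hodd v v.2 (Subgroup.mem_subgroupOf.1 hvv))
    rw [(QuotientGroup.eq_one_iff v).2 hvN, orderOf_one] at hx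
    omega
  have haq : ¬ 11 ∣ a := fun h11 => by
    refine S.not_dvd_card ((dvd_of_eq hq11).trans ?_)
    refine ((had ▸ h11).trans hd).trans ?_
    rw [← Subgroup.card_mul_index N, Subgroup.index]
    exact dvd_mul_left _ _
  have hnat : 10 * z.natAbs = g * (r * a) := by
    have h' : (10 * z : ℤ) = s * ((g * (r * a) : ℕ) : ℤ) := by exact_mod_cast hsum
    have h'' := congrArg Int.natAbs h'
    rw [Int.natAbs_mul, Int.natAbs_mul, Int.natAbs_natCast] at h''
    rcases hs with rfl | rfl <;> simpa using h''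
  have hga : g = 1 ∨ g = 2 ∨ g = 5 ∨ g = 10 := by
    have := Nat.le_of_dvd (by norm_num) hg10
    interval_cases g <;> omega
  have hra : r = 1 ∨ r = 2 ∨ r = 5 ∨ r = 10 := by
    have := Nat.le_of_dvd (by norm_num) hr10
    interval_cases r <;> omega
  refine Or.inr ⟨fun h8 => ?_, fun h11 => ?_⟩
  · have h8' : 8 ∣ z.natAbs := by exact_mod_cast Int.natAbs_dvd_natAbs.2 h8
    rcases hga with hg' | hg' | hg' | hg' <;> rcases hra with hr' | hr' | hr' | hr' <;>
      (rw [hg', hr'] at hnat; omega)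
  · have h11' : 11 ∣ z.natAbs := by exact_mod_cast Int.natAbs_dvd_natAbs.2 h11
    rcases hga with hg' | hg' | hg' | hg' <;> rcases hra with hr' | hr' | hr' | hr' <;>
      (rw [hg', hr'] at hnat; omega)

end CfsgLib.OrderDegrees.Nineteen
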