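import Cfsg.Agent.Lib.OrderDegrees.NineteenTools
import Cfsg.Agent.Lib.OrderDegrees.NineteenDecomp
import Cfsg.Agent.Lib.OrderDegrees.NineteenLocal
import Cfsg.Agent.Lib.OrderDegrees.LinearSmall

/-!
# No quasi-simple group of degree `16` with three classes exponents at the prime `19`
-/

set_option autoImplicit false
set_option linter.style.haveILetI false
set_option linter.unusedSectionVars false

namespace CfsgLib.OrderDegrees.Nineteen

open Cfsg CfsgLib.CharTheory CfsgLib.Blocks CfsgLib.DefectOne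
open CfsgLib.SmallGroups.QuasiSimple Finset

open scoped ComplexConjugate Classical

variable {G : Type*} [Group G] [Fintype G]

theorem charDegree_dvd (χ : IrrCharacter G) : charDegree (χ : G → ℂ) ∣ Nat.card G := by
  obtain ⟨d, -, hd, hd'⟩ := CharTheory.IsIrrCharacter.exists_degree_dvd χ.2
  rwa [charDegree, hd', Complex.natCast_re, Nat.floor_natCast]

/-- A fixed constituent in a small invariant weighted sum. -/
theorem exists_fixed {q : ℕ} [Fact q.Prime] (hG : ExactPrime G q) [Fintype (IrrCharacter G)]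
    (hq : q = 11) (wt : IrrCharacter G → ℕ) (hinv : ∀ k χ, wt (gal hG k χ) = wt χ)
    (hdvd : ∀ χ, 19 ∣ wt χ) {r : ℕ} (hr : r = 1 ∨ r = 3) (hsum : ∑ χ, wt χ = 19 * r) :
    ∃ χ, (∀ k, gal hG k χ = χ) ∧ (wt χ = 19 ∨ (r = 3 ∧ wt χ = 57 ∧ ∀ c, c ≠ χ → wt c = 0)) := by
  have horbit : ∀ χ, ∑ c ∈ galOrb hG χ, wt c = (galOrb hG χ).card * wt χ := fun χ => by
    rw [sum_congr rfl (g := fun _ => wt χ) fun c hc => ?_, sum_const, smul_eq_mul]
    obtain ⟨k, rfl⟩ := (mem_galOrb hG).1 hc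
    exact hinv k χ
  have hle : ∀ χ, (galOrb hG χ).card * wt χ ≤ 19 * r := fun χ => by
    rw [← hsum, ← horbit]
    exact sum_le_sum_of_subset (subset_univ _)
  have hsplit : ∀ χ c, c ∉ galOrb hG χ →
      (galOrb hG χ).card * wt χ + (galOrb hG c).card * wt c ≤ 19 * r := fun χ c hc => by
    rw [← hsum, ← horbit, ← horbit, ← sum_union (disjoint_left.2 fun a ha ha' => hc (by
      rw [← galOrb_eq hG ha, galOrb_eq hG ha']; exact mem_galOrb_self hG c))]
    exact sum_le_sum_of_subset (subset_univ _)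
  have hother : ∀ χ, (galOrb hG χ).card * wt χ < 19 * r → ∃ c, 19 ≤ wt c ∧ c ∉ galOrb hG χ := fun χ hlt => by
    by_contra hno
    push Not at hno
    have h' : ∑ c ∈ galOrb hG χ, wt c = 19 * r := by
      rw [← hsum]
      refine sum_subset (subset_univ _) fun c _ hc => ?_
      obtain ⟨e, he⟩ := hdvd c
      rcases Nat.eq_zero_or_pos e with rfl | he0
      · omega
      · exact absurd (hno c (by omega)) hc
    rw [horbit] at h'
    omega
  have hcard : ∀ c, 19 ≤ wt c → (galOrb hG c).card = 1 ∨ (galOrb hG c).card = 2 := fun c hc => by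
    have h1 := hle c
    have h3 : (galOrb hG c).card * 19 ≤ (galOrb hG c).card * wt c := Nat.mul_le_mul_left _ hc
    have h4 : galStab hG c * (galOrb hG c).card = 10 := (card_galOrb_mul hG c).trans (by omega)
    have h5 : (galOrb hG c).card ≤ 3 := by omega
    generalize (galOrb hG c).card = n at h4 h5 ⊢
    generalize galStab hG c = g at h4
    interval_cases n <;> omega
  have hfixed : ∀ χ, (galOrb hG χ).card = 1 → ∀ k, gal hG k χ = χ := fun χ h1 k => by
    obtain ⟨c, hc⟩ := card_eq_one.1 h1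
    have ha : gal hG k χ ∈ galOrb hG χ := (mem_galOrb hG).2 ⟨k, rfl⟩
    have hb := mem_galOrb_self hG χ
    rw [hc, mem_singleton] at ha hb
    rw [ha, hb]
  obtain ⟨χ₀, h₀⟩ : ∃ χ, 19 ≤ wt χ := by
    by_contra hno
    push Not at hno
    rw [sum_eq_zero fun χ _ => by obtain ⟨e, he⟩ := hdvd χ; have := hno χ; omega] at hsum
    omega
  obtain ⟨χ, hχ, h1⟩ : ∃ χ, 19 ≤ wt χ ∧ (galOrb hG χ).card = 1 := by
    by_contra hno
    push Not at hno
    have h2 : ∀ c, 19 ≤ wt c → (galOrb hG c).card = 2 := fun c hc =>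
      (hcard c hc).resolve_left (hno c hc)
    obtain ⟨e, he⟩ := hdvd χ₀
    have hA := hle χ₀
    rw [h2 χ₀ h₀] at hA
    obtain ⟨c, hc, hcn⟩ := hother χ₀ (by rw [h2 χ₀ h₀]; omega)
    have hB := hsplit χ₀ c hcn
    rw [h2 χ₀ h₀, h2 c hc] at hB
    omega
  obtain ⟨e, he⟩ := hdvd χ
  have hA := hle χ
  rw [h1, one_mul] at hA
  rcases (show e = 1 ∨ e = 2 ∨ e = 3 by omega) with rfl | rfl | rfl
  · exact ⟨χ, hfixed χ h1, Or.inl he⟩
  · obtain ⟨c, hc, hcn⟩ := hother χ (by rw [h1]; omega)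
    have hB := hsplit χ c hcn
    rw [h1, one_mul] at hB
    rcases hcard c hc with h' | h' <;> rw [h'] at hB
    · exact ⟨c, hfixed c h', Or.inl (by omega)⟩
    · omega
  · refine ⟨χ, hfixed χ h1, Or.inr ⟨by omega, by omega, fun c hcχ => ?_⟩⟩
    have hcn : c ∉ galOrb hG χ := fun hm => by
      obtain ⟨k, hk⟩ := (mem_galOrb hG).1 hm
      exact hcχ (by rw [← hk, hfixed χ h1 k])
    have hB := hsplit χ c hcn
    rw [h1, one_mul] at hB
    by_contra h0
    have h6 : 1 * wt c ≤ (galOrb hG c).card * wt c :=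
      Nat.mul_le_mul_right _ (card_pos.2 ⟨c, mem_galOrb_self hG c⟩)
    obtain ⟨e, he'⟩ := hdvd c
    omega

variable {p : ℕ} [hp : Fact p.Prime] {S : Sect G p} {ψ : G → ℂ} (h : Hyp S ψ)

include h

/-- A prime not dividing the degree does not divide the order of the center. -/
theorem not_dvd_center_of {r : ℕ} (hr : r.Prime) (hrd : ¬ r ∣ charDegree ψ) :
    ¬ r ∣ Nat.card (Subgroup.center G) := by
  intro hd
  haveI := Fact.mk hr
  obtain ⟨⟨z, hz⟩, ho⟩ := exists_prime_orderOf_dvd_card' (G := Subgroup.center G) r hd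
  rw [Subgroup.orderOf_mk] at ho
  obtain ⟨n, ρ, hρ⟩ := IsIrrCharacter.isCharacter h.irr
  obtain ⟨c, hc⟩ := h.exists_scalar ρ hρ hz
  have hn : n = charDegree ψ := by
    rw [charDegree, ← hρ, Representation.char_one, Module.finrank_fin_fun, Complex.natCast_re,
      Nat.floor_natCast]
  have hdet : c ^ n = 1 := by
    have h' := det_eq_one h.perfect ρ z
    rwa [hc, LinearMap.det_smul, LinearMap.det_id, mul_one, Module.finrank_fin_fun] at h'
  have hcr : c ^ r = 1 := by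
    haveI : NeZero n := ⟨by rintro rfl; exact hrd (by rw [← hn]; exact dvd_zero r)⟩
    have h' : ρ (z ^ r) = (c ^ r) • (LinearMap.id : (Fin n → ℂ) →ₗ[ℂ] _) := by
      rw [map_pow, hc, ← Module.End.one_eq_id, smul_pow, one_pow]
    rw [← ho, pow_orderOf_eq_one, map_one, ho] at h'
    have h'' := congrFun (LinearMap.congr_fun h' (fun _ => 1)) 0
    simpa using h''.symm
  have hc1 : c = 1 := by
    have := pow_gcd_eq_one.2 ⟨hdet, hcr⟩
    rwa [(hr.coprime_iff_not_dvd.2 (hn ▸ hrd)).symm.gcd_eq_one, pow_one] at this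
  have hz1 : z = 1 := h.faith z (by
    rw [← hρ, ρ.char_one, character_eq_finrank_iff, hc, hc1, one_smul])
  rw [hz1, orderOf_one] at ho
  exact hr.ne_one ho.symm

/-- Large primes do not divide the order. -/
theorem not_dvd_of_big {r : ℕ} (hr : r.Prime) (hbig : 2 * charDegree ψ + 1 < r) (hrp : r ≠ p) :
    ¬ r ∣ Nat.card G := by
  intro hd
  haveI := Fact.mk hr
  obtain ⟨n, ρ, hρ⟩ := IsIrrCharacter.isCharacter h.irr
  have hn : n = charDegree ψ := by
    rw [charDegree, ← hρ, Representation.char_one, Module.finrank_fin_fun, Complex.natCast_re,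
      Nat.floor_natCast]
  have hρi : Function.Injective ρ := fun a b hab => by
    refine eq_of_mul_inv_eq_one (h.faith _ ?_)
    rw [← hρ, Representation.character, Representation.character, map_mul, hab, ← map_mul,
      mul_inv_cancel]
  have hfin : Module.finrank ℂ (Fin n → ℂ) = n := Module.finrank_fin_fun _
  have hpc : Linear.PComm r ρ := by
    by_contra hnc
    have := Linear.small (p := r) (ρ := ρ) (by omega) hnc
    omega
  obtain ⟨P⟩ : Nonempty (Sylow r G) := inferInstance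
  have hPn : (P : Subgroup G).Normal :=
    Linear.sylow_normal_of_commute (fun x y hx hy => hpc.commute hρi hx hy) P
  have hne : (P : Subgroup G) ≠ ⊤ := fun htop => by
    obtain ⟨k, hk⟩ := P.isPGroup'.exists_card_eq
    rw [htop, Subgroup.card_top] at hk
    exact hrp.symm ((Nat.prime_dvd_prime_iff_eq h.exact.prime hr).1
      (h.exact.prime.dvd_of_dvd_pow (hk ▸ h.exact.dvd)))
  have hPc := h.normal_le_center hPn hne
  refine not_dvd_center_of h hr (fun hd' => ?_) ((P.dvd_card_of_dvd_card hd).trans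
    (Subgroup.card_dvd_of_le hPc))
  have := Nat.le_of_dvd (by have := Upper.two_le_degree h; omega) hd'
  omega

/-- A non-trivial character separates the elements outside the center from `1`. -/
theorem apply_ne_one {χ : IrrCharacter G} (hχ : χ ≠ trivIrr G) {w : G}
    (hw : w ∉ Subgroup.center G) : (χ : G → ℂ) w ≠ (χ : G → ℂ) 1 := by
  intro heq
  obtain ⟨K, hKn, hK, -⟩ := exists_kernel (IsIrrCharacter.isCharacter χ.2)
  by_cases htop : K = ⊤
  · haveI := Fintype.ofFinite (IrrCharacter G)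
    have h0 := classInner_irrCharacter χ (trivIrr G)
    rw [if_neg hχ, classInner, sum_congr rfl (g := fun _ => (χ : G → ℂ) 1) fun g _ => by
      rw [trivIrr_apply, map_one, mul_one, (hK g).1 (htop ▸ Subgroup.mem_top g)], sum_const,
      nsmul_eq_mul, card_univ, ← Nat.card_eq_fintype_card, ← mul_assoc,
      inv_mul_cancel₀ (Nat.cast_ne_zero.2 Nat.card_pos.ne'), one_mul] at h0
    exact apply_one_ne_zero_of_isIrr χ.2 h0
  · exact hw (h.normal_le_center hKn htop ((hK w).2 heq))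

omit h in
theorem cases_plus {L A B nx ny r : ℕ} (hA : 1 ≤ A) (hB : 1 ≤ B) (hL : L = A + B)
    (hdeg : 256 = 3 * (19 * L + 3) + nx * (19 * A + 1) + ny * (19 * B + 1) + 19 * r) :
    L = 2 ∨ L = 4 ∨ (L = 3 ∧ nx = 0 ∧ ny = 0 ∧ r = 4 ∧ (A = 1 ∧ B = 2 ∨ A = 2 ∧ B = 1)) := by
  have h1 : nx * 1 ≤ nx * A := Nat.mul_le_mul_left nx hA
  have h2 : ny * 1 ≤ ny * B := Nat.mul_le_mul_left ny hB
  have hdeg' : 247 = 57 * L + 19 * (nx * A) + 19 * (ny * B) + nx + ny + 19 * r := by linarith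
  have hn : nx + ny = 0 := by
    clear hdeg
    generalize nx * A = t at h1 hdeg'
    generalize ny * B = s at h2 hdeg'
    omega
  obtain ⟨rfl, rfl⟩ : nx = 0 ∧ ny = 0 := by omega
  simp only [Nat.zero_mul, Nat.mul_zero, Nat.add_zero] at hdeg'
  omega

omit h in
theorem cases_minus {L B nx ny r : ℕ} (hL : 1 ≤ L) (hB : 1 ≤ B) (hny : 1 ≤ ny)
    (hdeg : (256 : ℤ) = 3 * (19 * L + 3) + nx * (19 * (B + L) + 1) + ny * (19 * B - 1) + 19 * r) :
    L = 2 ∨ L = 4 ∨ B = 2 ∨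
      (L = 1 ∧ nx = ny ∧ (B = 1 ∧ (nx = 1 ∧ r = 7 ∨ nx = 2 ∧ r = 4 ∨ nx = 3 ∧ r = 1) ∨
        B = 3 ∧ nx = 1 ∧ r = 3 ∨ B = 4 ∧ nx = 1 ∧ r = 1)) := by
  have h1 : (nx : ℤ) * 2 ≤ nx * (B + L) :=
    mul_le_mul_of_nonneg_left (by omega) (Int.natCast_nonneg _)
  have h2 : (ny : ℤ) * 1 ≤ ny * B := mul_le_mul_of_nonneg_left (by omega) (Int.natCast_nonneg _)
  have hdeg' : (247 : ℤ) = 57 * L + 19 * (nx * (B + L)) + 19 * (ny * B) + nx - ny + 19 * r := by linarith
  have hn : nx = ny := by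
    clear hdeg
    generalize (nx : ℤ) * (B + L) = t at h1 hdeg'
    generalize (ny : ℤ) * B = s at h2 hdeg'
    omega
  subst hn
  have h3 : (1 : ℤ) * (B + L + B) ≤ nx * (B + L + B) :=
    mul_le_mul_of_nonneg_right (by omega) (by omega)
  have hL3 : L ≤ 3 := by
    clear hdeg
    have h4 : (nx : ℤ) * (B + L + B) = nx * (B + L) + nx * B := by ring
    rw [h4] at h3
    generalize (nx : ℤ) * (B + L) = t at h1 h3 hdeg'
    generalize (nx : ℤ) * B = s at h2 h3 hdeg'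
    omega
  have hB4 : B ≤ 4 := by
    clear hdeg
    have h4 : (nx : ℤ) * (B + L + B) = nx * (B + L) + nx * B := by ring
    rw [h4] at h3
    generalize (nx : ℤ) * (B + L) = t at h1 h3 hdeg'
    generalize (nx : ℤ) * B = s at h2 h3 hdeg'
    omega
  clear hdeg h1 h2 h3
  interval_cases L <;> interval_cases B <;> omega

omit h in
theorem arith_thirteen {af bf ax bx ay bY aR bR : ℕ} (hf : 1 ≤ bf) (hx : 1 ≤ bx) (_hy : 1 ≤ bY) :
    (60 = af + 12 * bf → 20 = ax + 12 * bx → 39 = ay + 12 * bY → 76 = aR + 12 * bR →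
      (af : ℤ) - bf = 1 + ((ax : ℤ) - bx) + ((ay : ℤ) - bY) →
      (aR : ℤ) - bR = 9 - 3 * ((af : ℤ) - bf) → False) ∧
    (∀ q r : ℕ, (q = 1 ∧ r = 7 ∨ q = 2 ∧ r = 4 ∨ q = 3 ∧ r = 1) →
      22 = af + 12 * bf → 39 = ax + 12 * bx → 18 = ay + 12 * bY → 19 * r = aR + 12 * bR →
      (af : ℤ) - bf = 1 + ((ax : ℤ) - bx) - ((ay : ℤ) - bY) →
      (aR : ℤ) - bR = 9 - 3 * ((af : ℤ) - bf) - q * ((ax : ℤ) - bx) - q * ((ay : ℤ) - bY) → False) := by
  refine ⟨fun _ _ _ _ _ _ => by omega, ?_⟩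
  rintro q r (⟨rfl, rfl⟩ | ⟨rfl, rfl⟩ | ⟨rfl, rfl⟩) <;> (intros; omega)

omit h in
theorem arith_eleven {af bf ax bx ay bY aR bR r dx dy : ℕ} (hf : 1 ≤ bf) (hx : 1 ≤ bx) (hy : 1 ≤ bY)
    (hcase : dx = 77 ∧ dy = 56 ∧ r = 3 ∨ dx = 96 ∧ dy = 75 ∧ r = 1) (hf' : 22 = af + 10 * bf)
    (hx' : dx = ax + 10 * bx) (hy' : dy = ay + 10 * bY) (hR : 19 * r = aR + 10 * bR)
    (hrel : (af : ℤ) - bf = 1 + ((ax : ℤ) - bx) - ((ay : ℤ) - bY))
    (hdec : (aR : ℤ) - bR = 25 - 3 * ((af : ℤ) - bf) - ((ax : ℤ) - bx) - ((ay : ℤ) - bY)) :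
    (af : ℤ) - bf = 0 ∧
      (r = 3 → (ax : ℤ) - bx = 11 ∨ ((ax : ℤ) - bx = 0 ∧ (aR : ℤ) - bR = 24)) ∧
      (r = 1 → (aR : ℤ) - bR = 8) := by
  rcases hcase with ⟨rfl, rfl, rfl⟩ | ⟨rfl, rfl, rfl⟩ <;>
    rcases (show bf = 1 ∨ bf = 2 by omega) with rfl | rfl <;> omega

variable (hp19 : p = 19) [Fintype (IrrCharacter G)] (D : Setup S) (hψ : charDegree ψ = 16)

include hp19 D hψ

theorem degree_eq : 256 = 3 * (19 * D.L + 3) + D.nx * charDegree (D.x : G → ℂ) +
    D.ny * charDegree (D.y : G → ℂ) + ∑ χ : IrrCharacter G, D.R χ * charDegree (χ : G → ℂ) := by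
  have h1 := D.decomp 1 (by rw [orderOf_one]; exact hp.out.not_dvd_one)
  simp only [← charDegree_cast, D.deg_P, D.deg_f, Complex.conj_natCast] at h1
  have h2 : ((16 * 16 : ℕ) : ℂ) = ((3 * (19 * D.L + 3) + D.nx * charDegree (D.x : G → ℂ) +
      D.ny * charDegree (D.y : G → ℂ) + ∑ χ : IrrCharacter G, D.R χ * charDegree (χ : G → ℂ) : ℕ) : ℂ) := by
    push_cast at h1 ⊢
    linear_combination h1
  exact Nat.cast_inj.1 h2

theorem rel_degree : (19 * D.L + 3 : ℤ) =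
    1 + D.εx * charDegree (D.x : G → ℂ) + D.εy * charDegree (D.y : G → ℂ) := by
  have h1 := D.rel 1 (by rw [orderOf_one]; exact hp.out.not_dvd_one)
  simp only [← charDegree_cast, D.deg_f] at h1
  exact_mod_cast h1

/-- The power maps preserve the values. -/
theorem values_pow {w : G} {j : ℕ} (hw : (orderOf w).Coprime (p * Nat.card S.V))
    (hj : j.Coprime (orderOf w)) :
    (D.f : G → ℂ) (w ^ j) = (D.f : G → ℂ) w ∧ (D.P : G → ℂ) (w ^ j) = (D.P : G → ℂ) w ∧
    (charDegree (D.x : G → ℂ) ≠ charDegree (D.y : G → ℂ) →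
      (D.x : G → ℂ) (w ^ j) = (D.x : G → ℂ) w ∧ (D.y : G → ℂ) (w ^ j) = (D.y : G → ℂ) w) ∧
    ∑ χ : IrrCharacter G, (D.R χ : ℂ) * (χ : G → ℂ) (w ^ j) =
      ∑ χ : IrrCharacter G, (D.R χ : ℂ) * (χ : G → ℂ) w := by
  obtain ⟨k, hk, hkw⟩ := exists_fixExp h.exact S hw hj
  have key : ∀ {χ : IrrCharacter G}, tw k hk.1 χ = χ → (χ : G → ℂ) (w ^ j) = (χ : G → ℂ) w :=
    fun {χ} hχ => by
      rw [← hkw]
      exact congrArg (fun c : IrrCharacter G => (c : G → ℂ) w) hχ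
  refine ⟨key (D.tw_f k hk), key (D.tw_P k hk), fun hne => ⟨key (D.tw_x hne k hk), key (D.tw_y hne k hk)⟩,
    ?_⟩
  rw [← hkw]
  exact Fintype.sum_equiv (Equiv.ofBijective _ (Finite.injective_iff_bijective.1 (tw_injective hk.1))) _ _
    fun χ => by rw [Equiv.ofBijective_apply, D.tw_R k hk]; rfl

omit h hψ in
theorem isCharacter_R : IsCharacter G fun g => ∑ χ : IrrCharacter G, (D.R χ : ℂ) * (χ : G → ℂ) g := by
  have h1 := CharTheory.isCharacter_sum (univ : Finset (IrrCharacter G))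
    (fun χ => (D.R χ : ℂ) • (χ : G → ℂ))
    fun χ _ => CharTheory.isCharacter_nsmul (IsIrrCharacter.isCharacter χ.2) _
  convert h1 using 1
  funext g
  simp [Finset.sum_apply]

/-- The counts at an element of prime order. -/
theorem counts {w : G} {q : ℕ} (hq : q.Prime) (hq19 : q ≠ 19) (hq16 : ¬ q ∣ 16) (hw : orderOf w = q)
    (hne : charDegree (D.x : G → ℂ) ≠ charDegree (D.y : G → ℂ)) {r : ℕ}
    (hr : ∑ χ : IrrCharacter G, D.R χ * charDegree (χ : G → ℂ) = 19 * r) :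
    ∃ af bf aP bP ax bx ay bY aR bR : ℕ,
      (1 ≤ bf ∧ 19 * D.L + 3 = af + (q - 1) * bf ∧ (D.f : G → ℂ) w = (((af : ℤ) - bf : ℤ) : ℂ)) ∧
      (1 ≤ bP ∧ 16 = aP + (q - 1) * bP ∧ (D.P : G → ℂ) w = (((aP : ℤ) - bP : ℤ) : ℂ)) ∧
      (1 ≤ bx ∧ charDegree (D.x : G → ℂ) = ax + (q - 1) * bx ∧
        (D.x : G → ℂ) w = (((ax : ℤ) - bx : ℤ) : ℂ)) ∧
      (1 ≤ bY ∧ charDegree (D.y : G → ℂ) = ay + (q - 1) * bY ∧
        (D.y : G → ℂ) w = (((ay : ℤ) - bY : ℤ) : ℂ)) ∧
      (19 * r = aR + (q - 1) * bR ∧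
        ∑ χ : IrrCharacter G, (D.R χ : ℂ) * (χ : G → ℂ) w = (((aR : ℤ) - bR : ℤ) : ℂ)) ∧
      ((af : ℤ) - bf = 1 + D.εx * ((ax : ℤ) - bx) + D.εy * ((ay : ℤ) - bY)) ∧
      ((aR : ℤ) - bR = ((aP : ℤ) - bP) * ((aP : ℤ) - bP) - 3 * ((af : ℤ) - bf) -
        D.nx * ((ax : ℤ) - bx) - D.ny * ((ay : ℤ) - bY)) := by
  have hwc : w ∉ Subgroup.center G := fun hwc => not_dvd_center_of h hq (by rw [hψ]; exact hq16)
    (hw ▸ Subgroup.orderOf_dvd_natCard _ hwc)
  have hcop : (orderOf w).Coprime (p * Nat.card S.V) := by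
    rw [hw]
    refine Nat.Coprime.mul_right ((Nat.coprime_primes hq hp.out).2 (by omega)) ?_
    rw [← h.center_eq]
    exact hq.coprime_iff_not_dvd.2 (not_dvd_center_of h hq (by rw [hψ]; exact hq16))
  have hwq : w ^ q = 1 := hw ▸ pow_orderOf_eq_one w
  have hv := fun (j : ℕ) (hj : j.Coprime q) => values_pow h hp19 D hψ hcop (hw.symm ▸ hj)
  have hirr : ∀ χ : IrrCharacter G, χ ≠ trivIrr G → (∀ j : ℕ, j.Coprime q → (χ : G → ℂ) (w ^ j) = (χ : G → ℂ) w) →
      ∃ a b : ℕ, 1 ≤ b ∧ charDegree (χ : G → ℂ) = a + (q - 1) * b ∧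
        (χ : G → ℂ) w = (((a : ℤ) - b : ℤ) : ℂ) := fun χ hχ hj => by
    obtain ⟨a, b, h1, h2⟩ := exists_counts (IsIrrCharacter.isCharacter χ.2) hq hwq hj
    refine ⟨a, b, ?_, ?_, h2⟩
    · by_contra hb
      obtain rfl : b = 0 := by omega
      refine apply_ne_one h hχ hwc ?_
      rw [h2, h1]; simp
    · rw [charDegree, h1, Complex.natCast_re, Nat.floor_natCast]
  have hnt : ∀ χ : IrrCharacter G, 2 ≤ charDegree (χ : G → ℂ) → χ ≠ trivIrr G := fun χ h2 hχ => by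
    rw [hχ, charDegree] at h2
    simp [trivIrr_apply] at h2
  obtain ⟨af, bf, hf1, hf2, hf3⟩ := hirr D.f (hnt _ (by rw [D.deg_f]; omega)) fun j hj => (hv j hj).1
  obtain ⟨aP, bP, hP1, hP2, hP3⟩ := hirr D.P (hnt _ (by rw [D.deg_P]; omega)) fun j hj => (hv j hj).2.1
  obtain ⟨ax, bx, hx1, hx2, hx3⟩ := hirr D.x D.fix_x.ne_triv fun j hj => ((hv j hj).2.2.1 hne).1
  obtain ⟨ay, bY, hy1, hy2, hy3⟩ := hirr D.y D.fix_y.ne_triv fun j hj => ((hv j hj).2.2.1 hne).2
  obtain ⟨aR, bR, hR1, hR3⟩ := exists_counts (isCharacter_R hp19 D) hq hwq fun j hj => (hv j hj).2.2.2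
  rw [D.deg_f] at hf2
  rw [D.deg_P] at hP2
  have hR2 : 19 * r = aR + (q - 1) * bR := by
    rw [← hr]
    have h' : ((∑ χ : IrrCharacter G, D.R χ * charDegree (χ : G → ℂ) : ℕ) : ℂ) = ((aR + (q - 1) * bR : ℕ) : ℂ) := by
      rw [← hR1]
      push_cast
      simp only [charDegree_cast]
    exact_mod_cast h'
  have hreg : ¬ p ∣ orderOf w := by
    rw [hw, Nat.prime_dvd_prime_iff_eq hp.out hq]
    omega
  refine ⟨af, bf, aP, bP, ax, bx, ay, bY, aR, bR, ⟨hf1, hf2, hf3⟩, ⟨hP1, hP2, hP3⟩, ⟨hx1, hx2, hx3⟩,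
    ⟨hy1, hy2, hy3⟩, ⟨hR2, hR3⟩, ?_, ?_⟩
  · have h' := D.rel w hreg
    rw [hf3, hx3, hy3] at h'
    exact_mod_cast h'
  · have h' := D.decomp w hreg
    rw [hf3, hP3, hx3, hy3, map_intCast, show (∑ χ : IrrCharacter G, (D.R χ : ℂ) * (χ : G → ℂ) w) = _
      from hR3] at h'
    apply Int.cast_injective (α := ℂ)
    push_cast at h' ⊢
    linear_combination -h'

/-- The two cases with an element of order `13`. -/
theorem false_thirteen {r : ℕ}
    (hr : ∑ χ : IrrCharacter G, D.R χ * charDegree (χ : G → ℂ) = 19 * r)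
    (hcase : D.L = 3 ∧ D.nx = 0 ∧ D.ny = 0 ∧ r = 4 ∧ D.εx = 1 ∧ D.εy = 1 ∧
        charDegree (D.x : G → ℂ) = 20 ∧ charDegree (D.y : G → ℂ) = 39 ∨
      D.L = 1 ∧ D.εx = 1 ∧ D.εy = -1 ∧ D.ny = D.nx ∧ charDegree (D.x : G → ℂ) = 39 ∧
        charDegree (D.y : G → ℂ) = 18 ∧ (D.nx = 1 ∧ r = 7 ∨ D.nx = 2 ∧ r = 4 ∨ D.nx = 3 ∧ r = 1)) :
    False := by
  have h13 : 13 ∣ Nat.card G := by
    rcases hcase with h' | h'
    · exact (Dvd.intro 3 (by omega : 13 * 3 = charDegree (D.y : G → ℂ))).trans (charDegree_dvd D.y)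
    · exact (Dvd.intro 3 (by omega : 13 * 3 = charDegree (D.x : G → ℂ))).trans (charDegree_dvd D.x)
  haveI : Fact (Nat.Prime 13) := ⟨by norm_num⟩
  obtain ⟨w, hw⟩ := exists_prime_orderOf_dvd_card' (G := G) 13 h13
  obtain ⟨af, bf, aP, bP, ax, bx, ay, bY, aR, bR, hf, hP, hx, hy, hR, hrel, hdec⟩ :=
    counts h hp19 D hψ (w := w) (q := 13) (by norm_num) (by norm_num) (by norm_num) hw (by omega) hr
  have hP3 : (aP : ℤ) - bP = 3 := by
    have := hP.1
    have := hP.2.1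
    omega
  have hA := arith_thirteen (af := af) (bf := bf) (ax := ax) (bx := bx) (ay := ay) (bY := bY)
    (aR := aR) (bR := bR) hf.1 hx.1 hy.1
  rw [hP3] at hdec
  rcases hcase with ⟨hL, hnx, hny, rfl, hεx, hεy, h20, h39⟩ | ⟨hL, hεx, hεy, hny, h39, h18, hq⟩
  · rw [hεx, hεy, one_mul, one_mul] at hrel
    rw [hnx, hny] at hdec
    have e1 := hf.2.1; rw [hL] at e1
    have e2 := hx.2.1; rw [h20] at e2
    have e3 := hy.2.1; rw [h39] at e3
    exact hA.1 e1 e2 e3 hR.1 hrel (by rw [hdec]; simp)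
  · rw [hεx, hεy, one_mul, neg_one_mul, ← sub_eq_add_neg] at hrel
    rw [hny] at hdec
    have e1 := hf.2.1; rw [hL] at e1
    have e2 := hx.2.1; rw [h39] at e2
    have e3 := hy.2.1; rw [h18] at e3
    exact hA.2 D.nx r hq e1 e2 e3 hR.1 hrel (by rw [hdec]; norm_num)

/-- The values at the elements of order `11`. -/
theorem values_eleven {r : ℕ}
    (hr : ∑ χ : IrrCharacter G, D.R χ * charDegree (χ : G → ℂ) = 19 * r)
    (hL : D.L = 1) (hεx : D.εx = 1) (hεy : D.εy = -1) (hnx : D.nx = 1) (hny : D.ny = 1)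
    (hcase : charDegree (D.x : G → ℂ) = 77 ∧ charDegree (D.y : G → ℂ) = 56 ∧ r = 3 ∨
      charDegree (D.x : G → ℂ) = 96 ∧ charDegree (D.y : G → ℂ) = 75 ∧ r = 1) {w : G} (hw : orderOf w = 11) :
    (D.P : G → ℂ) w = 5 ∧ (D.f : G → ℂ) w = 0 ∧
      (r = 3 → (D.x : G → ℂ) w = 11 ∨ (D.x : G → ℂ) w = 0 ∧
        ∑ χ : IrrCharacter G, (D.R χ : ℂ) * (χ : G → ℂ) w = 24) ∧
      (r = 1 → ∑ χ : IrrCharacter G, (D.R χ : ℂ) * (χ : G → ℂ) w = 8) := by
  obtain ⟨af, bf, aP, bP, ax, bx, ay, bY, aR, bR, hf, hP, hx, hy, hR, hrel, hdec⟩ :=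
    counts h hp19 D hψ (w := w) (q := 11) (by norm_num) (by norm_num) (by norm_num) hw (by omega) hr
  have hP5 : (aP : ℤ) - bP = 5 := by
    have := hP.1
    have := hP.2.1
    omega
  rw [hP5, hnx, hny] at hdec
  rw [hεx, hεy, one_mul, neg_one_mul, ← sub_eq_add_neg] at hrel
  have e1 := hf.2.1
  rw [hL] at e1
  obtain ⟨hf0, h3, h1⟩ := arith_eleven hf.1 hx.1 hy.1 hcase e1 hx.2.1 hy.2.1 hR.1 hrel
    (by rw [hdec]; norm_num)
  refine ⟨by rw [hP.2.2, hP5]; norm_num, by rw [hf.2.2, hf0]; norm_num, fun hr3 => ?_, fun hr1 => ?_⟩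
  · rcases h3 hr3 with h' | ⟨h', h''⟩
    · left; rw [hx.2.2, h']; norm_num
    · right; exact ⟨by rw [hx.2.2, h']; norm_num, by rw [hR.2, h'']; norm_num⟩
  · rw [hR.2, h1 hr1]; norm_num

/-- `11 ^ 2` does not divide the order. -/
theorem sq_eleven (hc11 : ¬ 11 ∣ Nat.card (Subgroup.center G))
    (hvals : ∀ w : G, orderOf w = 11 → (D.P : G → ℂ) w = 5) : ¬ 11 ^ 2 ∣ Nat.card G := by
  haveI : Fact (Nat.Prime 11) := ⟨by norm_num⟩
  intro h121
  obtain ⟨Q, hQ⟩ := Sylow.exists_subgroup_card_pow_prime 11 h121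
  by_cases hcyc : ∃ x ∈ Q, orderOf x = 121
  · obtain ⟨w, -, hw⟩ := hcyc
    have hcop : (orderOf w).Coprime (p * Nat.card S.V) := by
      rw [hw, show 121 = 11 ^ 2 by norm_num]
      refine Nat.Coprime.pow_left 2 (Nat.Coprime.mul_right
        ((Nat.coprime_primes (by norm_num) hp.out).2 (by omega)) ?_)
      rw [← h.center_eq]
      exact (Nat.Prime.coprime_iff_not_dvd (by norm_num)).2 hc11
    refine false_of_order_121 (IsIrrCharacter.isCharacter D.P.2) hw
      (by rw [← charDegree_cast, D.deg_P]; norm_num) (fun j hj => ?_) fun j hj => ?_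
    · refine (values_pow h hp19 D hψ hcop ?_).2.1
      rw [hw, show 121 = 11 ^ 2 by norm_num]
      exact ((Nat.Prime.coprime_iff_not_dvd (by norm_num)).2 hj).symm.pow_right 2
    · refine hvals _ ?_
      have ho : orderOf (w ^ 11) = 11 := by
        rw [orderOf_pow' w (by norm_num), hw]; norm_num
      rw [pow_mul, Nat.Coprime.orderOf_pow, ho]
      rw [ho]
      exact (Nat.Prime.coprime_iff_not_dvd (by norm_num)).2 hj
  · push Not at hcyc
    refine false_of_card_121 (IsIrrCharacter.isCharacter D.P.2) (Q := Q) (by rw [hQ]; norm_num)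
      (by rw [← charDegree_cast, D.deg_P]; norm_num) fun x hx hx1 => hvals x ?_
    have hdvd : orderOf x ∣ 11 ^ 2 := hQ ▸ Subgroup.orderOf_dvd_natCard _ hx
    obtain ⟨i, hi, hi'⟩ := (Nat.dvd_prime_pow (by norm_num)).1 hdvd
    interval_cases i
    · exact absurd (orderOf_eq_one_iff.1 (by simpa using hi')) hx1
    · simpa using hi'
    · exact absurd (by simpa using hi') (hcyc x hx)

/-- The regular part of the centralizer is of odd order modulo the center. -/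
theorem odd_eleven [Fact (Nat.Prime 11)] (hG : ExactPrime G 11) (S' : Sect G 11)
    (hf22 : charDegree (D.f : G → ℂ) = 22)
    (hwk : ∀ k : (ZMod 11)ˣ, orderOf (S'.u ^ (k : ZMod 11).val) = 11)
    (hvals : ∀ w : G, orderOf w = 11 → (D.f : G → ℂ) w = 0) :
    ∀ v ∈ S'.V, v * v ∈ Subgroup.center G → v ∈ Subgroup.center G := by
  intro v hv hvv
  obtain ⟨n, ρ, hirr, hρ⟩ := D.f.2
  obtain rfl : n = 22 := by
    rw [← hf22, charDegree, ← hρ, Representation.char_one, Module.finrank_fin_fun,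
      Complex.natCast_re, Nat.floor_natCast]
  have hy2 : ρ (v ^ 2) = 1 := by
    rw [sq, Module.End.one_eq_id, ← character_eq_finrank_iff, ← ρ.char_one, hρ]
    have h' := hasCentral_one.1 D.f_central 1 ⟨v * v, h.center_eq.le hvv⟩
    rwa [one_mul] at h'
  obtain ⟨c, hc⟩ := exists_count_22 (ρ := ρ) v S'.u hy2 (S'.pow_prime)
    ((S'.mem_iff v).1 hv).1.symm fun j i hj => by
      rw [hρ]
      have h' := apply_sect_eq_zero hG S' D.f (fun k => hvals _ (hwk k))
        (Units.mk0 (j : ZMod 11) (fun h0 => hj ((ZMod.natCast_eq_zero_iff j 11).1 h0)))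
        ⟨v ^ i, pow_mem hv i⟩
      rwa [Units.val_mk0, ZMod.val_natCast, pow_mod_u S'] at h'
  obtain ⟨b, hb1, hb2, hb3, hb4⟩ := exists_neg_count (ρ := ρ) h.perfect v hy2
  rw [Module.finrank_fin_fun] at hb1 hb2 hb4
  rw [ρ.char_one, Module.finrank_fin_fun, hb2] at hc
  have hc' : 4 * b = 22 * c := by
    have : ((4 * b : ℕ) : ℂ) = ((22 * c : ℕ) : ℂ) := by push_cast at hc ⊢; linear_combination hc
    exact_mod_cast this
  have hscal : ∀ g, ρ (g * v * g⁻¹ * v⁻¹) = 1 := fun g => by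
    have hcm : ρ g * ρ v = ρ v * ρ g := by
      rcases (show b = 0 ∨ 2 * b = 22 by omega) with h0 | h0
      · rw [hb3 h0, mul_one, one_mul]
      · rw [hb4 h0, mul_smul_comm, smul_mul_assoc, mul_one, one_mul]
    rw [map_mul, map_mul, map_mul, hcm, mul_assoc (ρ v), ← map_mul ρ g, mul_inv_cancel, map_one,
      mul_one, ← map_mul, mul_inv_cancel, map_one]
  have hker : ρ.ker ≠ ⊤ := fun htop => by
    have h1 : (D.f : G → ℂ) S'.u = (D.f : G → ℂ) 1 := by
      rw [← hρ, Representation.character, Representation.character,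
        show ρ S'.u = ρ 1 from (MonoidHom.mem_ker.1 (htop ▸ Subgroup.mem_top _)).trans ρ.map_one.symm]
    rw [hvals S'.u S'.ord] at h1
    exact apply_one_ne_zero_of_isIrr D.f.2 h1.symm
  have hle := h.normal_le_center (N := ρ.ker) inferInstance hker
  haveI := h.simple
  have hbot : Subgroup.center (G ⧸ Subgroup.center G) = ⊥ :=
    (IsSimpleGroup.eq_bot_or_eq_top_of_normal _ inferInstance).resolve_right fun htop =>
      h.not_comm ⟨⟨fun a b =>
        Subgroup.mem_center_iff.1 (htop ▸ Subgroup.mem_top b : b ∈ Subgroup.center _) a⟩⟩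
  have hmem : (QuotientGroup.mk v : G ⧸ Subgroup.center G) ∈ Subgroup.center (G ⧸ Subgroup.center G) := by
    refine Subgroup.mem_center_iff.2 fun a => ?_
    induction a using QuotientGroup.induction_on with
    | _ g =>
      rw [← QuotientGroup.mk_mul, ← QuotientGroup.mk_mul, eq_comm, QuotientGroup.eq]
      have h' := hle (MonoidHom.mem_ker.2 (hscal g))
      have e : (v * g)⁻¹ * (g * v) = g⁻¹ * v⁻¹ * (g * v * g⁻¹ * v⁻¹) * (v * g) := by group
      rw [e, mul_assoc, ← Subgroup.mem_center_iff.1 h' (v * g)]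
      rw [show g⁻¹ * v⁻¹ * (v * g * (g * v * g⁻¹ * v⁻¹)) = g * v * g⁻¹ * v⁻¹ by group]
      exact h'
  rw [hbot, Subgroup.mem_bot, QuotientGroup.eq_one_iff] at hmem
  exact hmem

set_option maxHeartbeats 1000000 in
/-- The cases with an element of order `11`. -/
theorem false_eleven {r : ℕ}
    (hr : ∑ χ : IrrCharacter G, D.R χ * charDegree (χ : G → ℂ) = 19 * r)
    (hL : D.L = 1) (hεx : D.εx = 1) (hεy : D.εy = -1) (hnx : D.nx = 1) (hny : D.ny = 1)
    (hcase : charDegree (D.x : G → ℂ) = 77 ∧ charDegree (D.y : G → ℂ) = 56 ∧ r = 3 ∨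
      charDegree (D.x : G → ℂ) = 96 ∧ charDegree (D.y : G → ℂ) = 75 ∧ r = 1) : False := by
  haveI : Fact (Nat.Prime 11) := ⟨by norm_num⟩
  have h11 : 11 ∣ Nat.card G :=
    (Dvd.intro 2 (by rw [D.deg_f, hL] : 11 * 2 = charDegree (D.f : G → ℂ))).trans (charDegree_dvd D.f)
  have hc11 : ¬ 11 ∣ Nat.card (Subgroup.center G) :=
    not_dvd_center_of h (by norm_num) (by rw [hψ]; norm_num)
  have hvals := fun (w : G) (hw : orderOf w = 11) =>
    values_eleven h hp19 D hψ hr hL hεx hεy hnx hny hcase hw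
  have hG : ExactPrime G 11 := ⟨by norm_num, h11,
    sq_eleven h hp19 D hψ hc11 fun w hw => (hvals w hw).1⟩
  obtain ⟨w, hw⟩ := exists_prime_orderOf_dvd_card' (G := G) 11 h11
  obtain ⟨S', hS'⟩ := exists_sect hG hw
  have hwk : ∀ k : (ZMod 11)ˣ, orderOf (S'.u ^ (k : ZMod 11).val) = 11 := fun k => by
    rw [Nat.Coprime.orderOf_pow, S'.ord]
    rw [S'.ord]
    exact (Nat.Prime.coprime_iff_not_dvd (by norm_num)).2 (not_dvd_val hG k)
  have hf22 : charDegree (D.f : G → ℂ) = 22 := by rw [D.deg_f, hL]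
  have hne : charDegree (D.x : G → ℂ) ≠ charDegree (D.y : G → ℂ) := by
    rcases hcase with h' | h' <;> omega
  have hodd := odd_eleven h hp19 D hψ hG S' hf22 hwk fun w hw => (hvals w hw).2.1
  have hV : ∀ v : S.V, ¬ 11 ∣ orderOf (v : G) := fun v hd =>
    hc11 (hd.trans (Subgroup.orderOf_dvd_natCard _ (h.center_eq.ge v.2)))
  have hfix : ∀ k : (ZMod 11)ˣ, FixExp S (gexp 11 (Nat.card G / 11) (k : ZMod 11).val) := fun k =>
    ⟨gexp_coprime hG (not_dvd_val hG k), gexp_pow_regular hG (by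
      rw [S.ord, hp19]; norm_num) _, fun v => gexp_pow_regular hG (hV v) _⟩
  have hgal : ∀ (k : (ZMod 11)ˣ) (χ : IrrCharacter G), gal hG k χ = tw _ (hfix k).1 χ := fun k χ =>
    Subtype.ext (funext fun g => gal_apply hG k χ g)
  have hRgal : ∀ (k : (ZMod 11)ˣ) (χ : IrrCharacter G), D.R (gal hG k χ) = D.R χ := fun k χ => by
    rw [hgal, D.tw_R _ (hfix k)]
  have hconst : ∀ χ : IrrCharacter G, (∀ k, gal hG k χ = χ) → ∀ k : (ZMod 11)ˣ,
      (χ : G → ℂ) (S'.u ^ (k : ZMod 11).val) = (χ : G → ℂ) S'.u := fun χ hχ k => by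
    conv_rhs => rw [← hχ k]
    rw [gal_apply]
    refine congrArg (χ : G → ℂ) ?_
    rw [pow_eq_pow_iff_modEq, S'.ord]
    exact (gexp_modEq_left hG _).symm
  have hcentral : ∀ χ : IrrCharacter G, HasCentral S (1 : S.V →* ℂˣ) (χ : G → ℂ) →
      ∀ g, ∀ z ∈ Subgroup.center G, (χ : G → ℂ) (g * z) = (χ : G → ℂ) g := fun χ hχ g z hz =>
    hasCentral_one.1 hχ g ⟨z, h.center_eq.le hz⟩
  have hkey : ∀ (χ : IrrCharacter G) (z : ℤ), HasCentral S (1 : S.V →* ℂˣ) (χ : G → ℂ) →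
      (∀ k, gal hG k χ = χ) → (χ : G → ℂ) S'.u = z → z = 0 ∨ (¬ (8 : ℤ) ∣ z ∧ ¬ (11 : ℤ) ∣ z) :=
    fun χ z hχc hχ hz => value_cases hG S' rfl hodd χ (hcentral χ hχc)
      fun k => by rw [hconst χ hχ k, hz]
  -- the value of the remainder
  have hRval : ∑ χ : IrrCharacter G, (D.R χ : ℂ) * (χ : G → ℂ) S'.u = ((8 * r : ℕ) : ℂ) := by
    rcases hcase with ⟨-, -, rfl⟩ | ⟨-, -, rfl⟩
    · rcases (hvals S'.u S'.ord).2.2.1 rfl with hx | ⟨-, hR⟩
      · exfalso
        rcases hkey D.x 11 D.fix_x.central (fun k => by rw [hgal, D.tw_x hne _ (hfix k)])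
          (by rw [hx]; norm_num) with h' | ⟨-, h'⟩
        · norm_num at h'
        · exact h' dvd_rfl
      · rw [hR]; norm_num
    · rw [(hvals S'.u S'.ord).2.2.2 rfl]; norm_num
  have h19 : ∀ χ : IrrCharacter G, D.R χ ≠ 0 → (∀ k, gal hG k χ = χ) →
      charDegree (χ : G → ℂ) ≠ 19 := fun χ hχ hfx hd => by
    have hwc : S'.u ∉ Subgroup.center G := fun hu => hc11
      (S'.ord ▸ Subgroup.orderOf_dvd_natCard _ hu)
    have hj : ∀ j : ℕ, j.Coprime 11 → (χ : G → ℂ) (S'.u ^ j) = (χ : G → ℂ) S'.u := fun j hj => by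
      have hj0 : (j : ZMod 11) ≠ 0 := fun h0 => by
        rw [ZMod.natCast_eq_zero_iff] at h0
        have := Nat.eq_one_of_dvd_coprimes hj h0 dvd_rfl
        norm_num at this
      have h' := hconst χ hfx (Units.mk0 _ hj0)
      rwa [Units.val_mk0, ZMod.val_natCast, pow_mod_u S'] at h'
    obtain ⟨a, b, ha, hb⟩ := exists_counts (IsIrrCharacter.isCharacter χ.2) (q := 11) (by norm_num)
      S'.pow_prime hj
    have hb0 : b ≠ 0 := fun hb0 => apply_ne_one h (D.R_ne χ hχ) hwc (by rw [hb, ha, hb0]; simp)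
    have hd' : a + 10 * b = 19 := by
      rw [charDegree, ha, Complex.natCast_re, Nat.floor_natCast] at hd
      exact hd
    rcases hkey χ _ (D.R_central χ hχ) hfx hb with h' | ⟨h', -⟩
    · omega
    · exact h' (by omega)
  have hprod : ∀ χ : IrrCharacter G, D.R χ * charDegree (χ : G → ℂ) ≠ 0 →
      D.R χ ≠ 0 ∧ ∃ e, 1 ≤ e ∧ charDegree (χ : G → ℂ) = 19 * e := fun χ hne => by
    rw [Nat.mul_ne_zero_iff] at hne
    obtain ⟨e, he'⟩ := D.R_dvd χ hne.1
    rw [hp19] at he'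
    exact ⟨hne.1, e, by omega, he'⟩
  obtain ⟨χ, hfx, hχ⟩ := exists_fixed hG rfl (fun χ => D.R χ * charDegree (χ : G → ℂ))
    (fun k χ => by rw [hRgal, hgal, charDegree_tw])
    (fun χ => by
      by_cases h0 : D.R χ = 0
      · simp [h0]
      · exact Dvd.dvd.mul_left (hp19 ▸ D.R_dvd χ h0) _)
    (r := r) (by rcases hcase with h' | h' <;> omega) hr
  rcases hχ with hw19 | ⟨hr', hw57, hz⟩
  · obtain ⟨hR0, e, he1, hed⟩ := hprod χ (by omega)
    refine h19 χ hR0 hfx ?_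
    rw [hed] at hw19
    have : 1 * (19 * e) ≤ D.R χ * (19 * e) := Nat.mul_le_mul_right _ (Nat.pos_of_ne_zero hR0)
    omega
  · obtain ⟨hR0, e, he1, hed⟩ := hprod χ (by omega)
    rw [hed] at hw57
    have h2 : 1 * (19 * e) ≤ D.R χ * (19 * e) := Nat.mul_le_mul_right _ (Nat.pos_of_ne_zero hR0)
    have h3 : e ≤ 3 := by omega
    interval_cases e
    · exact h19 χ hR0 hfx hed
    · omega
    have hR1 : D.R χ = 1 := by omega
    rw [sum_eq_single χ (fun c _ hc => by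
        rcases Nat.mul_eq_zero.1 (hz c hc) with h' | h'
        · rw [h', Nat.cast_zero, zero_mul]
        · exact absurd h' (charDegree_ne_zero' c))
      (fun h' => absurd (mem_univ _) h'), hR1, Nat.cast_one, one_mul, hr'] at hRval
    rcases hkey χ 24 (D.R_central χ hR0) hfx (by rw [hRval]; norm_num) with h' | ⟨h', -⟩
    · norm_num at h'
    · exact h' (by norm_num)

omit D in
/-- The degree `16` at the prime `19` with `e = 3` does not occur. -/
theorem false_of_nineteen (he : rowE S (trivIrr S.V) = 3) : False := by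
  obtain ⟨D⟩ := nonempty_setup h hp19 he hψ
  have key : ∀ D : Setup S, D.εx = 1 → False := fun D hεx => by
    obtain ⟨r, hr⟩ : 19 ∣ ∑ χ : IrrCharacter G, D.R χ * charDegree (χ : G → ℂ) :=
      dvd_sum fun χ _ => by
        by_cases h0 : D.R χ = 0
        · rw [h0, Nat.zero_mul]; exact dvd_zero _
        · exact Dvd.dvd.mul_left (hp19 ▸ D.R_dvd χ h0) _
    have hdeg := degree_eq h hp19 D hψ
    have hrel := rel_degree h hp19 D hψ
    rw [hr] at hdeg
    rw [hεx, one_mul] at hrel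
    have hpZ : (p : ℤ) = 19 := by exact_mod_cast hp19
    have hxm := D.fix_x.modEq
    have hym := D.fix_y.modEq
    rw [hεx, hpZ] at hxm
    rw [hpZ] at hym
    have hxl := D.fix_x.large
    have hyl := D.fix_y.large
    have hbig : ∀ q : ℕ, q.Prime → 33 < q → ∀ χ : IrrCharacter G, ¬ q ∣ charDegree (χ : G → ℂ) :=
      fun q hq hq' χ hd => not_dvd_of_big h hq (by omega) (by omega) (hd.trans (charDegree_dvd χ))
    obtain ⟨A, hA⟩ : ∃ A : ℕ, charDegree (D.x : G → ℂ) = 19 * A + 1 := by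
      obtain ⟨c, hc⟩ := Int.modEq_iff_dvd.1 hxm.symm
      exact ⟨c.toNat, by omega⟩
    have h41 : D.L ≠ 2 := fun h' => hbig 41 (by norm_num) (by norm_num) D.f (by rw [D.deg_f, h'])
    have h79 : D.L ≠ 4 := fun h' => hbig 79 (by norm_num) (by norm_num) D.f (by rw [D.deg_f, h'])
    rcases D.fix_y.sign with hεy | hεy
    · obtain ⟨B, hB⟩ : ∃ B : ℕ, charDegree (D.y : G → ℂ) = 19 * B + 1 := by
        rw [hεy] at hym
        obtain ⟨c, hc⟩ := Int.modEq_iff_dvd.1 hym.symm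
        exact ⟨c.toNat, by omega⟩
      rw [hεy, one_mul] at hrel
      rw [hA, hB] at hdeg
      rcases cases_plus (L := D.L) (A := A) (B := B) (by omega) (by omega) (by omega) hdeg with
        h' | h' | ⟨hL, hnx, hny, rfl, h'⟩
      · exact h41 h'
      · exact h79 h'
      · rcases h' with ⟨rfl, rfl⟩ | ⟨rfl, rfl⟩
        · exact false_thirteen h hp19 D hψ hr (Or.inl ⟨hL, hnx, hny, rfl, hεx, hεy, hA, hB⟩)
        · exact false_thirteen h hp19 D.swap hψ (r := 4) hr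
            (Or.inl ⟨hL, hny, hnx, rfl, hεy, hεx, hB, hA⟩)
    · obtain ⟨B, hB⟩ : ∃ B : ℕ, (charDegree (D.y : G → ℂ) : ℤ) = 19 * B - 1 := by
        rw [hεy] at hym
        obtain ⟨c, hc⟩ := Int.modEq_iff_dvd.1 hym.symm
        exact ⟨c.toNat, by omega⟩
      rw [hεy, neg_one_mul] at hrel
      have hAB : A = B + D.L := by omega
      have hdeg' : (256 : ℤ) = 3 * (19 * D.L + 3) + D.nx * (19 * (B + D.L) + 1) +
          D.ny * (19 * B - 1) + 19 * r := by
        have h' : (256 : ℤ) = ((3 * (19 * D.L + 3) + D.nx * charDegree (D.x : G → ℂ) +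
            D.ny * charDegree (D.y : G → ℂ) + 19 * r : ℕ) : ℤ) := by rw [← hdeg]; norm_num
        push_cast at h'
        rw [hB, hA, hAB] at h'
        push_cast at h'
        exact h'
      rcases cases_minus D.L_pos (by omega) (D.neg_y hεy) hdeg' with
        h' | h' | h' | ⟨hL, hn, h'⟩
      · exact h41 h'
      · exact h79 h'
      · exact hbig 37 (by norm_num) (by norm_num) D.y (by
          rw [show charDegree (D.y : G → ℂ) = 37 by omega])
      · rcases h' with ⟨rfl, hq⟩ | ⟨rfl, hq, rfl⟩ | ⟨rfl, hq, rfl⟩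
        · exact false_thirteen h hp19 D hψ hr
            (Or.inr ⟨hL, hεx, hεy, hn.symm, by omega, by omega, hq⟩)
        · exact false_eleven h hp19 D hψ hr hL hεx hεy hq (hn ▸ hq) (Or.inl ⟨by omega, by omega, rfl⟩)
        · exact false_eleven h hp19 D hψ hr hL hεx hεy hq (hn ▸ hq) (Or.inr ⟨by omega, by omega, rfl⟩)
  rcases D.fix_x.sign with hx | hx
  · exact key D hx
  rcases D.fix_y.sign with hy | hy
  · exact key D.swap hy
  have hrel := rel_degree h hp19 D hψ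
  rw [hx, hy] at hrel
  omega

end CfsgLib.OrderDegrees.Nineteen
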