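import Cfsg.Agent.Lib.OrderDegrees.LinearReduce
import Cfsg.Agent.Lib.OrderDegrees.NineteenSixteen
import Cfsg.Agent.Lib.SmallGroups.QuasiSimplePSL
import Cfsg.Agent.Lib.HalfDegree.Main
import Cfsg.Agent.S4705

/-!
# Linear groups of degree below `p - 1` with a non-normal Sylow `p`-subgroup

For `p > 7`: the central quotient is `PSL(2, p)`, or the degree is `p - 2`, or the degree is
`p - e` with `p = e t + 1`, `3 ≤ e`, `e + 3 ≤ t`, and not `16` at the prime `19`.
-/

set_option autoImplicit false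
set_option linter.unusedSectionVars false
set_option linter.style.haveILetI false

namespace CfsgLib.OrderDegrees.Linear

open Cfsg CfsgLib.CharTheory CfsgLib.Blocks CfsgLib.DefectOne
open CfsgLib.SmallGroups.QuasiSimple

theorem classify {G : Type*} [Group G] [Finite G] {p : ℕ} [hp : Fact p.Prime] {χ : IrrCharacter G}
    {d : ℕ} (hdeg : charDegree (χ : G → ℂ) = d)
    (hfaith : ∀ g : G, (χ : G → ℂ) g = (χ : G → ℂ) 1 → g = 1) (hd : d + 1 < p) (hp7 : 7 < p)
    {P : Sylow p G} (hP : ¬ (P : Subgroup G).Normal) :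
    (Nonempty (G ⧸ Subgroup.center G ≃* Matrix.ProjectiveSpecialLinearGroup (Fin 2) (ZMod p)) ∧
        (2 * d = p + 1 ∨ 2 * d = p - 1)) ∨
      (d + 2 = p ∧ ∃ (H : Type) (_ : Group H) (_ : Finite H) (a : ℕ) (F : Type) (_ : Field F)
        (_ : Fintype F), p = 2 ^ a + 1 ∧ Fintype.card F = 2 ^ a ∧
        Nonempty (H ≃* Matrix.SpecialLinearGroup (Fin 2) F × Subgroup.center H) ∧
        Nonempty (G ⧸ Subgroup.center G ≃* H ⧸ Subgroup.center H)) ∨
      ∃ e t : ℕ, d + e = p ∧ p = e * t + 1 ∧ 3 ≤ e ∧ e + 3 ≤ t ∧ ¬ (d = 16 ∧ p = 19) := by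
  classical
  obtain ⟨H, iH, iF, ζ, Q, hG, hnn, hζ, hfaithH, hdH, hQ, hQn, ⟨iso⟩⟩ :=
    exists_exactPrime_model hdeg hfaith hd (by omega) hP
  obtain ⟨u, hu⟩ := exists_prime_orderOf_dvd_card' (G := ↥(pClosure H p)) p (exactPrime_pClosure hG).dvd
  obtain ⟨S, -⟩ := exists_sect (exactPrime_pClosure hG) hu
  have h := hyp_pClosure hG hnn hζ hfaithH (by omega) S
  have hd' : charDegree (fun k : pClosure H p => ζ k) = d := by
    rw [← hdH]; simp [charDegree]
  obtain ⟨t, hpt, hcase, -⟩ := Upper.degree_bound h hp7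
  rw [hd'] at hcase
  set e := rowE S (trivIrr S.V) with he
  rcases hcase with ⟨-, hD | hD⟩ | ⟨hD, he3⟩
  · left
    obtain ⟨iso'⟩ := CfsgLib.HalfDegree.psl_of_half_degree hG.dvd hG.sq hnn
      (IsIrrCharacter.isCharacter hζ) hfaithH (by rw [hdH]; exact hD)
    exact ⟨⟨iso.trans iso'⟩, Or.inr (by omega)⟩
  · left
    obtain ⟨iso'⟩ := psl_of_upper hG.dvd hG.sq hnn hζ hfaithH hp7 (by rw [hdH]; exact hD)
    exact ⟨⟨iso.trans iso'⟩, Or.inl hD⟩
  · right
    by_cases he2 : e = 2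
    · left
      refine ⟨by omega, H, iH, inferInstance, ?_⟩
      obtain ⟨a, F, iFF, iFt, hpa, hFc, hiso⟩ :=
        Cfsg.Agent.S4705.result p (by omega) Q hQ hQn ζ hζ hfaithH (by omega)
      exact ⟨a, F, iFF, iFt, hpa, hFc, hiso, ⟨iso⟩⟩
    · right
      have he0 := rowE_pos h.exact S (trivIrr S.V)
      refine ⟨e, t, hD, hpt, by omega, he3, fun ⟨h16, h19⟩ => ?_⟩
      letI := Fintype.ofFinite (IrrCharacter (pClosure H p))
      exact Nineteen.false_of_nineteen h h19 (hd'.trans h16) (by omega)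

end CfsgLib.OrderDegrees.Linear
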