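import Cfsg.Agent.Lib.OrderDegrees.LinearBasic

/-!
# The scalar multiples of determinant one

For a representation of degree `d < p` this group has the same projective image and no central
element of order `p`.
-/

set_option autoImplicit false
set_option linter.unusedSectionVars false
set_option linter.style.haveILetI false

namespace CfsgLib.OrderDegrees.Linear

open scoped commutatorElement

open Cfsg CfsgLib.CharTheory Module

variable {G V : Type*} [Group G] [AddCommGroup V] [Module ℂ V] [FiniteDimensional ℂ V]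

theorem exists_smul_inv (ρ : Representation ℂ G V) {A : (Module.End ℂ V)ˣ} {g : G} {c : ℂ}
    (hA : (A : Module.End ℂ V) = c • ρ g) :
    ((A⁻¹ : (Module.End ℂ V)ˣ) : Module.End ℂ V) = c⁻¹ • ρ g⁻¹ := by
  rcases eq_or_ne c 0 with rfl | hc
  · rw [zero_smul] at hA
    have h : (0 : Module.End ℂ V) = 1 := by
      have := A.mul_inv
      rwa [hA, zero_mul] at this
    exact (eq_zero_of_zero_eq_one h _).trans (eq_zero_of_zero_eq_one h _).symm
  · refine Units.inv_eq_of_mul_eq_one_right ?_
    rw [hA, smul_mul_smul_comm, mul_inv_cancel₀ hc, ← map_mul, mul_inv_cancel, map_one, one_smul]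

/-- The scalar multiples of determinant one of the image. -/
def normSub (ρ : Representation ℂ G V) : Subgroup (Module.End ℂ V)ˣ where
  carrier := {A | LinearMap.det (A : Module.End ℂ V) = 1 ∧
    ∃ (g : G) (c : ℂ), (A : Module.End ℂ V) = c • ρ g}
  one_mem' := ⟨by rw [Units.val_one, map_one], 1, 1, by rw [Units.val_one, map_one, one_smul]⟩
  mul_mem' := by
    rintro A B ⟨hA, g, a, hg⟩ ⟨hB, h, b, hh⟩
    exact ⟨by rw [Units.val_mul, map_mul, hA, hB, mul_one], g * h, a * b, by
      rw [Units.val_mul, hg, hh, smul_mul_smul_comm, map_mul]⟩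
  inv_mem' := by
    rintro A ⟨hA, g, a, hg⟩
    refine ⟨?_, g⁻¹, a⁻¹, exists_smul_inv ρ hg⟩
    have h := congrArg LinearMap.det A.mul_inv
    rwa [map_mul, hA, one_mul, map_one] at h

/-- The inclusion. -/
def normRep (ρ : Representation ℂ G V) : Representation ℂ (normSub ρ) V :=
  (Units.coeHom _).comp (normSub ρ).subtype

theorem normRep_apply (ρ : Representation ℂ G V) (A : normSub ρ) :
    normRep ρ A = ((A : (Module.End ℂ V)ˣ) : Module.End ℂ V) := rfl

theorem normRep_injective (ρ : Representation ℂ G V) : Function.Injective (normRep ρ) :=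
  fun _ _ h => Subtype.ext (Units.ext h)

variable {ρ : Representation ℂ G V}

theorem exists_of_mem_normSub (A : normSub ρ) : ∃ (g : G) (c : ℂ), normRep ρ A = c • ρ g := A.2.2

theorem det_normRep (A : normSub ρ) : LinearMap.det (normRep ρ A) = 1 := A.2.1

theorem finite_normSub [Finite G] : Finite (normSub ρ) := by
  classical
  rcases Nat.eq_zero_or_pos (finrank ℂ V) with h0 | hd
  · haveI : Subsingleton V := (Module.finrank_zero_iff (R := ℂ)).1 h0
    exact Finite.of_injective (fun _ => ()) fun A B _ =>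
      normRep_injective ρ (LinearMap.ext fun v => Subsingleton.elim _ _)
  have hfin : (⋃ g : G, (fun c : ℂ => c • ρ g) ''
      (↑(Polynomial.nthRoots (finrank ℂ V) (LinearMap.det (ρ g))⁻¹).toFinset : Set ℂ)).Finite :=
    Set.finite_iUnion fun g => (Finset.finite_toSet _).image _
  refine @Finite.of_injective _ _ hfin.to_subtype (fun A : normSub ρ => ⟨normRep ρ A, ?_⟩)
    fun A B h => normRep_injective ρ (congrArg Subtype.val h)
  obtain ⟨g, c, hc⟩ := exists_of_mem_normSub A
  refine Set.mem_iUnion.2 ⟨g, c, ?_, hc.symm⟩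
  rw [Finset.mem_coe, Multiset.mem_toFinset, Polynomial.mem_nthRoots hd]
  have h := det_normRep A
  rw [hc, LinearMap.det_smul] at h
  exact eq_inv_of_mul_eq_one_left h

theorem exists_norm (hd : 0 < finrank ℂ V) (g : G) :
    ∃ (A : normSub ρ) (c : ℂ), c ≠ 0 ∧ normRep ρ A = c • ρ g := by
  obtain ⟨c, hc⟩ := IsAlgClosed.exists_pow_nat_eq (LinearMap.det (ρ g))⁻¹ hd
  have hunit : ρ g * ρ g⁻¹ = 1 := by rw [← map_mul, mul_inv_cancel, map_one]
  have hdet : LinearMap.det (ρ g) ≠ 0 := fun h0 => by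
    have := congrArg LinearMap.det hunit
    rw [map_mul, h0, zero_mul, map_one] at this
    exact zero_ne_one this
  have hc0 : c ≠ 0 := fun h0 => by
    rw [h0, zero_pow hd.ne'] at hc
    exact inv_ne_zero hdet hc.symm
  refine ⟨⟨⟨c • ρ g, c⁻¹ • ρ g⁻¹, ?_, ?_⟩, ?_, g, c, rfl⟩, c, hc0, rfl⟩
  · rw [smul_mul_smul_comm, mul_inv_cancel₀ hc0, hunit, one_smul]
  · rw [smul_mul_smul_comm, inv_mul_cancel₀ hc0, ← map_mul, inv_mul_cancel, map_one, one_smul]
  · show LinearMap.det (c • ρ g) = 1
    rw [LinearMap.det_smul, hc, inv_mul_cancel₀ hdet]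

theorem isIrreducible_normRep [ρ.IsIrreducible] : (normRep ρ).IsIrreducible := by
  have hd := finrank_pos_of_isIrreducible ρ
  haveI := nontrivial_of_isIrreducible ρ
  haveI : Nontrivial (Subrepresentation (normRep ρ)) := ⟨⊥, ⊤, fun h =>
    bot_ne_top (α := Submodule ℂ V) (congrArg Subrepresentation.toSubmodule h)⟩
  refine ⟨fun q => ?_⟩
  have hinv : ∀ g : G, ∀ v ∈ q.toSubmodule, ρ g v ∈ q.toSubmodule := fun g v hv => by
    obtain ⟨A, c, hc, hA⟩ := exists_norm (ρ := ρ) hd g
    have h := q.toSubmodule.smul_mem c⁻¹ (q.apply_mem_toSubmodule A hv)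
    rwa [hA, LinearMap.smul_apply, smul_smul, inv_mul_cancel₀ hc, one_smul] at h
  rcases IsSimpleOrder.eq_bot_or_eq_top (⟨q.toSubmodule, hinv⟩ : Subrepresentation ρ) with h | h
  · exact Or.inl (Subrepresentation.toSubmodule_injective
      (show q.toSubmodule = ⊥ from congrArg Subrepresentation.toSubmodule h))
  · exact Or.inr (Subrepresentation.toSubmodule_injective
      (show q.toSubmodule = ⊤ from congrArg Subrepresentation.toSubmodule h))

variable {p : ℕ} [hp : Fact p.Prime]

theorem exists_pElt_norm [Finite G] (hd : 0 < finrank ℂ V) {g : G} (hg : PElt p g) :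
    ∃ (A : normSub ρ) (c : ℂ), PElt p A ∧ c ≠ 0 ∧ normRep ρ A = c • ρ g := by
  haveI := finite_normSub (ρ := ρ)
  obtain ⟨A, c, hc, hA⟩ := exists_norm (ρ := ρ) hd g
  obtain ⟨m, hm, hm'⟩ := exists_pPart (p := p) ((A, g) : normSub ρ × G)
  refine ⟨A ^ m, c ^ m, hm.map (MonoidHom.fst _ G), pow_ne_zero _ hc, ?_⟩
  have hgm : g ^ m = g := hg.pow_eq_self (n := orderOf ((A, g) : normSub ρ × G))
    (congrArg Prod.snd (pow_orderOf_eq_one ((A, g) : normSub ρ × G))) hm'
  rw [map_pow, hA, smul_pow, ← map_pow, hgm]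

theorem not_pComm_normRep [Finite G] (h : ¬ PComm p ρ) : ¬ PComm p (normRep ρ) := fun hc => by
  obtain ⟨x, y, hx, hy, hxy⟩ := exists_of_not_pComm h
  rcases Nat.eq_zero_or_pos (finrank ℂ V) with h0 | hd
  · haveI : Subsingleton V := (Module.finrank_zero_iff (R := ℂ)).1 h0
    exact hxy (LinearMap.ext fun v => Subsingleton.elim _ _)
  obtain ⟨A, a, hA, ha, hAx⟩ := exists_pElt_norm (ρ := ρ) hd hx
  obtain ⟨B, b, hB, hb, hBy⟩ := exists_pElt_norm (ρ := ρ) hd hy
  have := hc A B hA hB
  rw [hAx, hBy, smul_mul_smul_comm, smul_mul_smul_comm, mul_comm b a] at this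
  exact hxy (smul_right_injective _ (mul_ne_zero ha hb) this)

theorem eq_one_of_central [ρ.IsIrreducible] (hd : finrank ℂ V < p) {z : normSub ρ}
    (hz : z ∈ Subgroup.center (normSub ρ)) (hzp : PElt p z) : z = 1 := by
  haveI := isIrreducible_normRep (ρ := ρ)
  obtain ⟨c, hc⟩ := exists_scalar_of_mem_center (ρ := normRep ρ) hz
  haveI := nontrivial_of_isIrreducible ρ
  have h1 : c ^ finrank ℂ V = 1 := by
    have h := det_normRep z
    rw [hc, LinearMap.det_smul, map_one, mul_one] at h
    exact h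
  obtain ⟨k, hk⟩ := hzp
  have h2 : c ^ p ^ k = 1 := by
    have h := congrArg (normRep ρ) hk
    rw [map_pow, hc, smul_pow, one_pow, map_one] at h
    obtain ⟨v, hv⟩ := exists_ne (0 : V)
    have h' := LinearMap.congr_fun h v
    simp only [LinearMap.smul_apply, Module.End.one_apply] at h'
    exact smul_left_injective ℂ hv (h'.trans (one_smul ℂ v).symm)
  have hcop : Nat.Coprime (finrank ℂ V) (p ^ k) :=
    ((Nat.coprime_of_lt_prime Module.finrank_pos.ne' hd hp.out).symm).pow_right k
  have hc1 : c = 1 := orderOf_eq_one_iff.1 (Nat.eq_one_of_dvd_coprimes hcop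
    (orderOf_dvd_of_pow_eq_one h1) (orderOf_dvd_of_pow_eq_one h2))
  refine normRep_injective ρ ?_
  rw [hc, hc1, one_smul, map_one]

theorem exists_of_mem_commutator {A : normSub ρ} (hA : A ∈ commutator (normSub ρ)) :
    ∃ k ∈ commutator G, normRep ρ A = ρ k := by
  have hA' : A ∈ Subgroup.closure (commutatorSet (normSub ρ)) := by rwa [← commutator_eq_closure]
  induction hA' using Subgroup.closure_induction with
  | mem A hmem =>
    obtain ⟨X, Y, rfl⟩ := hmem
    obtain ⟨g, a, hg⟩ := exists_of_mem_normSub X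
    obtain ⟨h, b, hh⟩ := exists_of_mem_normSub Y
    refine ⟨⁅g, h⁆, Subgroup.commutator_mem_commutator (Subgroup.mem_top g) (Subgroup.mem_top h), ?_⟩
    rcases subsingleton_or_nontrivial V with hs | hnt
    · exact LinearMap.ext fun v => Subsingleton.elim _ _
    have hne : ∀ (Z : normSub ρ) (k : G) (r : ℂ), normRep ρ Z = r • ρ k → r ≠ 0 := by
      intro Z k r hZ h0
      obtain ⟨v, hv⟩ := exists_ne (0 : V)
      rw [h0, zero_smul] at hZ
      have := LinearMap.congr_fun
        (show normRep ρ (Z⁻¹ * Z) = normRep ρ 1 by rw [inv_mul_cancel]) v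
      rw [map_mul, map_one, hZ, mul_zero, Module.End.one_apply, LinearMap.zero_apply] at this
      exact hv this.symm
    rw [commutatorElement_def, commutatorElement_def, map_mul, map_mul, map_mul,
      show normRep ρ X⁻¹ = a⁻¹ • ρ g⁻¹ from exists_smul_inv ρ hg,
      show normRep ρ Y⁻¹ = b⁻¹ • ρ h⁻¹ from exists_smul_inv ρ hh, hg, hh,
      smul_mul_smul_comm, smul_mul_smul_comm, smul_mul_smul_comm, map_mul, map_mul, map_mul,
      show a * b * a⁻¹ * b⁻¹ = 1 by field_simp [hne X g a hg, hne Y h b hh], one_smul]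
  | one => exact ⟨1, Subgroup.one_mem _, by rw [map_one, map_one]⟩
  | mul A B hA' hB' ihA ihB =>
    rw [← commutator_eq_closure] at hA' hB'
    obtain ⟨k, hk, hkA⟩ := ihA hA'
    obtain ⟨l, hl, hlB⟩ := ihB hB'
    exact ⟨k * l, Subgroup.mul_mem _ hk hl, by rw [map_mul, hkA, hlB, map_mul]⟩
  | inv A hA' ih =>
    rw [← commutator_eq_closure] at hA'
    obtain ⟨k, hk, hkA⟩ := ih hA'
    refine ⟨k⁻¹, Subgroup.inv_mem _ hk, ?_⟩
    have h' : ((A : (Module.End ℂ V)ˣ) : Module.End ℂ V) = (1 : ℂ) • ρ k := by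
      rw [one_smul]; exact hkA
    rw [normRep_apply, Subgroup.coe_inv, exists_smul_inv ρ h', inv_one, one_smul]

end CfsgLib.OrderDegrees.Linear
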