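import Cfsg.Agent.Lib.OrderDegrees.LinearSmall
import Cfsg.Agent.Lib.OrderDegrees.LinearNorm
import Cfsg.Agent.Lib.CharDegreesTheory.SixtyDegree
import Cfsg.Agent.Lib.RealChar.FeitThompson
import Mathlib.Analysis.SpecialFunctions.Trigonometric.Bounds

/-!
# Feit's theorem on linear groups of degree less than `p - 1`

An irreducible group of degree `< p - 1` with non-commuting `p`-elements and without central
elements of order `p` has order not divisible by `p ^ 2`.
-/

set_option autoImplicit false
set_option linter.unusedSectionVars false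
set_option linter.style.haveILetI false

namespace CfsgLib.OrderDegrees.Linear

open Cfsg CfsgLib.CharTheory Module
open scoped commutatorElement

/-- The statement in a given degree. -/
def CoreAt (p d : ℕ) : Prop :=
  ∀ (G : Type) [Group G] [Finite G] (V : Type) [AddCommGroup V] [Module ℂ V] [FiniteDimensional ℂ V]
    (ρ : Representation ℂ G V), finrank ℂ V = d → Function.Injective ρ → ρ.IsIrreducible →
    ¬ PComm p ρ → (∀ z ∈ Subgroup.center G, PElt p z → z = 1) → ¬ p ^ 2 ∣ Nat.card G

/-- The commutator of a subgroup generated by elements with commuting images acts trivially. -/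
theorem apply_eq_one_of_mem_commutator {G M : Type*} [Group G] [Monoid M] (σ : G →* M) {s : Set G}
    (hs : ∀ a ∈ s, ∀ b ∈ s, σ a * σ b = σ b * σ a) {k : G}
    (hk : k ∈ ⁅Subgroup.closure s, Subgroup.closure s⁆) : σ k = 1 := by
  let f := MonoidHom.toHomUnits σ
  have hf : ∀ a ∈ s, ∀ b ∈ s, f a * f b = f b * f a := fun a ha b hb => Units.ext (hs a ha b hb)
  have h1 : ∀ a ∈ Subgroup.closure s, ∀ b ∈ s, f a * f b = f b * f a := fun a ha b hb =>
    Subgroup.mem_centralizer_singleton_iff.1 ((Subgroup.closure_le
      ((Subgroup.centralizer {f b}).comap f)).2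
      (fun c hc => Subgroup.mem_centralizer_singleton_iff.2 (hf c hc b hb)) ha)
  have h2 : ∀ a ∈ Subgroup.closure s, ∀ b ∈ Subgroup.closure s, f b * f a = f a * f b :=
    fun a ha b hb => Subgroup.mem_centralizer_singleton_iff.1 ((Subgroup.closure_le
      ((Subgroup.centralizer {f a}).comap f)).2
      (fun c hc => Subgroup.mem_centralizer_singleton_iff.2 (h1 a ha c hc).symm) hb)
  have hle : ⁅Subgroup.closure s, Subgroup.closure s⁆ ≤ f.ker := Subgroup.commutator_le.2
    fun a ha b hb => by
      rw [MonoidHom.mem_ker, map_commutatorElement, commutatorElement_eq_one_iff_mul_comm]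
      exact h2 b hb a ha
  exact congrArg Units.val (MonoidHom.mem_ker.1 (hle hk))

section

variable {p : ℕ} [hp : Fact p.Prime] {G V : Type} [Group G] [Finite G] [AddCommGroup V]
  [Module ℂ V] [FiniteDimensional ℂ V] {ρ : Representation ℂ G V}

theorem finrank_eigen_le {H : Subgroup G} {r c : Subrepresentation (res ρ H)} (hrc : IsCompl r c)
    (x : H) (ε : ℂ) :
    finrank ℂ (Module.End.eigenspace (ρ x) ε) ≤
      finrank ℂ (Module.End.eigenspace (r.toRepresentation x) ε) +
        finrank ℂ (c.toSubmodule ⊓ Module.End.eigenspace (ρ x) ε : Submodule ℂ V) := by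
  set Er := (Module.End.eigenspace (r.toRepresentation x) ε).map r.toSubmodule.subtype
  set Ec : Submodule ℂ V := c.toSubmodule ⊓ Module.End.eigenspace (ρ x) ε
  have hle : Module.End.eigenspace (ρ x) ε ≤ Er ⊔ Ec := by
    intro v hv
    rw [Module.End.mem_eigenspace_iff] at hv
    obtain ⟨a, ha, b, hb, hab⟩ := Submodule.mem_sup.1
      (show v ∈ r.toSubmodule ⊔ c.toSubmodule by
        rw [← Subrepresentation.toSubmodule_sup, hrc.sup_eq_top]; trivial)
    have hdisj : r.toSubmodule ⊓ c.toSubmodule = ⊥ := by
      rw [← Subrepresentation.toSubmodule_inf, hrc.inf_eq_bot]; rfl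
    have ha' : ρ x a ∈ r.toSubmodule := r.apply_mem_toSubmodule x ha
    have hb' : ρ x b ∈ c.toSubmodule := c.apply_mem_toSubmodule x hb
    have hz : ρ x a - ε • a = -(ρ x b - ε • b) := by
      rw [eq_neg_iff_add_eq_zero, sub_add_sub_comm, ← map_add, ← smul_add, hab, hv, sub_self]
    have h0 : ρ x a - ε • a ∈ r.toSubmodule ⊓ c.toSubmodule := ⟨sub_mem ha' (Submodule.smul_mem _ _ ha), by
      rw [hz]; exact neg_mem (sub_mem hb' (Submodule.smul_mem _ _ hb))⟩
    rw [hdisj, Submodule.mem_bot] at h0
    rw [h0, eq_comm, neg_eq_zero, sub_eq_zero] at hz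
    refine Submodule.mem_sup.2 ⟨a, ⟨⟨a, ha⟩, ?_, rfl⟩, b,
      ⟨hb, Module.End.mem_eigenspace_iff.2 hz⟩, hab⟩
    exact Module.End.mem_eigenspace_iff.2 (Subtype.ext (sub_eq_zero.1 h0))
  refine (Submodule.finrank_mono hle).trans ((Submodule.finrank_add_le_finrank_add_finrank _ _).trans ?_)
  refine Nat.add_le_add_right (le_of_eq ?_) _
  exact (LinearEquiv.finrank_eq
    (Submodule.equivMapOfInjective _ r.toSubmodule.injective_subtype _)).symm

/-- A centraliser with non-commuting `p`-elements yields a `p`-element with a large eigenspace. -/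
theorem exists_large_eigenspace [ρ.IsIrreducible] (hρ : Function.Injective ρ)
    (hd : finrank ℂ V + 1 < p) (ih : ∀ m < finrank ℂ V, CoreAt p m)
    (hsq : p ^ 2 ∣ Nat.card G) {g : G} (hg : g ∉ Subgroup.center G)
    (hbad : ¬ PComm p (res ρ (Subgroup.centralizer {g}))) :
    ∃ (x : G) (ε : ℂ), PElt p x ∧ x ≠ 1 ∧
      p ≤ 2 * finrank ℂ (Module.End.eigenspace (ρ x) ε) + 1 := by
  set K := Subgroup.centralizer ({g} : Set G) with hK
  have hpp : p.Prime := hp.out
  obtain ⟨r, c, hrc, hirr, hnr⟩ := exists_big hbad
  haveI := hirr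
  have hsum := finrank_compl hrc
  have hrle := Submodule.finrank_le r.toSubmodule
  have hm := small (ρ := r.toRepresentation) (by omega) hnr
  have hgK : ∀ k : K, (k : G) * g = g * k := fun k => Subgroup.mem_centralizer_singleton_iff.1 k.2
  have hlt : finrank ℂ r.toSubmodule < finrank ℂ V := by
    refine lt_of_le_of_ne hrle fun he => hg ?_
    have hr : r = ⊤ := Subrepresentation.toSubmodule_injective (Submodule.eq_top_of_finrank_eq he)
    subst hr
    haveI := isIrreducible_of_equiv (topEquiv (res ρ K))
    obtain ⟨a, ha⟩ := exists_smul_of_commute (res ρ K) (ρ g) fun k => by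
      show ρ g * ρ (k : G) = ρ (k : G) * ρ g
      rw [← map_mul, ← map_mul, hgK]
    exact mem_center_of_scalar hρ (c := a) ha
  have hcC : PComm p c.toRepresentation := by
    by_contra hc
    have := small (ρ := c.toRepresentation) (by omega) hc
    omega
  by_cases hsc : ∃ x : K, PElt p x ∧ x ≠ 1 ∧ ∃ a : ℂ, r.toRepresentation x = a • 1
  · obtain ⟨x, hx, hx1, a, ha⟩ := hsc
    refine ⟨x, a, hx.map K.subtype, fun h => hx1 (Subtype.ext h), hm.trans ?_⟩
    have : r.toSubmodule ≤ Module.End.eigenspace (ρ x) a := fun v hv =>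
      Module.End.mem_eigenspace_iff.2 (congrArg Subtype.val (LinearMap.congr_fun ha ⟨v, hv⟩))
    have := Submodule.finrank_mono this
    omega
  push Not at hsc
  haveI := finite_img (ρ := r.toRepresentation)
  haveI hRirr := isIrreducible_imgRep (ρ := r.toRepresentation)
  have hRsq := ih _ hlt _ _ (imgRep r.toRepresentation) rfl imgRep_injective hRirr
    (not_pComm_imgRep hnr) fun z hz hzp => by
      obtain ⟨x, hx, rfl⟩ := exists_pElt_lift hzp
      obtain ⟨a, ha⟩ := exists_scalar_of_mem_center (ρ := imgRep r.toRepresentation) hz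
      by_contra hne
      have hx1 : x ≠ 1 := fun h => hne (by rw [h, map_one])
      exact hsc x hx hx1 a ha
  obtain ⟨-, hR, hRc⟩ := eigen_spec (ρ := imgRep r.toRepresentation) imgRep_injective (by omega)
    (not_pComm_imgRep hnr) hRsq
  -- the elements of `p`-power order of `K` inject
  have hKord : ∀ x : K, PElt p x → x = 1 ∨ orderOf x = p := fun x hx => by
    by_cases hx1 : x = 1
    · exact Or.inl hx1
    right
    obtain ⟨k, hk⟩ := hx.orderOf_eq
    rcases k with _ | _ | k
    · exact absurd (orderOf_eq_one_iff.1 (by rw [hk, pow_zero])) hx1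
    · rw [hk, zero_add, pow_one]
    · exfalso
      set y := x ^ p with hy
      have hyo : orderOf y = p ^ (k + 1) := by
        rw [hy, orderOf_pow' x hpp.ne_zero, hk, Nat.gcd_eq_right (dvd_pow_self p (by omega)),
          pow_succ p (k + 1), Nat.mul_div_cancel _ hpp.pos]
      have hinj : ∀ w : K, PElt p w → toImg r.toRepresentation w = 1 → w = 1 := fun w hw h1 => by
        by_contra hw1
        refine hsc w hw hw1 1 ?_
        rw [one_smul, ← imgRep_toImg (ρ := r.toRepresentation) w, h1, map_one]
      obtain ⟨j, hj⟩ := (hx.map (toImg r.toRepresentation)).orderOf_eq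
      have hj2 : j < 2 := by
        by_contra hj2
        exact hRsq ((pow_dvd_pow p (by omega : 2 ≤ j)).trans (hj ▸ orderOf_dvd_natCard _))
      have h1 : toImg r.toRepresentation y = 1 := by
        rw [hy, map_pow]
        refine orderOf_dvd_iff_pow_eq_one.1 (hj ▸ ?_)
        exact (pow_dvd_pow p (by omega : j ≤ 1)).trans (pow_one p).dvd
      have := hinj y (hx.pow p) h1
      rw [this, orderOf_one] at hyo
      exact absurd hyo.symm (Nat.one_lt_pow (by omega) hpp.one_lt).ne'
  -- an element of order `p` acting trivially on the complement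
  obtain ⟨a, b, ha, hb, hab⟩ := exists_of_not_pComm (not_pComm_imgRep hnr)
  have hau : orderOf a = p := by
    obtain ⟨x, hx, rfl⟩ := exists_pElt_lift ha
    rcases hKord x hx with rfl | hxo
    · rw [map_one, map_one, one_mul, mul_one] at hab; exact absurd rfl hab
    · refine ((Nat.dvd_prime hpp).1 (hxo ▸ orderOf_map_dvd _ x)).resolve_left fun h => hab ?_
      rw [orderOf_eq_one_iff.1 h, map_one, one_mul, mul_one]
  let K0 : Subgroup K := Subgroup.closure {x : K | PElt p x}
  have hK0 : ∀ z : img r.toRepresentation, orderOf z = p → z ∈ K0.map (toImg r.toRepresentation) :=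
    fun z hz => by
      obtain ⟨x, hx, rfl⟩ := exists_pElt_lift (pElt_of_orderOf (k := 1) (by rw [hz, pow_one]))
      exact ⟨x, Subgroup.subset_closure hx, rfl⟩
  obtain ⟨u, huK, hua⟩ : ∃ u ∈ ⁅K0, K0⁆, toImg r.toRepresentation u = a := by
    have h1 : SmallGroups.QuasiSimple.pClosure (img r.toRepresentation) p ≤
        K0.map (toImg r.toRepresentation) := (Subgroup.closure_le _).2 hK0
    have hG' : DefectOne.ExactPrime (img r.toRepresentation) p :=
      ⟨hpp, hau ▸ orderOf_dvd_natCard a, hRsq⟩
    have h2 : a ∈ ⁅SmallGroups.QuasiSimple.pClosure (img r.toRepresentation) p,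
        SmallGroups.QuasiSimple.pClosure (img r.toRepresentation) p⁆ := by
      haveI := Fintype.ofFinite (img r.toRepresentation)
      set C := SmallGroups.QuasiSimple.pClosure (img r.toRepresentation) p with hC
      have haC : a ∈ C := SmallGroups.QuasiSimple.mem_pClosure hau
      haveI := isIrreducible_res_normal (ρ := imgRep r.toRepresentation) C (fun h => by
        have hall : ∀ z : img r.toRepresentation, PElt p z → z ∈ C := fun z hz => by
          obtain ⟨k, hk⟩ := hz.orderOf_eq
          rcases k with _ | _ | k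
          · rw [pow_zero, orderOf_eq_one_iff] at hk; rw [hk]; exact C.one_mem
          · exact SmallGroups.QuasiSimple.mem_pClosure (by rw [hk, zero_add, pow_one])
          · exact absurd ((pow_dvd_pow p (by omega : 2 ≤ k + 1 + 1)).trans
              (hk ▸ orderOf_dvd_natCard z)) hRsq
        exact not_pComm_imgRep hnr fun z w hz hw => h ⟨z, hall z hz⟩ ⟨w, hall w hw⟩
          (PElt.of_map (f := C.subtype) C.subtype_injective hz)
          (PElt.of_map (f := C.subtype) C.subtype_injective hw)) (by omega)
      have hnC : ¬ PComm p (res (imgRep r.toRepresentation) C) := fun h => by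
        have hall : ∀ z : img r.toRepresentation, PElt p z → z ∈ C := fun z hz => by
          obtain ⟨k, hk⟩ := hz.orderOf_eq
          rcases k with _ | _ | k
          · rw [pow_zero, orderOf_eq_one_iff] at hk; rw [hk]; exact C.one_mem
          · exact SmallGroups.QuasiSimple.mem_pClosure (by rw [hk, zero_add, pow_one])
          · exact absurd ((pow_dvd_pow p (by omega : 2 ≤ k + 1 + 1)).trans
              (hk ▸ orderOf_dvd_natCard z)) hRsq
        exact not_pComm_imgRep hnr fun z w hz hw => h ⟨z, hall z hz⟩ ⟨w, hall w hw⟩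
          (PElt.of_map (f := C.subtype) C.subtype_injective hz)
          (PElt.of_map (f := C.subtype) C.subtype_injective hw)
      obtain ⟨-, -, h3⟩ := eigen_spec (ρ := res (imgRep r.toRepresentation) C)
        (fun _ _ h => Subtype.ext (imgRep_injective h)) (by omega) hnC
        fun h => hRsq (h.trans (Subgroup.card_subgroup_dvd_card C))
      have h4 := Subgroup.mem_map_of_mem C.subtype (h3 ⟨a, haC⟩ (by rw [Subgroup.orderOf_mk, hau]))
      rwa [commutator_def, Subgroup.map_commutator, ← MonoidHom.range_eq_map,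
        Subgroup.range_subtype] at h4
    exact Subgroup.commutator_le_map_commutator h1 h1 h2
  obtain ⟨n, hn, hn'⟩ := exists_pPart (p := p) u
  have hun : toImg r.toRepresentation (u ^ n) = a := by
    rw [map_pow, hua]
    exact ha.pow_eq_self (by rw [← hua, ← map_pow, pow_orderOf_eq_one, map_one]) hn'
  have hune : u ^ n ≠ 1 := fun h => by
    rw [h, map_one] at hun
    rw [← hun, orderOf_one] at hau
    exact hpp.ne_one hau.symm
  set v := u ^ n with hv
  have hvo : orderOf v = p := (hKord v hn).resolve_left hune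
  have hvc : c.toRepresentation v = 1 := by
    rw [hv, map_pow, apply_eq_one_of_mem_commutator c.toRepresentation
      (fun a ha b hb => hcC a b ha hb) huK, one_pow]
  have hrv : r.toRepresentation v = imgRep r.toRepresentation a := by
    rw [← hun]; rfl
  obtain ⟨hRm, hR1⟩ := hR a hau
  -- a line for each eigenvalue other than one
  have hline : ∀ ε : ℂ, ε ≠ 1 → finrank ℂ (Module.End.eigenspace (ρ v) ε) ≤ 1 := fun ε hε => by
    refine (finrank_eigen_le hrc v ε).trans ?_
    have hbot : (c.toSubmodule ⊓ Module.End.eigenspace (ρ v) ε : Submodule ℂ V) = ⊥ := by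
      refine eq_bot_iff.2 fun w hw => (Submodule.mem_bot ℂ).2 ?_
      have h1 := Module.End.mem_eigenspace_iff.1 hw.2
      have h2 : ρ v w = w := congrArg Subtype.val (LinearMap.congr_fun hvc ⟨w, hw.1⟩)
      rw [h2] at h1
      have : (ε - 1) • w = 0 := by rw [sub_smul, one_smul, ← h1, sub_self]
      exact (smul_eq_zero.1 this).resolve_left (sub_ne_zero.2 hε)
    rw [hbot, finrank_bot, add_zero, hrv]
    exact hRm ε
  by_cases hCv : PComm p (res ρ (Subgroup.centralizer {(v : G)}))
  swap
  · obtain ⟨r', c', -, hirr', hnr'⟩ := exists_big hCv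
    haveI := hirr'
    have hrle' := Submodule.finrank_le r'.toSubmodule
    have hm' := small (ρ := r'.toRepresentation) (by omega) hnr'
    let v' : Subgroup.centralizer {(v : G)} :=
      ⟨v, Subgroup.mem_centralizer_singleton_iff.2 rfl⟩
    obtain ⟨a', ha'⟩ := exists_smul_of_commute r'.toRepresentation (r'.toRepresentation v') fun k => by
      have hk : v' * k = k * v' :=
        Subtype.ext (Subgroup.mem_centralizer_singleton_iff.1 k.2).symm
      show r'.toRepresentation v' * r'.toRepresentation k = r'.toRepresentation k * r'.toRepresentation v'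
      rw [← map_mul, ← map_mul, hk]
    refine ⟨v, a', hn.map K.subtype, fun h => hune (Subtype.ext h), hm'.trans ?_⟩
    have : r'.toSubmodule ≤ Module.End.eigenspace (ρ v) a' := fun w hw =>
      Module.End.mem_eigenspace_iff.2 (congrArg Subtype.val (LinearMap.congr_fun ha' ⟨w, hw⟩))
    have := Submodule.finrank_mono this
    omega
  -- the Sylow subgroup through `v`
  have hvp : PElt p (v : G) := hn.map K.subtype
  obtain ⟨P, hP⟩ := (isPGroup_zpowers hvp).exists_le_sylow
  have hvP : (v : G) ∈ (P : Subgroup G) := hP (Subgroup.mem_zpowers _)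
  have hPC : ∀ y ∈ (P : Subgroup G), y ∈ Subgroup.centralizer {(v : G)} := fun y hy =>
    Subgroup.mem_centralizer_singleton_iff.2 (commute_of_pGroup (by omega) hρ P.isPGroup' hy hvP)
  have hin : ∀ z : G, PElt p z → z * v = v * z → z ∈ (P : Subgroup G) := fun z hz hzv => by
    have hle : Subgroup.zpowers z ≤ Subgroup.normalizer ((P : Subgroup G) : Set G) := by
      refine Subgroup.zpowers_le.2 ?_
      have hcom : ∀ y ∈ (P : Subgroup G), z * y = y * z := fun y hy =>
        congrArg Subtype.val (hCv.commute (fun _ _ h => Subtype.ext (hρ h))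
          (PElt.of_map (f := (Subgroup.centralizer {(v : G)}).subtype) (Subgroup.subtype_injective _)
            (x := ⟨z, Subgroup.mem_centralizer_singleton_iff.2 hzv⟩) hz)
          (PElt.of_map (f := (Subgroup.centralizer {(v : G)}).subtype) (Subgroup.subtype_injective _)
            (x := ⟨y, hPC y hy⟩) (pElt_of_isPGroup P.isPGroup' hy)))
      rw [Subgroup.mem_normalizer_iff]
      intro y
      constructor
      · intro hy
        rwa [hcom y hy, mul_inv_cancel_right]
      · intro hy
        have h1 := hcom _ hy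
        have h2 : z * (z * y * z⁻¹) = z * y := h1.trans (by group)
        rw [mul_left_cancel h2] at hy
        exact hy
    exact (P.is_maximal' (IsPGroup.to_sup_of_normal_left' P.isPGroup' (isPGroup_zpowers hz) hle)
      le_sup_left) ▸ (le_sup_right : Subgroup.zpowers z ≤ _) (Subgroup.mem_zpowers z)
  obtain ⟨y, hy, hyg⟩ : ∃ y ∈ (P : Subgroup G), y * g ≠ g * y := by
    by_contra hall
    push Not at hall
    have hPK : (P : Subgroup G) ≤ K := fun y hy =>
      Subgroup.mem_centralizer_singleton_iff.2 (hall y hy)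
    have hfac : 2 ≤ (Nat.card G).factorization p :=
      (hpp.pow_dvd_iff_le_factorization Nat.card_pos.ne').1 hsq
    have hinj : Function.Injective
        ((toImg r.toRepresentation).comp (Subgroup.inclusion hPK)) := by
      refine (injective_iff_map_eq_one _).2 fun y hy => ?_
      by_contra hne
      have hyP : PElt p (Subgroup.inclusion hPK y) :=
        PElt.of_map (f := K.subtype) K.subtype_injective (pElt_of_isPGroup P.isPGroup' y.2)
      refine hsc _ hyP (fun h => hne (Subgroup.inclusion_injective hPK (h.trans (map_one _).symm))) 1 ?_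
      rw [one_smul, ← imgRep_toImg (ρ := r.toRepresentation), ← MonoidHom.comp_apply
        (toImg r.toRepresentation), hy, map_one]
    have h1 := Subgroup.card_dvd_of_injective _ hinj
    rw [P.card_eq_multiplicity] at h1
    exact hRsq ((pow_dvd_pow p hfac).trans h1)
  set x := y * (g * y⁻¹ * g⁻¹) with hxdef
  have hgy : g * y⁻¹ * g⁻¹ ∈ (P : Subgroup G) := by
    refine hin _ ((pElt_of_isPGroup P.isPGroup' ((P : Subgroup G).inv_mem hy)).conj g) ?_
    have h1 : Commute (v : G) g := hgK v
    have h2 : Commute (v : G) y := (Subgroup.mem_centralizer_singleton_iff.1 (hPC y hy)).symm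
    exact (((h1.mul_right h2.inv_right).mul_right h1.inv_right)).symm.eq
  have hxP : x ∈ (P : Subgroup G) := (P : Subgroup G).mul_mem hy hgy
  refine ⟨x, 1, pElt_of_isPGroup P.isPGroup' hxP, fun hx1 => hyg ?_, ?_⟩
  · rw [hxdef, ← mul_assoc, ← mul_assoc, mul_inv_eq_one, mul_inv_eq_iff_eq_mul] at hx1
    exact hx1
  obtain ⟨ι, hι, bs, μ, hcard, -, hpow, -⟩ := exists_eigenbasis ρ (v : G)
  have hbv : ∀ i, ρ (v : G) (bs i) = μ i • bs i := fun i => by simpa using hpow 1 i
  have hfix : ∀ i, μ i ≠ 1 → bs i ∈ Module.End.eigenspace (ρ x) 1 := by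
    intro i hi
    have hmem : bs i ∈ Module.End.eigenspace (ρ v) (μ i) := Module.End.mem_eigenspace_iff.2 (hbv i)
    have hspan : ∀ w ∈ Module.End.eigenspace (ρ v) (μ i), ∃ a : ℂ, w = a • bs i := fun w hw => by
      obtain ⟨w₀, -, hw₀⟩ := finrank_eq_one_iff'.1
        (le_antisymm (hline _ hi) (Nat.pos_of_ne_zero fun h0 => bs.ne_zero i (by
          have := Submodule.finrank_eq_zero.1 h0
          rw [this] at hmem
          exact (Submodule.mem_bot ℂ).1 hmem)))
      obtain ⟨s, hs⟩ := hw₀ ⟨bs i, hmem⟩
      obtain ⟨t, ht⟩ := hw₀ ⟨w, hw⟩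
      have hs' : s • (w₀ : V) = bs i := congrArg Subtype.val hs
      have ht' : t • (w₀ : V) = w := congrArg Subtype.val ht
      have hs0 : s ≠ 0 := fun h => bs.ne_zero i (by rw [← hs', h, zero_smul])
      exact ⟨t * s⁻¹, by rw [← hs', smul_smul, inv_mul_cancel_right₀ hs0, ht']⟩
    have hpres : ∀ z : G, z * v = v * z → ∃ a : ℂ, ρ z (bs i) = a • bs i := fun z hz =>
      hspan _ (Module.End.mem_eigenspace_iff.2 (by
        rw [← Module.End.mul_apply, ← map_mul, ← hz, map_mul, Module.End.mul_apply, hbv, map_smul]))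
    obtain ⟨A, hA⟩ := hpres y (Subgroup.mem_centralizer_singleton_iff.1 (hPC y hy))
    obtain ⟨B, hB⟩ := hpres g (hgK v).symm
    have hinv : ∀ (z : G) (s : ℂ), ρ z (bs i) = s • bs i → ρ z⁻¹ (bs i) = s⁻¹ • bs i := by
      intro z s hz
      have h1 := congrArg (ρ z⁻¹) hz
      rw [← Module.End.mul_apply, ← map_mul, inv_mul_cancel, map_one, Module.End.one_apply,
        map_smul] at h1
      have hs0 : s ≠ 0 := fun h => bs.ne_zero i (by rw [h1, h, zero_smul])
      conv_rhs => rw [h1]
      rw [smul_smul, inv_mul_cancel₀ hs0, one_smul]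
    have hne : ∀ (z : G) (s : ℂ), ρ z (bs i) = s • bs i → s ≠ 0 := fun z s hz h => bs.ne_zero i (by
      have h1 := congrArg (ρ z⁻¹) hz
      rw [← Module.End.mul_apply, ← map_mul, inv_mul_cancel, map_one, Module.End.one_apply, h,
        zero_smul, map_zero] at h1
      exact h1)
    rw [Module.End.mem_eigenspace_iff, hxdef]
    simp only [map_mul, Module.End.mul_apply, hA, hB, hinv y A hA, hinv g B hB, map_smul, smul_smul]
    congr 1
    field_simp [hne y A hA, hne g B hB]
  classical
  have hli : (Finset.univ.filter fun i => ¬ μ i = 1).card ≤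
      finrank ℂ (Module.End.eigenspace (ρ x) 1) := by
    rw [← Fintype.card_subtype]
    exact (LinearIndependent.of_comp (Module.End.eigenspace (ρ x) 1).subtype
      (v := fun i : {i // μ i ≠ 1} => (⟨bs i, hfix i i.2⟩ : Module.End.eigenspace (ρ x) (1 : ℂ)))
      (bs.linearIndependent.comp _ Subtype.val_injective)).fintype_card_le_finrank
  have h1le : (Finset.univ.filter fun i => μ i = 1).card ≤
      finrank ℂ (Module.End.eigenspace (ρ v) (1 : ℂ)) := by
    rw [← Fintype.card_subtype]
    exact (LinearIndependent.of_comp (Module.End.eigenspace (ρ v) 1).subtype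
      (v := fun i : {i // μ i = 1} => (⟨bs i, Module.End.mem_eigenspace_iff.2 (by
        rw [hbv, i.2])⟩ : Module.End.eigenspace (ρ v) (1 : ℂ)))
      (bs.linearIndependent.comp _ Subtype.val_injective)).fintype_card_le_finrank
  have hsplit := Finset.card_filter_add_card_filter_not (s := Finset.univ) (fun i => μ i = 1)
  rw [Finset.card_univ, hcard] at hsplit
  have hone := finrank_eigen_le hrc v 1
  rw [hrv] at hone
  have hcle : finrank ℂ (c.toSubmodule ⊓ Module.End.eigenspace (ρ v) (1 : ℂ) : Submodule ℂ V) ≤
      finrank ℂ c.toSubmodule := Submodule.finrank_mono inf_le_left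
  have hodd := hpp.odd_of_ne_two (by omega)
  have hRle := hRm 1
  rcases eq_or_ne (2 * finrank ℂ r.toSubmodule + 1) p with he | he
  · rw [hR1 he, finrank_bot] at hone
    omega
  · rw [Nat.odd_iff] at hodd
    omega

end

end CfsgLib.OrderDegrees.Linear
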