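import Cfsg.Agent.Lib.OrderDegrees.LinearFeit

/-!
# Reduction to a Sylow subgroup of order `p`

A faithful irreducible character of degree `< p - 1` of a group with a non-normal Sylow
`p`-subgroup yields a group with the same central quotient, the same degree and a Sylow
`p`-subgroup of order `p`.
-/

set_option autoImplicit false
set_option linter.unusedSectionVars false
set_option linter.style.haveILetI false

namespace CfsgLib.OrderDegrees.Linear

open Cfsg CfsgLib.CharTheory CfsgLib.DefectOne Module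

variable {p : ℕ} [hp : Fact p.Prime] {G V : Type*} [Group G] [Finite G] [AddCommGroup V]
  [Module ℂ V] [FiniteDimensional ℂ V] {ρ : Representation ℂ G V}

/-- The map from the normalised group to the central quotient. -/
theorem nonempty_quotient_equiv [ρ.IsIrreducible] (hρ : Function.Injective ρ) :
    Nonempty ((G ⧸ Subgroup.center G) ≃* (normSub ρ ⧸ Subgroup.center (normSub ρ))) := by
  haveI := nontrivial_of_isIrreducible ρ
  haveI := isIrreducible_normRep (ρ := ρ)
  have hne : ∀ (A : normSub ρ) (g : G) (c : ℂ), normRep ρ A = c • ρ g → c ≠ 0 := by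
    intro A g c hA h0
    obtain ⟨v, hv⟩ := exists_ne (0 : V)
    rw [h0, zero_smul] at hA
    have := LinearMap.congr_fun
      (show normRep ρ (A⁻¹ * A) = normRep ρ 1 by rw [inv_mul_cancel]) v
    rw [map_mul, map_one, hA, mul_zero, Module.End.one_apply, LinearMap.zero_apply] at this
    exact hv this.symm
  have huniq : ∀ {g g' : G} {c c' : ℂ}, c ≠ 0 → c' ≠ 0 → c • ρ g = c' • ρ g' →
      (QuotientGroup.mk g : G ⧸ Subgroup.center G) = QuotientGroup.mk g' := by
    intro g g' c c' hc hc' h
    refine QuotientGroup.eq.2 (mem_center_of_scalar hρ (c := c'⁻¹ * c) ?_)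
    have h1 : ρ g' = (c'⁻¹ * c) • ρ g := by
      rw [← smul_smul, h, smul_smul, inv_mul_cancel₀ hc', one_smul]
    rw [map_mul, h1, mul_smul_comm, ← map_mul, inv_mul_cancel, map_one]
  choose g c hgc using fun A : normSub ρ => exists_of_mem_normSub A
  let φ : normSub ρ →* G ⧸ Subgroup.center G := MonoidHom.mk' (fun A => QuotientGroup.mk (g A))
    fun A B => by
      rw [← QuotientGroup.mk_mul]
      refine huniq (hne _ _ _ (hgc (A * B))) (mul_ne_zero (hne _ _ _ (hgc A)) (hne _ _ _ (hgc B))) ?_
      rw [← hgc (A * B), map_mul, hgc A, hgc B, smul_mul_smul_comm, map_mul]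
  have hsurj : Function.Surjective φ := fun q => by
    induction q using QuotientGroup.induction_on with
    | _ x =>
      obtain ⟨A, s, hs, hA⟩ := exists_norm (ρ := ρ) (finrank_pos_of_isIrreducible ρ) x
      exact ⟨A, huniq (hne _ _ _ (hgc A)) hs (by rw [← hgc A, hA])⟩
  have hker : φ.ker = Subgroup.center (normSub ρ) := by
    ext A
    rw [MonoidHom.mem_ker]
    constructor
    · intro h
      obtain ⟨s, hs⟩ := exists_scalar_of_mem_center (ρ := ρ) ((QuotientGroup.eq_one_iff _).1 h)
      refine mem_center_of_scalar (normRep_injective ρ) (c := c A * s) ?_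
      rw [hgc A, hs, smul_smul]
    · intro h
      obtain ⟨s, hs⟩ := exists_scalar_of_mem_center (ρ := normRep ρ) h
      refine (QuotientGroup.eq_one_iff _).2 (mem_center_of_scalar hρ (c := (c A)⁻¹ * s) ?_)
      rw [← smul_smul, ← hs, hgc A, smul_smul, inv_mul_cancel₀ (hne _ _ _ (hgc A)), one_smul]
  exact ⟨((QuotientGroup.quotientMulEquivOfEq hker.symm).trans
    (QuotientGroup.quotientKerEquivOfSurjective φ hsurj)).symm⟩

theorem exists_exactPrime_model_of_core {χ : IrrCharacter G} {d : ℕ}
    (hdeg : charDegree (χ : G → ℂ) = d) (hfaith : ∀ g : G, (χ : G → ℂ) g = (χ : G → ℂ) 1 → g = 1)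
    (hd : d + 1 < p) (hcore : ∀ m : ℕ, m + 1 < p → CoreAt p m) {P : Sylow p G} (hP : ¬ (P : Subgroup G).Normal) :
    ∃ (H : Type) (_ : Group H) (_ : Fintype H) (ζ : H → ℂ) (Q : Sylow p H),
      ExactPrime H p ∧ (∀ M : Subgroup H, M.Normal → Nat.card M ≠ p) ∧ IsIrrCharacter H ζ ∧
        (∀ g : H, ζ g = ζ 1 → g = 1) ∧ charDegree ζ = d ∧ Nat.card Q = p ∧
        ¬ (Q : Subgroup H).Normal ∧
        Nonempty ((G ⧸ Subgroup.center G) ≃* (H ⧸ Subgroup.center H)) := by
  obtain ⟨n, ρ, hirr, hχ⟩ := χ.2
  haveI := hirr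
  have hn : finrank ℂ (Fin n → ℂ) = d := by
    rw [← hdeg, ← hχ, charDegree, ρ.char_one, Complex.natCast_re, Nat.floor_natCast]
  have hρ : Function.Injective ρ := fun a b hab => by
    refine eq_of_mul_inv_eq_one (hfaith _ ?_)
    rw [← hχ, Representation.character, Representation.character, map_mul, hab, ← map_mul,
      mul_inv_cancel]
  have hd' : finrank ℂ (Fin n → ℂ) + 1 < p := by omega
  have hnc : ¬ PComm p ρ := fun h =>
    hP (sylow_normal_of_commute (fun x y hx hy => h.commute hρ hx hy) P)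
  haveI := finite_normSub (ρ := ρ)
  haveI := isIrreducible_normRep (ρ := ρ)
  have hncH := not_pComm_normRep hnc
  have hsq := hcore _ hd' (normSub ρ) (Fin n → ℂ) (normRep ρ) rfl (normRep_injective ρ)
    inferInstance hncH fun z hz hzp => eq_one_of_central (by omega) hz hzp
  obtain ⟨Q⟩ : Nonempty (Sylow p (normSub ρ)) := inferInstance
  obtain ⟨x, y, hx, hy, hxy⟩ := exists_of_not_pComm hncH
  have hdvd : p ∣ Nat.card (normSub ρ) := by
    obtain ⟨k, hk⟩ := hx.orderOf_eq
    rcases k with _ | k
    · rw [pow_zero, orderOf_eq_one_iff] at hk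
      rw [hk, map_one, one_mul, mul_one] at hxy
      exact absurd rfl hxy
    · exact (dvd_pow_self p (Nat.succ_ne_zero k)).trans (hk ▸ orderOf_dvd_natCard x)
  have hG : ExactPrime (normSub ρ) p := ⟨hp.out, hdvd, hsq⟩
  have hfac : (Nat.card (normSub ρ)).factorization p = 1 := by
    refine le_antisymm ?_ (hp.out.factorization_pos_of_dvd Nat.card_pos.ne' hdvd)
    by_contra h
    push Not at h
    exact hsq ((hp.out.pow_dvd_iff_le_factorization Nat.card_pos.ne').2 h)
  have hQ : Nat.card Q = p := by rw [Q.card_eq_multiplicity, hfac, pow_one]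
  have hnn' : ∀ M : Subgroup (normSub ρ), M.Normal → Nat.card M ≠ p := fun M hM hc => by
    let R : Sylow p (normSub ρ) := Sylow.ofCard M (by rw [hc, hfac, pow_one])
    haveI : (R : Subgroup (normSub ρ)).Normal := hM
    haveI := Sylow.unique_of_normal R hM
    have hmem : ∀ z : normSub ρ, PElt p z → z ∈ (R : Subgroup (normSub ρ)) := fun z hz => by
      obtain ⟨T, hT⟩ := (isPGroup_zpowers hz).exists_le_sylow
      rw [Subsingleton.elim R T]
      exact hT (Subgroup.mem_zpowers z)
    apply hxy
    rw [← map_mul, ← map_mul, commute_of_pGroup (by omega) (normRep_injective ρ) R.isPGroup'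
      (hmem x hx) (hmem y hy)]
  refine ⟨normSub ρ, inferInstance, Fintype.ofFinite _, (normRep ρ).character, Q, hG, hnn',
    isIrrCharacter_character _, fun g hg => ?_, ?_, hQ, fun h => hnn' _ h hQ,
    nonempty_quotient_equiv hρ⟩
  · rw [(normRep ρ).char_one, character_eq_finrank_iff] at hg
    exact normRep_injective ρ (by rw [hg, map_one, Module.End.one_eq_id])
  · rw [charDegree, (normRep ρ).char_one, Complex.natCast_re, Nat.floor_natCast, hn]

theorem exists_exactPrime_model {χ : IrrCharacter G} {d : ℕ}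
    (hdeg : charDegree (χ : G → ℂ) = d) (hfaith : ∀ g : G, (χ : G → ℂ) g = (χ : G → ℂ) 1 → g = 1)
    (hd : d + 1 < p) (hp7 : 7 ≤ p) {P : Sylow p G} (hP : ¬ (P : Subgroup G).Normal) :
    ∃ (H : Type) (_ : Group H) (_ : Fintype H) (ζ : H → ℂ) (Q : Sylow p H),
      ExactPrime H p ∧ (∀ M : Subgroup H, M.Normal → Nat.card M ≠ p) ∧ IsIrrCharacter H ζ ∧
        (∀ g : H, ζ g = ζ 1 → g = 1) ∧ charDegree ζ = d ∧ Nat.card Q = p ∧
        ¬ (Q : Subgroup H).Normal ∧
        Nonempty ((G ⧸ Subgroup.center G) ≃* (H ⧸ Subgroup.center H)) :=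
  exists_exactPrime_model_of_core hdeg hfaith hd (core hp7) hP

end CfsgLib.OrderDegrees.Linear
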