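import Cfsg.Agent.Lib.OrderDegrees.LinearFeit
import Cfsg.Agent.Lib.OrderDegrees.LinearReduce
import Cfsg.Agent.Lib.CharTheory.Degree

/-!
# Feit's theorem for the prime five

In place of an exponential near `1` the element with two eigenvalues is multiplied by an element acting
as `-1` on one summand.
-/

set_option autoImplicit false
set_option linter.unusedSectionVars false
set_option linter.style.haveILetI false

namespace CfsgLib.OrderDegrees.Linear

open Cfsg CfsgLib.CharTheory Module CfsgLib.CharDegreesTheory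

variable {p : ℕ} [hp : Fact p.Prime] {G V : Type} [Group G] [Finite G] [AddCommGroup V]
  [Module ℂ V] [FiniteDimensional ℂ V] {ρ : Representation ℂ G V}

theorem norm_exp_cube_add_one_lt (hp5 : p = 5) :
    ‖Complex.exp (2 * Real.pi * Complex.I / p) ^ 3 + 1‖ < 1 := by
  have h := Real.norm_exp_I_mul_ofReal_sub_one_le (x := Real.pi / 5)
  rw [Real.norm_eq_abs, abs_of_nonneg (by positivity)] at h
  have e : Complex.exp (2 * Real.pi * Complex.I / p) ^ 3 + 1 =
      -(Complex.exp (Complex.I * ((Real.pi / 5 : ℝ) : ℂ)) - 1) := by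
    have h1 : Complex.exp (2 * Real.pi * Complex.I / p) ^ 3 =
        Complex.exp (Real.pi * Complex.I) * Complex.exp (Complex.I * ((Real.pi / 5 : ℝ) : ℂ)) := by
      rw [← Complex.exp_nat_mul, ← Complex.exp_add, hp5]
      congr 1
      push_cast
      ring
    rw [h1, Complex.exp_pi_mul_I]
    ring
  rw [e, norm_neg]
  have := Real.pi_lt_d2
  linarith

/-- A nonabelian special linear group of degree two has `-1` among its commutators. -/
theorem exists_neg_one {K W : Type} [Group K] [Finite K] [AddCommGroup W] [Module ℂ W]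
    [FiniteDimensional ℂ W] {ρ : Representation ℂ K W} [Finite (normSub ρ)] (hp5 : p = 5)
    (hd : finrank ℂ W = 2) (hnc : ¬ PComm p (normRep ρ)) (hsq : ¬ p ^ 2 ∣ Nat.card (normSub ρ))
    (hNc : ∀ u : normSub ρ, orderOf u = p → u ∈ commutator (normSub ρ)) :
    ∃ k : K, k ∈ commutator K ∧ ρ k = -1 := by
  classical
  set C := commutator (normSub ρ) with hC
  haveI := Fintype.ofFinite C
  haveI := Fintype.ofFinite (IrrCharacter C)
  have hall : ∀ z : normSub ρ, PElt p z → z ∈ C := fun z hz => by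
    obtain ⟨k, hk⟩ := hz.orderOf_eq
    rcases k with _ | _ | k
    · rw [pow_zero, orderOf_eq_one_iff] at hk; rw [hk]; exact C.one_mem
    · exact hNc z (by rw [hk, zero_add, pow_one])
    · exact absurd ((pow_dvd_pow p (by omega : 2 ≤ k + 1 + 1)).trans (hk ▸ orderOf_dvd_natCard z)) hsq
  let σ : Representation ℂ C W := (normRep ρ).comp C.subtype
  have heven : 2 ∣ Nat.card C := by
    by_contra hodd
    have hχ : IsCharacter C σ.character := isCharacter_character σ
    obtain ⟨m, hm⟩ := IsCharacter.exists_sum hχ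
    have hab := CfsgLib.SmallGroups.QuasiSimple.comm_of_linear (χ := σ.character) (fun g hg => by
        rw [σ.char_one, character_eq_finrank_iff] at hg
        exact Subtype.ext (normRep_injective ρ (show normRep ρ (g : normSub ρ) = normRep ρ 1 by
          rw [map_one, Module.End.one_eq_id]; exact hg))) hm
      fun x hx => by
        have hle := CfsgLib.SmallGroups.QuasiSimple.charDegree_le hm hx
        obtain ⟨D, hD0, hdvd, hD⟩ := IsIrrCharacter.exists_degree_dvd x.2
        rw [show charDegree σ.character = 2 by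
          rw [charDegree, σ.char_one, Complex.natCast_re, Nat.floor_natCast, hd]] at hle
        rw [show charDegree (x : C → ℂ) = D by
          rw [charDegree, hD, Complex.natCast_re, Nat.floor_natCast]] at hle ⊢
        rcases (show D = 1 ∨ D = 2 by omega) with e | e
        · exact e
        · exact absurd (e ▸ hdvd) hodd
    refine hnc fun a b ha hb => ?_
    rw [← map_mul, ← map_mul]
    exact congrArg (normRep ρ) (congrArg Subtype.val (hab ⟨a, hall a ha⟩ ⟨b, hall b hb⟩))
  obtain ⟨t, ht⟩ := exists_prime_orderOf_dvd_card' 2 heven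
  have hto : orderOf (t : normSub ρ) = 2 := by rw [Subgroup.orderOf_coe, ht]
  obtain ⟨k, hk, hkt⟩ := exists_of_mem_commutator t.2
  refine ⟨k, hk, hkt ▸ ?_⟩
  obtain ⟨ι, hι, bs, μ, hcard, hμ, hpow, -⟩ := exists_eigenbasis (normRep ρ) (t : normSub ρ)
  rw [hto] at hμ
  have hb1 : ∀ i, normRep ρ (t : normSub ρ) (bs i) = μ i • bs i := fun i => by simpa using hpow 1 i
  have hdet : ∏ i, μ i = 1 := by
    have h1 := det_normRep (t : normSub ρ)
    rw [← LinearMap.det_toMatrix bs,
      show LinearMap.toMatrix bs bs (normRep ρ (t : normSub ρ)) = Matrix.diagonal μ by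
        ext i j
        rw [LinearMap.toMatrix_apply, hb1 j, map_smul, Module.Basis.repr_self, Matrix.diagonal_apply]
        by_cases hij : i = j
        · subst hij; simp
        · simp [hij],
      Matrix.det_diagonal] at h1
    exact h1
  let e := Fintype.equivFinOfCardEq (hcard.trans hd)
  rw [← e.symm.prod_comp, Fin.prod_univ_two] at hdet
  have hμ2 : ∀ i, μ i = 1 ∨ μ i = -1 := fun i => sq_eq_one_iff.1 (hμ i)
  have hall' : ∀ i, μ i = μ (e.symm 0) := fun i => by
    obtain ⟨a, rfl⟩ := e.symm.surjective i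
    fin_cases a
    · rfl
    · show μ (e.symm 1) = μ (e.symm 0)
      rcases hμ2 (e.symm 0) with h0 | h0 <;> rcases hμ2 (e.symm 1) with h1 | h1 <;>
        rw [h0, h1] at hdet ⊢ <;> norm_num at hdet
  rcases hμ2 (e.symm 0) with h0 | h0
  · exfalso
    have : (t : normSub ρ) = 1 := normRep_injective ρ (bs.ext fun i => by
      rw [hb1, hall', h0, one_smul, map_one, Module.End.one_apply])
    rw [this, orderOf_one] at hto
    omega
  · exact bs.ext fun i => by
      rw [hb1, hall', h0, LinearMap.neg_apply, Module.End.one_apply, neg_smul, one_smul]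

/-- An element with two eigenvalues near each other and a square of `p`-power order. -/
theorem false_of_two_eigenvalues_sq [ρ.IsIrreducible] (hρ : Function.Injective ρ)
    (hd : finrank ℂ V + 1 < p) (hnc : ¬ PComm p ρ) {g : G} (hg : PElt p (g ^ 2)) {H : Subgroup G}
    {r c : Subrepresentation (res ρ H)} (hrc : IsCompl r c) (hr0 : r.toSubmodule ≠ ⊥)
    (hc0 : c.toSubmodule ≠ ⊥) {α β : ℂ} (hr : ∀ v ∈ r.toSubmodule, ρ g v = α • v)
    (hc : ∀ v ∈ c.toSubmodule, ρ g v = β • v) (hαβ2 : α ^ 2 ≠ β ^ 2) (hclose : ‖β - α‖ < 1) : False := by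
  obtain ⟨r0, hr0m, hr0'⟩ := (Submodule.ne_bot_iff _).1 hr0
  obtain ⟨c0, hc0m, hc0'⟩ := (Submodule.ne_bot_iff _).1 hc0
  have hαβ : α ≠ β := fun e => hαβ2 (by rw [e])
  have hgc : g ^ 2 ∉ Subgroup.center G := fun h => by
    obtain ⟨s, hs⟩ := exists_scalar_of_mem_center (ρ := ρ) h
    have h1 := apply_pow_eigen (hr r0 hr0m) 2
    have h2 := apply_pow_eigen (hc c0 hc0m) 2
    rw [hs, LinearMap.smul_apply, Module.End.one_apply] at h1 h2
    exact hαβ2 ((smul_left_injective ℂ hr0' h1.symm).trans (smul_left_injective ℂ hc0' h2.symm).symm)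
  obtain ⟨ι, hι, bs, μ, -, -, hpow, -⟩ := exists_eigenbasis ρ g
  have hval : ∀ i, μ i = α ∨ μ i = β := fun i => by
    by_contra hcon
    push Not at hcon
    obtain ⟨a, ha, b, hb, hab⟩ := Submodule.mem_sup.1
      (show bs i ∈ r.toSubmodule ⊔ c.toSubmodule by
        rw [← Subrepresentation.toSubmodule_sup, hrc.sup_eq_top]; trivial)
    have hdisj : r.toSubmodule ⊓ c.toSubmodule = ⊥ := by
      rw [← Subrepresentation.toSubmodule_inf, hrc.inf_eq_bot]; rfl
    have h1 : (α - μ i) • a = (μ i - β) • b := by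
      have h2 : ρ g (bs i) = μ i • bs i := by simpa using hpow 1 i
      rw [← hab, map_add, hr a ha, hc b hb, smul_add] at h2
      rw [sub_smul, sub_smul, sub_eq_sub_iff_add_eq_add, h2, add_comm]
    have h0 : (α - μ i) • a ∈ r.toSubmodule ⊓ c.toSubmodule :=
      ⟨Submodule.smul_mem _ _ ha, by rw [h1]; exact Submodule.smul_mem _ _ hb⟩
    rw [hdisj, Submodule.mem_bot] at h0
    have ha0 : a = 0 := (smul_eq_zero.1 h0).resolve_left (sub_ne_zero.2 (Ne.symm hcon.1))
    have hb0 : b = 0 := (smul_eq_zero.1 (h1 ▸ h0)).resolve_left (sub_ne_zero.2 hcon.2)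
    exact bs.ne_zero i (by rw [← hab, ha0, hb0, add_zero])
  set d := finrank ℂ V with hd'
  let e₁ : V ≃ₗ[ℂ] (Fin d → ℂ) := (Module.finBasis ℂ V).equivFun
  obtain ⟨π, e₂, hiso, hπ⟩ := exists_unitary_model (conjRep ρ e₁)
  let e := e₁.trans e₂
  have hπe : ∀ x v, π x (e v) = e (ρ x v) := fun x v => by
    show π x (e₂ (e₁ v)) = e₂ (e₁ (ρ x v))
    rw [hπ, conjRep_apply, LinearEquiv.symm_apply_apply]
  have hnorm : ‖π g - α • 1‖ < 1 := norm_sub_smul_lt π hiso g (bs.map e) μ
    (fun i => by
      rw [Basis.map_apply, hπe, ← map_smul]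
      exact congrArg e (by simpa using hpow 1 i)) α one_pos fun i => by
      rcases hval i with h | h <;> rw [h]
      · rw [sub_self, norm_zero]; exact one_pos
      · exact hclose
  set M := Subgroup.normalClosure ({g} : Set G) with hM
  have hgM : g ∈ M := Subgroup.subset_normalClosure (Set.mem_singleton g)
  have hnM : ¬ PComm p (res ρ M) := fun h => hgc (mem_center_of_normal hρ hd hnc M h (M.pow_mem hgM 2) hg)
  haveI := isIrreducible_res_normal M hnM hd
  let W : Subrepresentation (res ρ M) := ⟨Module.End.eigenspace (ρ g) α, fun x v hv => by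
    rw [Module.End.mem_eigenspace_iff] at hv ⊢
    have h1 := apply_mem_eigenspace_of_norm_sub_lt π hiso g α hnorm (x := (x : G)) x.2 (v := e v)
      (by rw [hπe, hv, map_smul])
    rw [hπe, hπe, ← map_smul] at h1
    exact e.injective h1⟩
  rcases IsSimpleOrder.eq_bot_or_eq_top W with h | h
  · have h' : r0 ∈ W.toSubmodule := Module.End.mem_eigenspace_iff.2 (hr r0 hr0m)
    rw [h] at h'
    exact hr0' ((Submodule.mem_bot ℂ).1 h')
  · have h' : c0 ∈ W.toSubmodule := by rw [h]; trivial
    have h2 := Module.End.mem_eigenspace_iff.1 h'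
    rw [hc c0 hc0m] at h2
    exact hαβ (smul_left_injective ℂ hc0' h2).symm

theorem false_of_large_eigenspace_five [ρ.IsIrreducible] (hρ : Function.Injective ρ)
    (hd : finrank ℂ V + 1 < p) (hp5 : p = 5) (ih : ∀ m < finrank ℂ V, CoreAt p m)
    (hnc : ¬ PComm p ρ) (hZ : ∀ z ∈ Subgroup.center G, PElt p z → z = 1) {x : G} {ε : ℂ}
    (hx : PElt p x) (hx1 : x ≠ 1)
    (hE : p ≤ 2 * finrank ℂ (Module.End.eigenspace (ρ x) ε) + 1) : False := by
  have hd2 := two_le_finrank hnc
  have hpp : p.Prime := hp.out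
  -- a conjugate not commuting with `x`
  obtain ⟨a, ha⟩ : ∃ a : G, x * (a * x * a⁻¹) ≠ a * x * a⁻¹ * x := by
    by_contra hall
    push Not at hall
    set M := Subgroup.normalClosure ({x} : Set G) with hM
    have h1 : ∀ a b : G, a * x * a⁻¹ * (b * x * b⁻¹) = b * x * b⁻¹ * (a * x * a⁻¹) := fun a b => by
      have h2 := congrArg (fun t => a * t * a⁻¹) (hall (a⁻¹ * b))
      simpa [mul_assoc] using h2
    have hgen : M = Subgroup.closure (Group.conjugatesOfSet ({x} : Set G)) := rfl
    have hcomm : ∀ u ∈ M, ∀ w ∈ M, u * w = w * u := by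
      have hc : ∀ u ∈ Group.conjugatesOfSet ({x} : Set G), ∀ w ∈ Group.conjugatesOfSet ({x} : Set G),
          u * w = w * u := fun u hu w hw => by
        obtain ⟨z, rfl, hzu⟩ := Group.mem_conjugatesOfSet_iff.1 hu
        obtain ⟨z', rfl, hzw⟩ := Group.mem_conjugatesOfSet_iff.1 hw
        obtain ⟨a, rfl⟩ := isConj_iff.1 hzu
        obtain ⟨b, rfl⟩ := isConj_iff.1 hzw
        exact h1 a b
      intro u hu w hw
      rw [hgen] at hu hw
      have hu' : ∀ w ∈ Group.conjugatesOfSet ({x} : Set G), u * w = w * u := fun w hw =>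
        Subgroup.mem_centralizer_singleton_iff.1 ((Subgroup.closure_le _).2 (fun u hu =>
          Subgroup.mem_centralizer_singleton_iff.2 (hc u hu w hw)) hu)
      exact (Subgroup.mem_centralizer_singleton_iff.1 ((Subgroup.closure_le _).2 (fun w hw =>
        Subgroup.mem_centralizer_singleton_iff.2 (hu' w hw).symm) hw)).symm
    refine hx1 (hZ x (mem_center_of_normal hρ hd hnc M (fun u w _ _ => ?_)
      (Subgroup.subset_normalClosure rfl) hx) hx)
    show ρ (u : G) * ρ (w : G) = ρ (w : G) * ρ (u : G)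
    rw [← map_mul, ← map_mul, hcomm u u.2 w w.2]
  set x' := a * x * a⁻¹ with hx'
  set K := Subgroup.closure ({x, x'} : Set G) with hK
  have hxK : x ∈ K := Subgroup.subset_closure (by simp)
  have hx'K : x' ∈ K := Subgroup.subset_closure (by simp)
  have hPK : PElt p (⟨x, hxK⟩ : K) := PElt.of_map (f := K.subtype) K.subtype_injective hx
  have hPK' : PElt p (⟨x', hx'K⟩ : K) := PElt.of_map (f := K.subtype) K.subtype_injective (hx.conj a)
  have hncK : ¬ PComm p (res ρ K) := fun h => ha (hρ (by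
    rw [map_mul ρ x, map_mul ρ x']
    exact h ⟨x, hxK⟩ ⟨x', hx'K⟩ hPK hPK'))
  -- a common eigenvector
  set E := Module.End.eigenspace (ρ x) ε with hEdef
  have hinja : Function.Injective (ρ a) := fun u w huw => by
    have := congrArg (ρ a⁻¹) huw
    rwa [← Module.End.mul_apply, ← Module.End.mul_apply, ← map_mul, inv_mul_cancel, map_one,
      Module.End.one_apply, Module.End.one_apply] at this
  obtain ⟨v, hv, hv0⟩ : ∃ v ∈ E ⊓ E.map (ρ a), v ≠ 0 := by
    refine (Submodule.ne_bot_iff _).1 fun h0 => ?_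
    have h1 := Submodule.finrank_sup_add_finrank_inf_eq E (E.map (ρ a))
    rw [h0, finrank_bot, (LinearEquiv.finrank_eq (Submodule.equivMapOfInjective _ hinja E)).symm] at h1
    have h2 := Submodule.finrank_le (E ⊔ E.map (ρ a))
    omega
  have hxv : ρ x v = ε • v := Module.End.mem_eigenspace_iff.1 hv.1
  have hx'v : ρ x' v = ε • v := by
    obtain ⟨w, hw, hwv⟩ := hv.2
    rw [← hwv, hx', ← Module.End.mul_apply, ← map_mul,
      show a * x * a⁻¹ * a = a * x by group, map_mul, Module.End.mul_apply,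
      Module.End.mem_eigenspace_iff.1 hw, map_smul]
  have hline : ∀ k ∈ K, ∃ s : ℂ, ρ k v = s • v := by
    intro k hk
    induction hk using Subgroup.closure_induction with
    | mem k hk =>
      rcases hk with rfl | hk
      · exact ⟨ε, hxv⟩
      · rw [Set.mem_singleton_iff.1 hk]; exact ⟨ε, hx'v⟩
    | one => exact ⟨1, by rw [map_one, one_smul, Module.End.one_apply]⟩
    | mul k l _ _ hk hl =>
      obtain ⟨s, hs⟩ := hk
      obtain ⟨t, ht⟩ := hl
      exact ⟨t * s, by rw [map_mul, Module.End.mul_apply, ht, map_smul, hs, smul_smul]⟩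
    | inv k _ hk =>
      obtain ⟨s, hs⟩ := hk
      refine ⟨s ^ (orderOf k - 1), ?_⟩
      rw [show k⁻¹ = k ^ (orderOf k - 1) from inv_eq_of_mul_eq_one_right (by
        rw [← pow_succ', Nat.sub_add_cancel (orderOf_pos k), pow_orderOf_eq_one])]
      exact apply_pow_eigen hs _
  obtain ⟨r, c, hrc, hirr, hnr⟩ := exists_big hncK
  haveI := hirr
  have hsum := finrank_compl hrc
  have hlt : finrank ℂ r.toSubmodule < finrank ℂ V := by
    refine lt_of_le_of_ne (Submodule.finrank_le _) fun he => ?_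
    have hr : r = ⊤ := Subrepresentation.toSubmodule_injective (Submodule.eq_top_of_finrank_eq he)
    subst hr
    haveI := isIrreducible_of_equiv (topEquiv (res ρ K))
    rcases IsSimpleOrder.eq_bot_or_eq_top (⟨Submodule.span ℂ {v}, fun k w hw => by
        obtain ⟨t, rfl⟩ := Submodule.mem_span_singleton.1 hw
        obtain ⟨s, hs⟩ := hline k k.2
        refine Submodule.mem_span_singleton.2 ⟨t * s, ?_⟩
        show _ = ρ (k : G) (t • v)
        rw [map_smul, hs, smul_smul]⟩ : Subrepresentation (res ρ K)) with h | h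
    · exact hv0 (Submodule.span_singleton_eq_bot.1 (congrArg Subrepresentation.toSubmodule h))
    · have h1 : finrank ℂ (Submodule.span ℂ {v}) = finrank ℂ V := by
        rw [show Submodule.span ℂ {v} = ⊤ from congrArg Subrepresentation.toSubmodule h, finrank_top]
      rw [finrank_span_singleton hv0] at h1
      omega
  have hm := small (ρ := r.toRepresentation) (by omega) hnr
  have hcC : PComm p c.toRepresentation := by
    by_contra hc
    have := small (ρ := c.toRepresentation) (by omega) hc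
    omega
  -- the normalised group on `r`
  haveI := finite_normSub (ρ := r.toRepresentation)
  haveI hNirr := isIrreducible_normRep (ρ := r.toRepresentation)
  have hNsq := ih _ hlt _ _ (normRep r.toRepresentation) rfl (normRep_injective _) hNirr
    (not_pComm_normRep hnr) fun z hz hzp => eq_one_of_central (by omega) hz hzp
  obtain ⟨-, hN, hNc⟩ := eigen_spec (ρ := normRep r.toRepresentation) (normRep_injective _)
    (by omega) (not_pComm_normRep hnr) hNsq
  set σ := r.toRepresentation with hσ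
  obtain ⟨A, cc, hA, hcc, hAx⟩ := exists_pElt_norm (ρ := σ) (by omega) hPK
  have hσx : σ ⟨x, hxK⟩ = cc⁻¹ • normRep σ A := by
    rw [hAx, smul_smul, inv_mul_cancel₀ hcc, one_smul]
  have hA1 : A ≠ 1 := fun h => by
    rw [h, map_one] at hσx
    refine ha (hρ ?_)
    rw [map_mul ρ x, map_mul ρ x']
    refine eq_of_isCompl hrc (fun w hw => ?_) fun w hw => ?_
    · have h1 : ∀ u ∈ r.toSubmodule, ρ x u = cc⁻¹ • u := fun u hu =>
        congrArg Subtype.val (LinearMap.congr_fun hσx ⟨u, hu⟩)
      rw [Module.End.mul_apply, Module.End.mul_apply,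
        h1 (ρ x' w) (r.apply_mem_toSubmodule ⟨x', hx'K⟩ hw), h1 w hw, map_smul]
    · exact congrArg Subtype.val (LinearMap.congr_fun (hcC ⟨x, hxK⟩ ⟨x', hx'K⟩ hPK hPK') ⟨w, hw⟩)
  have hAo : orderOf A = p := by
    obtain ⟨k, hk⟩ := hA.orderOf_eq
    rcases k with _ | _ | k
    · exact absurd (orderOf_eq_one_iff.1 (by rw [hk, pow_zero])) hA1
    · rw [hk, zero_add, pow_one]
    · exact absurd ((pow_dvd_pow p (by omega : 2 ≤ k + 1 + 1)).trans
        (hk ▸ orderOf_dvd_natCard A)) hNsq
  obtain ⟨hNm, hN1⟩ := hN A hAo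
  have hshift : ∀ t : ℂ, Module.End.eigenspace (σ ⟨x, hxK⟩) t ≤
      Module.End.eigenspace (normRep σ A) (cc * t) := fun t w hw => by
    rw [Module.End.mem_eigenspace_iff] at hw ⊢
    rw [hAx, LinearMap.smul_apply, hw, smul_smul]
  have hrε : finrank ℂ (Module.End.eigenspace (σ ⟨x, hxK⟩) ε) ≤ 1 :=
    (Submodule.finrank_mono (hshift ε)).trans (hNm _)
  have hEle : finrank ℂ E ≤ finrank ℂ (Module.End.eigenspace (σ ⟨x, hxK⟩) ε) +
      finrank ℂ (c.toSubmodule ⊓ Module.End.eigenspace (ρ x) ε : Submodule ℂ V) :=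
    finrank_eigen_le hrc ⟨x, hxK⟩ ε
  have hcle : finrank ℂ (c.toSubmodule ⊓ Module.End.eigenspace (ρ x) ε : Submodule ℂ V) ≤
      finrank ℂ c.toSubmodule := Submodule.finrank_mono inf_le_left
  have hodd := hpp.odd_of_ne_two (by omega)
  rw [Nat.odd_iff] at hodd
  have hhalf : 2 * finrank ℂ r.toSubmodule + 1 = p := by omega
  have hε1 : finrank ℂ (Module.End.eigenspace (σ ⟨x, hxK⟩) ε) = 1 := by omega
  have hcE : c.toSubmodule ≤ Module.End.eigenspace (ρ x) ε := by
    have h := Submodule.eq_of_le_of_finrank_le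
      (inf_le_left : c.toSubmodule ⊓ Module.End.eigenspace (ρ x) ε ≤ c.toSubmodule) (by omega)
    rw [← h]
    exact inf_le_right
  have hc0 : c.toSubmodule ≠ ⊥ := fun h => by
    rw [h, finrank_bot] at hsum hcle
    omega
  have hr0 : r.toSubmodule ≠ ⊥ := fun h => by
    rw [h, finrank_bot] at hhalf
    omega
  have hζ0 : cc * ε ≠ 1 := fun h1 => by
    have := Submodule.finrank_mono (hshift ε)
    rw [h1, hN1 hhalf, finrank_bot, hε1] at this
    omega
  -- an element with the two eigenvalues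
  obtain ⟨k, hk, hkA⟩ := exists_of_mem_commutator (hNc A hAo)
  have hkc : c.toRepresentation k = 1 := by
    have htop : Subgroup.closure ((↑) ⁻¹' ({x, x'} : Set G) : Set K) = ⊤ :=
      Subgroup.closure_closure_coe_preimage
    refine apply_eq_one_of_mem_commutator c.toRepresentation (s := ((↑) ⁻¹' ({x, x'} : Set G) : Set K))
      (fun u hu w hw => ?_) (by rw [htop]; exact hk)
    have hel : ∀ z ∈ ((↑) ⁻¹' ({x, x'} : Set G) : Set K), PElt p z := fun z hz => by
      refine PElt.of_map (f := K.subtype) K.subtype_injective ?_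
      rcases hz with h | h
      · show PElt p (z : G); rw [h]; exact hx
      · show PElt p (z : G); rw [Set.mem_singleton_iff.1 h]; exact hx.conj a
    exact hcC u w (hel u hu) (hel w hw)
  set y : K := ⟨x, hxK⟩ * k⁻¹ with hy
  have hyr : ∀ w ∈ r.toSubmodule, ρ (y : G) w = cc⁻¹ • w := fun w hw => by
    have h1 : σ y = cc⁻¹ • 1 := by
      rw [hy, map_mul, hσx, hkA, smul_mul_assoc, ← map_mul, mul_inv_cancel, map_one]
    exact congrArg Subtype.val (LinearMap.congr_fun h1 ⟨w, hw⟩)
  have hyc : ∀ w ∈ c.toSubmodule, ρ (y : G) w = ε • w := fun w hw => by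
    have h1 : c.toRepresentation y = c.toRepresentation ⟨x, hxK⟩ := by
      have hk' : c.toRepresentation k⁻¹ = 1 := by
        calc c.toRepresentation k⁻¹ = c.toRepresentation k⁻¹ * c.toRepresentation k := by
              rw [hkc, mul_one]
          _ = 1 := by rw [← map_mul, inv_mul_cancel, map_one]
      rw [hy, map_mul, hk', mul_one]
    have h2 : ρ (y : G) w = ρ x w := congrArg Subtype.val (LinearMap.congr_fun h1 ⟨w, hw⟩)
    rw [h2]
    exact Module.End.mem_eigenspace_iff.1 (hcE hw)
  -- the orders of the eigenvalues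
  obtain ⟨c0, hc0m, hc0'⟩ := (Submodule.ne_bot_iff _).1 hc0
  obtain ⟨r0, hr0m, hr0'⟩ := (Submodule.ne_bot_iff _).1 hr0
  obtain ⟨i, hi⟩ := hx
  obtain ⟨j, hj⟩ := hA
  have hN' : ∀ n, p ^ i ∣ n → ε ^ n = 1 := fun n hn => by
    have h1 := apply_pow_eigen (Module.End.mem_eigenspace_iff.1 (hcE hc0m)) n
    rw [orderOf_dvd_iff_pow_eq_one.1 ((orderOf_dvd_of_pow_eq_one hi).trans hn), map_one,
      Module.End.one_apply] at h1
    exact smul_left_injective ℂ hc0' (show ε ^ n • c0 = (1 : ℂ) • c0 by rw [one_smul]; exact h1.symm)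
  have hC' : ∀ n, p ^ i ∣ n → p ^ j ∣ n → cc ^ n = 1 := fun n hn hn' => by
    have h1 := congrArg (fun f : Module.End ℂ r.toSubmodule => f ^ n) hAx
    simp only [smul_pow, ← map_pow] at h1
    rw [orderOf_dvd_iff_pow_eq_one.1 ((orderOf_dvd_of_pow_eq_one hj).trans hn'),
      orderOf_dvd_iff_pow_eq_one.1 ((orderOf_dvd_of_pow_eq_one
        (show (⟨x, hxK⟩ : K) ^ p ^ i = 1 from Subtype.ext hi)).trans hn), map_one, map_one] at h1
    have h2 := congrArg Subtype.val (LinearMap.congr_fun h1 ⟨r0, hr0m⟩)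
    simp only [Module.End.one_apply, LinearMap.smul_apply, Submodule.coe_smul] at h2
    exact smul_left_injective ℂ hr0' (show cc ^ n • r0 = (1 : ℂ) • r0 by rw [one_smul]; exact h2.symm)
  have hdi : p ^ i ∣ p ^ (i + j) := pow_dvd_pow p (Nat.le_add_right i j)
  have hdj : p ^ j ∣ p ^ (i + j) := pow_dvd_pow p (Nat.le_add_left j i)
  have hζp : PElt p (cc * ε) := ⟨i + j, by rw [mul_pow, hC' _ hdi hdj, hN' _ hdi, one_mul]⟩
  obtain ⟨l, hl⟩ := hζp.orderOf_eq
  obtain ⟨l, rfl⟩ : ∃ l', l = l' + 1 := ⟨l - 1, by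
    rcases Nat.eq_zero_or_pos l with h | h
    · exact absurd (orderOf_eq_one_iff.1 (by rw [hl, h, pow_zero])) hζ0
    · omega⟩
  have hη : IsPrimitiveRoot ((cc * ε) ^ p ^ l) p := by
    have h1 : IsPrimitiveRoot (cc * ε) (p ^ (l + 1)) := hl ▸ IsPrimitiveRoot.orderOf _
    exact h1.pow (pow_pos hpp.pos _) (pow_succ p l)
  have hexp := Complex.isPrimitiveRoot_exp p hpp.ne_zero
  obtain ⟨s, -, hs⟩ := hη.eq_pow_of_pow_eq_one hexp.pow_eq_one
  set n := p ^ l * (s * 3) with hn
  have hζ : (cc * ε) ^ n = Complex.exp (2 * Real.pi * Complex.I / p) ^ 3 := by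
    rw [hn, pow_mul, pow_mul, hs]
  have hβ : ε ^ n = cc⁻¹ ^ n * Complex.exp (2 * Real.pi * Complex.I / p) ^ 3 := by
    rw [← hζ, ← mul_pow, inv_mul_cancel_left₀ hcc]
  have hccn : cc⁻¹ ^ n ≠ 0 := pow_ne_zero _ (inv_ne_zero hcc)
  obtain ⟨j', hj'⟩ := exists_neg_one (ρ := σ) (p := p) hp5 (by omega) (not_pComm_normRep hnr) hNsq hNc
  obtain ⟨hj'K, hj'σ⟩ := hj'
  have hj'c : c.toRepresentation j' = 1 := by
    have htop : Subgroup.closure ((↑) ⁻¹' ({x, x'} : Set G) : Set K) = ⊤ :=
      Subgroup.closure_closure_coe_preimage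
    refine apply_eq_one_of_mem_commutator c.toRepresentation (s := ((↑) ⁻¹' ({x, x'} : Set G) : Set K))
      (fun u hu w hw => ?_) (by rw [htop]; exact hj'K)
    have hel : ∀ z ∈ ((↑) ⁻¹' ({x, x'} : Set G) : Set K), PElt p z := fun z hz => by
      refine PElt.of_map (f := K.subtype) K.subtype_injective ?_
      rcases hz with h | h
      · show PElt p (z : G); rw [h]; exact ⟨i, hi⟩
      · show PElt p (z : G); rw [Set.mem_singleton_iff.1 h]; exact (show PElt p x from ⟨i, hi⟩).conj a
    exact hcC u w (hel u hu) (hel w hw)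
  set g := (y : G) ^ n * (j' : G) with hg
  have hgr : ∀ w ∈ r.toSubmodule, ρ g w = (-(cc⁻¹ ^ n)) • w := fun w hw => by
    have h1 : ρ (j' : G) w = -w := congrArg Subtype.val (LinearMap.congr_fun hj'σ ⟨w, hw⟩)
    rw [hg, map_mul, Module.End.mul_apply, h1, map_neg, apply_pow_eigen (hyr w hw), neg_smul]
  have hgc : ∀ w ∈ c.toSubmodule, ρ g w = ε ^ n • w := fun w hw => by
    have h1 : ρ (j' : G) w = w := congrArg Subtype.val (LinearMap.congr_fun hj'c ⟨w, hw⟩)
    rw [hg, map_mul, Module.End.mul_apply, h1, apply_pow_eigen (hyc w hw)]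
  have hroot : Complex.exp (2 * Real.pi * Complex.I / p) ^ 3 * Complex.exp (2 * Real.pi * Complex.I / p) ^ 3
      = Complex.exp (2 * Real.pi * Complex.I / p) := by
    rw [← pow_add, show 3 + 3 = p + 1 by omega, pow_succ, hexp.pow_eq_one, one_mul]
  have hne : (-(cc⁻¹ ^ n)) ^ 2 ≠ (ε ^ n) ^ 2 := fun h => by
    rw [hβ, neg_sq, mul_pow, sq (Complex.exp (2 * Real.pi * Complex.I / p) ^ 3), hroot] at h
    exact hexp.ne_one hpp.one_lt (mul_right_eq_self₀.1 h.symm |>.resolve_right (pow_ne_zero _ hccn))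
  have hnorm1 : ‖cc⁻¹ ^ n‖ = 1 := by
    rw [norm_pow, norm_inv, Complex.norm_eq_one_of_pow_eq_one (hC' _ hdi hdj)
      (pow_ne_zero _ hpp.ne_zero), inv_one, one_pow]
  have hclose : ‖ε ^ n - -(cc⁻¹ ^ n)‖ < 1 := by
    rw [hβ, show cc⁻¹ ^ n * Complex.exp (2 * Real.pi * Complex.I / p) ^ 3 - -(cc⁻¹ ^ n) =
      cc⁻¹ ^ n * (Complex.exp (2 * Real.pi * Complex.I / p) ^ 3 + 1) by ring, norm_mul, hnorm1, one_mul]
    exact norm_exp_cube_add_one_lt hp5
  have hpy : PElt p (g ^ 2) := by
    refine ⟨i + j, hρ (eq_of_isCompl hrc (fun w hw => ?_) fun w hw => ?_)⟩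
    · rw [← pow_mul, apply_pow_eigen (hgr w hw), pow_mul, neg_sq, ← pow_mul, ← pow_mul,
        show n * (2 * p ^ (i + j)) = p ^ (i + j) * (n * 2) by ring, pow_mul, inv_pow,
        hC' _ hdi hdj, inv_one, one_pow, one_smul, map_one, Module.End.one_apply]
    · rw [← pow_mul, apply_pow_eigen (hgc w hw), ← pow_mul,
        show n * (2 * p ^ (i + j)) = p ^ (i + j) * (n * 2) by ring, pow_mul, hN' _ hdi, one_pow, one_smul,
        map_one, Module.End.one_apply]
  exact false_of_two_eigenvalues_sq hρ hd hnc hpy hrc hr0 hc0 hgr hgc hne hclose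

/-- Feit's theorem for the prime five. -/
theorem core_five (hp5 : p = 5) : ∀ d : ℕ, d + 1 < p → CoreAt p d := by
  intro d
  induction d using Nat.strong_induction_on with
  | _ d ihd =>
    intro hd
    suffices H : ∀ n : ℕ, ∀ (G : Type) [Group G] [Finite G] (V : Type) [AddCommGroup V] [Module ℂ V]
        [FiniteDimensional ℂ V] (ρ : Representation ℂ G V), Nat.card G = n → finrank ℂ V = d →
        Function.Injective ρ → ρ.IsIrreducible → ¬ PComm p ρ →
        (∀ z ∈ Subgroup.center G, PElt p z → z = 1) → ¬ p ^ 2 ∣ Nat.card G by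
      intro G _ _ V _ _ _ ρ h1 h2 h3 h4 h5
      exact H _ G V ρ rfl h1 h2 h3 h4 h5
    intro n
    induction n using Nat.strong_induction_on with
    | _ n ihn =>
      intro G _ _ V _ _ _ ρ hn hdim hρ hirr hnc hZ hsq
      haveI := hirr
      subst hdim
      have ih : ∀ m < finrank ℂ V, CoreAt p m := fun m hm => ihd m hm (by omega)
      obtain ⟨P⟩ : Nonempty (Sylow p G) := inferInstance
      refine false_of_good hρ hd hnc hsq hZ P (fun M hM hPM => ?_) fun g hg => ?_
      · by_contra hne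
        haveI := hM
        have hlt : Nat.card M < n := hn ▸ lt_of_le_of_ne (Subgroup.card_le_card_group M)
          fun e => hne ((Subgroup.card_eq_iff_eq_top M).1 e)
        have hP2 : p ^ 2 ∣ Nat.card (P : Subgroup G) := by
          rw [P.card_eq_multiplicity]
          exact pow_dvd_pow p ((hp.out.pow_dvd_iff_le_factorization Nat.card_pos.ne').1 hsq)
        have hnM : ¬ PComm p (res ρ M) := fun h => by
          have h1 : (P : Subgroup G) = ⊥ := (Subgroup.eq_bot_iff_forall _).2 fun z hz =>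
            hZ z (mem_center_of_normal hρ hd hnc M h (hPM hz) (pElt_of_isPGroup P.isPGroup' hz))
              (pElt_of_isPGroup P.isPGroup' hz)
          rw [h1, Subgroup.card_bot] at hP2
          have := Nat.le_of_dvd one_pos hP2
          have := Nat.one_lt_pow two_ne_zero hp.out.one_lt
          omega
        haveI := isIrreducible_res_normal M hnM hd
        refine ihn _ hlt M V (res ρ M) rfl rfl (fun _ _ h => Subtype.ext (hρ h)) inferInstance hnM
          (fun z hz hzp => ?_) (hP2.trans (Subgroup.card_dvd_of_le hPM))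
        obtain ⟨s, hs⟩ := exists_scalar_of_mem_center (ρ := res ρ M) hz
        exact Subtype.ext (hZ _ (mem_center_of_scalar hρ (c := s) hs) (hzp.map M.subtype))
      · by_contra hbad
        obtain ⟨x, ε, hx, hx1, hE⟩ := exists_large_eigenspace hρ hd ih hsq hg hbad
        exact false_of_large_eigenspace_five hρ hd hp5 ih hnc hZ hx hx1 hE

end CfsgLib.OrderDegrees.Linear
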