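import Cfsg.Agent.Lib.OrderDegrees.UpperFamilies

/-!
# Faithful characters of degree less than `p - 1`

Such a degree is `(p ± 1) / 2` with two classes of elements of order `p`, or `p - e` with
`e + 3 ≤ t`, where `e t = p - 1`.
-/

set_option autoImplicit false
set_option linter.style.haveILetI false
set_option linter.unusedSectionVars false

namespace CfsgLib.OrderDegrees.Upper

open Cfsg CfsgLib.CharTheory CfsgLib.Blocks CfsgLib.DefectOne CfsgLib.SmallGroups
open CfsgLib.SmallGroups.SmallDegree CfsgLib.SmallGroups.QuasiSimple Finset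

open scoped ComplexConjugate Classical

variable {G : Type*} [Group G] [Fintype G] {p : ℕ} [hp : Fact p.Prime] {S : Sect G p}
  {ψ : G → ℂ} (h : Hyp S ψ)

include h

/-- Every central character has its exceptional family. -/
theorem exists_family (φ : S.V →* ℂˣ) :
    ∃ (T : ℤ) (_ : T = 1 ∨ T = -1) (X : Fam S φ T) (θ : IrrCharacter G),
      HasCentral S φ (θ : G → ℂ) ∧ ∀ a, charDegree (X.x a : G → ℂ) = charDegree (θ : G → ℂ) := by
  have hG := h.exact
  obtain ⟨M, hM⟩ := exists_isPModular_of_prime hG.prime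
  haveI := isPrime_of_isPModular hM
  haveI := Fintype.ofFinite (IrrCharacter G)
  obtain ⟨θ, hθ, hθe, -, -, -, -, -⟩ := exists_exceptional hG S hM (linIrr φ)
  obtain ⟨s, hs, hs3⟩ := (rowT_spec hG S hM θ).1 (linIrr φ)
  have hs1 : s = 1 ∨ s = -1 := hs3.resolve_left fun h0 => hθ (by rw [hs, h0, Int.cast_zero])
  have hz : ∀ v : S.V, ∃ c : ℂˣ, ∀ g, (θ : G → ℂ) (g * v) = (c : ℂ) * (θ : G → ℂ) g := fun v => by
    obtain ⟨c, hc1, hcv, -⟩ := exists_central_apply θ.2 (h.center_eq.ge v.2)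
    exact ⟨Units.mk0 c (fun h0 => by rw [h0, norm_zero] at hc1; exact zero_ne_one hc1), hcv⟩
  choose μ hμ using hz
  have hθ10 : (θ : G → ℂ) 1 ≠ 0 := apply_one_ne_zero_of_isIrr θ.2
  have hμmul : ∀ v w : S.V, μ (v * w) = μ v * μ w := fun v w => Units.ext (mul_right_cancel₀ hθ10 (by
    rw [Units.val_mul, ← hμ, one_mul, Subgroup.coe_mul, hμ w, ← one_mul (v : G), hμ v]
    ring))
  let μh : S.V →* ℂˣ := MonoidHom.mk' μ hμmul
  have hθc : HasCentral S μh (θ : G → ℂ) := fun g v => hμ v g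
  have hμ1 : μh = φ := by
    have h1 := eq_linIrr_of_rowT_ne hG hθc hθ
    refine MonoidHom.ext fun v => Units.ext ?_
    rw [← linIrr_apply μh, ← h1, linIrr_apply]
  rw [hμ1] at hθc
  obtain ⟨X, hX⟩ := h.exists_fam hθc hs hs1 (by rw [hθe]; exact h.rowE_eq _ _)
  exact ⟨s, hs1, X, θ, hθc, hX⟩

theorem two_le_degree : 2 ≤ charDegree ψ := by
  have hpos : charDegree ψ ≠ 0 := charDegree_ne_zero' h.chi
  by_contra hlt
  haveI := Fintype.ofFinite (IrrCharacter G)
  have hd1 : charDegree ψ = 1 := by omega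
  have hab : ∀ a b : G, a * b = b * a := comm_of_linear h.faith
    (m := fun x => if x = h.chi then 1 else 0)
    (by rw [sum_eq_single h.chi (fun b _ hb => by simp [hb]) (fun h' => absurd (mem_univ _) h')]
        simp only [if_true, Nat.cast_one, one_smul]
        rfl)
    (fun x hx => by
      have : x = h.chi := by by_contra h'; exact hx (if_neg h')
      rw [this]; exact hd1)
  exact h.u_not_mem_center (Subgroup.mem_center_iff.2 fun x => hab x S.u)

/-- The family of a faithful character of degree `< p - 1`. -/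
theorem exists_basic : ∃ (t : ℕ) (s : ℤ) (X : Fam S h.lamHom s),
    (∀ a, charDegree (X.x a : G → ℂ) = charDegree ψ) ∧
    p = rowE S (trivIrr S.V) * t + 1 ∧ 2 ≤ t ∧
    ((s = -1 ∧ t = 2 ∧ 2 * charDegree ψ + 1 = p) ∨
      (s = 1 ∧ charDegree ψ + rowE S (trivIrr S.V) = p)) ∧
    ∀ l : (ZMod p)ˣ, (∀ i : ZMod p, ψ (S.u ^ ((l : ZMod p) * i).val) = ψ (S.u ^ i.val)) →
      l ∈ eGroup S (trivIrr S.V) := by
  have hG := h.exact
  have hc := h.cent
  obtain ⟨M, hM⟩ := exists_isPModular_of_prime hG.prime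
  haveI := isPrime_of_isPModular hM
  haveI := Fintype.ofFinite (IrrCharacter G)
  set e := rowE S (trivIrr S.V) with he
  set D := charDegree ψ with hD
  have hDchi : charDegree (h.chi : G → ℂ) = D := rfl
  have hD2 := two_le_degree h
  have hdeg := h.deg
  obtain ⟨φ', hφ'⟩ := (not_dvd_degree_iff hG S hM h.chi).1 fun hd => by
    have h1 := Nat.le_of_dvd (by omega) hd
    omega
  have hcen : HasCentral S h.lamHom (h.chi : G → ℂ) := fun g v => h.chi_mul g v
  have hφl := eq_linIrr_of_rowT_ne hG hcen hφ'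
  subst hφl
  have hnfix : galStab hG h.chi ≠ p - 1 := fun hf => by
    have h1 := apply_eq_of_fixed_small hG S hf (by omega)
    exact h.u_ne_one (h.faith _ h1)
  obtain ⟨-, θ₁, -, hθ₁e, hdich, -⟩ := count hG S hM (linIrr h.lamHom)
  have hg : galStab hG h.chi = e := by
    rw [galStab_eq hG ((hdich h.chi hφ').resolve_right hnfix), hθ₁e, he, h.rowE_eq _ (trivIrr S.V)]
  obtain ⟨s, hs, hs3⟩ := (rowT_spec hG S hM h.chi).1 (linIrr h.lamHom)
  have hs1 : s = 1 ∨ s = -1 := hs3.resolve_left fun h0 => hφ' (by rw [hs, h0, Int.cast_zero])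
  obtain ⟨X₁, hX₁⟩ := h.exists_fam hcen hs hs1 hg
  obtain ⟨E, hE⟩ := exists_comp hG S hc
  obtain ⟨L, hL, -⟩ := deg_spec hG hc hE X₁
  rw [hX₁, hDchi] at hL
  have hedvd : e ∣ p - 1 := rowE_dvd hG S _
  obtain ⟨t, ht⟩ := hedvd
  have he0 : 0 < e := rowE_pos hG S _
  have he1 : e ≠ p - 1 := fun h' => hnfix (hg.trans h')
  have ht2 : 2 ≤ t := by
    rcases t with _ | _ | t
    · rw [mul_zero] at ht; have := hG.prime.two_le; omega
    · exact absurd (by rw [ht]; simp) he1
    · omega
  have hpt : p = e * t + 1 := by have := hG.prime.one_le; omega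
  have he2 : e * 2 ≤ e * t := Nat.mul_le_mul_left e ht2
  refine ⟨t, s, X₁, fun a => by rw [hX₁, hDchi], hpt, ht2, ?_, fun l hl => ?_⟩
  · rcases hs1 with rfl | rfl
    · right
      refine ⟨rfl, ?_⟩
      rw [one_mul, ← he] at hL
      have hL1 : L = 1 := by
        rcases Nat.lt_or_ge L 2 with h' | h'
        · rcases Nat.lt_or_ge L 1 with h'' | h''
          · obtain rfl : L = 0 := by omega
            simp at hL; omega
          · omega
        · have : (p : ℤ) * 2 ≤ p * L :=
            mul_le_mul_of_nonneg_left (by exact_mod_cast h') (Int.natCast_nonneg _)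
          omega
      rw [hL1, Nat.cast_one, mul_one] at hL
      omega
    · left
      rw [← he] at hL
      have hL0 : L = 0 := by
        by_contra h'
        have : (p : ℤ) * 1 ≤ p * L := mul_le_mul_of_nonneg_left
          (by exact_mod_cast Nat.pos_of_ne_zero h') (Int.natCast_nonneg _)
        rw [neg_mul, one_mul] at hL
        omega
      rw [hL0] at hL
      simp only [Nat.cast_zero, mul_zero, neg_mul, one_mul, zero_sub, neg_neg] at hL
      have hbig : p ≤ 2 * D + 1 := by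
        by_contra hlt
        exact false_of_small hG S h.gen hc h.chi (by rw [hDchi]; exact hD2) (by rw [hDchi]; omega)
      have ht' : t = 2 := by
        by_contra hne
        have : e * 3 ≤ e * t := Nat.mul_le_mul_left e (by omega)
        omega
      exact ⟨rfl, ht', by subst ht'; omega⟩
  · have hcen' : ∀ k : (ZMod p)ˣ, HasCentral S h.lamHom (gal hG k h.chi : G → ℂ) := fun k g v => by
      rw [gal_apply, gal_apply, (show Commute g (v : G) from (hc v g).symm).mul_pow,
        gexp_pow_regular hG (S.reg v), hcen]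
    have hval : ∀ (k : (ZMod p)ˣ) (i : ZMod p),
        (gal hG k h.chi : G → ℂ) (S.u ^ i.val) = ψ (S.u ^ ((k : ZMod p) * i).val) := fun k i => by
      rw [gal_apply, ← pow_mul]
      refine congrArg (h.chi : G → ℂ) ?_
      rw [pow_eq_pow_iff_modEq, S.ord]
      refine ((gexp_modEq_left hG _).mul_left i.val).trans ((ZMod.natCast_eq_natCast_iff _ _ _).1 ?_)
      rw [Nat.cast_mul, ZMod.natCast_zmod_val, ZMod.natCast_zmod_val, ZMod.natCast_zmod_val, mul_comm]
    have hfix : ∀ k : (ZMod p)ˣ, (∀ i : ZMod p, ψ (S.u ^ ((k : ZMod p) * i).val) = ψ (S.u ^ i.val)) →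
        gal hG k h.chi = h.chi := fun k hk =>
      Subtype.ext (ext_sect hG S hc (IsIrrCharacter.isClassFunction (gal hG k h.chi).2)
        (IsIrrCharacter.isClassFunction h.chi.2) (hcen' k) hcen
        (fun g hg' => gal_regular hG k h.chi hg') fun i => by rw [hval]; exact hk _)
    have hsub : (univ.filter fun k : (ZMod p)ˣ => k ∈ eGroup S (trivIrr S.V)) ⊆
        univ.filter fun k : (ZMod p)ˣ => gal hG k h.chi = h.chi := fun k hk => by
      rw [mem_filter] at hk ⊢
      exact ⟨hk.1, hfix k fun i => apply_orb hG S hc (IsIrrCharacter.isClassFunction h.irr)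
        (mem_orb.2 ⟨⟨k, hk.2⟩, rfl⟩)⟩
    have heq := eq_of_subset_of_card_le hsub (le_of_eq (by
      rw [show (univ.filter fun k : (ZMod p)ˣ => gal hG k h.chi = h.chi).card = galStab hG h.chi by
          rw [galStab], hg, he, rowE, Nat.card_eq_fintype_card, Fintype.card_subtype]))
    have hl' : l ∈ univ.filter fun k : (ZMod p)ˣ => gal hG k h.chi = h.chi :=
      mem_filter.2 ⟨mem_univ l, hfix l hl⟩
    rw [← heq] at hl'
    exact (mem_filter.1 hl').2

/-- The inequality on a degree `p - e`. -/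
theorem add_three_le {t : ℕ} (X₁ : Fam S h.lamHom 1)
    (hX₁ : ∀ a, charDegree (X₁.x a : G → ℂ) = charDegree ψ)
    (hpt : p = rowE S (trivIrr S.V) * t + 1) (ht : 3 ≤ t)
    (hD : charDegree ψ + rowE S (trivIrr S.V) = p) (he3 : 3 ≤ rowE S (trivIrr S.V)) :
    rowE S (trivIrr S.V) + 3 ≤ t := by
  have hG := h.exact
  have hc := h.cent
  set e := rowE S (trivIrr S.V) with he
  have het : e * 3 ≤ e * t := Nat.mul_le_mul_left e ht
  have hp2 : p ≠ 2 := by omega
  have hodd' : Odd p := hG.prime.odd_of_ne_two hp2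
  by_cases heven : 2 ∣ e
  · exfalso
    have hDodd : Odd (charDegree ψ) := by
      rw [Nat.odd_iff] at hodd' ⊢
      omega
    rcases h.degree_cases (odd_center_of_odd h hDodd) with h' | h' | h' <;> omega
  have ht2 : 2 ∣ t := by
    have h1 : 2 ∣ e * t := by
      rw [Nat.odd_iff] at hodd'
      omega
    exact (Nat.prime_two.dvd_mul.1 h1).resolve_left heven
  obtain ⟨E, hE⟩ := exists_comp hG S hc
  have hd₁ : (charDegree (X₁.x 1 : G → ℂ) : ℤ) = (p : ℤ) - e := by rw [hX₁]; omega
  have hirr : IsCharacter G (X₁.x 1 : G → ℂ) := IsIrrCharacter.isCharacter (X₁.x 1).2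
  have hp0 : (p : ℂ) ≠ 0 := Nat.cast_ne_zero.2 hp.out.ne_zero
  have hpm1 : pm S (X₁.x 1 : G → ℂ) 0 = 1 := by
    rw [X₁.pm_eq hG S one_ne_zero, if_neg fun h' => ne_zero_of_mem_orb one_ne_zero h' rfl, sub_zero,
      ← Int.cast_natCast (charDegree _), hd₁, ← he]
    push_cast
    field_simp
    ring
  obtain ⟨α, hα, hαv⟩ := hE.exists_alpha hG S hc hirr (X₁.central 1) hpm1
  have hv : ∀ a (y : E), (y : G) ∉ S.V → (X₁.x a : G → ℂ) y = (α y : ℂ) := fun a y hy => by
    rw [X₁.reg a 1 _ (hE.reg _ y.2), hαv y hy]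
  -- the trivial central character
  obtain ⟨T₀, hT₀, X₀, θ₀, hθ₀c, hX₀⟩ := exists_family h (1 : S.V →* ℂˣ)
  obtain ⟨L₀, hL₀, -⟩ := deg_spec hG hc hE X₀
  rw [← he] at hL₀
  have hθne : charDegree (θ₀ : G → ℂ) ≠ 0 := charDegree_ne_zero' θ₀
  have hker : ∀ z ∈ Subgroup.center G, (θ₀ : G → ℂ) z = (θ₀ : G → ℂ) 1 := fun z hz => by
    have h' := hθ₀c 1 ⟨z, h.center_eq.le hz⟩
    rwa [one_mul, MonoidHom.one_apply, Units.val_one, one_mul] at h'
  have hLs : 1 ≤ L₀ ∧ (T₀ = 1 → 2 ≤ L₀) := by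
    have hd0 := hL₀
    rw [hX₀] at hd0
    rcases hT₀ with rfl | rfl
    · have h2 : 2 ≤ L₀ := by
        by_contra hlt
        rcases (show L₀ = 0 ∨ L₀ = 1 by omega) with rfl | rfl
        · simp at hd0; omega
        · simp only [Nat.cast_one, mul_one, one_mul] at hd0
          have hle := h.small_trivial hker (by omega) (by omega)
          omega
      exact ⟨by omega, fun _ => h2⟩
    · refine ⟨?_, fun h' => absurd h' (by norm_num)⟩
      by_contra hlt
      obtain rfl : L₀ = 0 := by omega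
      simp at hd0
      have hle := h.small_trivial hker (by omega) (by omega)
      omega
  obtain ⟨K₀, hcirc₀, -, hN₀0, hN₀1, hN₀2⟩ := prod_bounds hG hc hE (isProd_mul_conj X₁ hd₁) X₀ hL₀ hLs.1
    hpt ht (γ := (1 : E →* ℂˣ)) (fun v => rfl) fun b hb y hy => by
      simp only [hv 1 y hy, hv (-b) y hy, MonoidHom.one_apply, Units.val_one]
      exact mul_conj_linear α y
  rw [← he] at hN₀0 hN₀1 hN₀2
  obtain ⟨q, hq⟩ := ht2
  have htq : (t : ℤ) = 2 * q := by exact_mod_cast hq
  obtain ⟨a, ha⟩ : Odd e := Nat.not_even_iff_odd.1 fun hev => heven (even_iff_two_dvd.1 hev)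
  have hea : (e : ℤ) = 2 * a + 1 := by exact_mod_cast ha
  rcases hT₀ with rfl | rfl
  · exfalso
    rw [one_mul] at hN₀0 hN₀1 hN₀2
    have hN2 := hN₀2 (hLs.2 rfl)
    have hNe : (t : ℤ) * K₀ - e = 2 * ((q : ℤ) * K₀ - a) - 1 := by rw [htq, hea]; ring
    have hK0 : 0 ≤ K₀ := by
      by_contra hneg
      push Not at hneg
      have : (t : ℤ) * K₀ ≤ 0 := mul_nonpos_of_nonneg_of_nonpos (by omega) (by omega)
      omega
    obtain ⟨k, rfl⟩ := Int.eq_ofNat_of_zero_le hK0
    obtain ⟨N, hN⟩ := Int.eq_ofNat_of_zero_le hN₀0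
    have hsum : e + N = t * k := by
      have : ((e + N : ℕ) : ℤ) = ((t * k : ℕ) : ℤ) := by push_cast; linarith
      exact_mod_cast this
    refine not_all_le (H := eGroup S (trivIrr S.V)) (t := t) (K := k) (N := N) hpt hsum (by omega)
      fun b z hb hz => ?_
    have := hcirc₀ b z hb hz
    omega
  rw [neg_mul, one_mul, neg_sub] at hN₀0 hN₀1
  by_cases hNsmall : (e : ℤ) - t * K₀ ≤ (t : ℤ) - 2
  · have hK0 : 0 ≤ K₀ := by
      by_contra hneg
      push Not at hneg
      have : (t : ℤ) * K₀ ≤ t * (-1) := mul_le_mul_of_nonneg_left (by omega) (by omega)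
      omega
    obtain ⟨k, rfl⟩ := Int.eq_ofNat_of_zero_le hK0
    rcases Nat.eq_zero_or_pos k with rfl | hk
    · push_cast at hNsmall
      omega
    · exfalso
      obtain ⟨N, hN⟩ := Int.eq_ofNat_of_zero_le hN₀0
      have hsum : e = t * k + N := by
        have : ((e : ℕ) : ℤ) = ((t * k + N : ℕ) : ℤ) := by push_cast; linarith
        exact_mod_cast this
      refine not_all_ge (H := eGroup S (trivIrr S.V)) (t := t) (K := k) (N := N) hpt hk hsum (by omega)
        fun b z hb hz => ?_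
      have := hcirc₀ b z hb hz
      omega
  exfalso
  have he' : (e : ℤ) = t * K₀ + t - 1 := by omega
  -- the square of the central character
  obtain ⟨T₂, hT₂, X₂, θ₂, -, hX₂⟩ := exists_family h (h.lamHom * h.lamHom)
  obtain ⟨L₂, hL₂, -⟩ := deg_spec hG hc hE X₂
  rw [← he] at hL₂
  have hθ₂ne : charDegree (θ₂ : G → ℂ) ≠ 0 := charDegree_ne_zero' θ₂
  have hL21 : 1 ≤ L₂ := by
    by_contra hlt
    obtain rfl : L₂ = 0 := by omega
    rw [hX₂] at hL₂
    rcases hT₂ with rfl | rfl
    · simp at hL₂; omega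
    · simp at hL₂
      exact false_of_small hG S h.gen hc θ₂ (by omega) (by omega)
  obtain ⟨K₂, hcirc₂, hrel, hN₂0, hN₂1, -⟩ := prod_bounds hG hc hE (isProd_mul X₁ hd₁) X₂ hL₂ hL21
    hpt ht (γ := α * α) (fun v => by simp only [MonoidHom.mul_apply, hα]) fun b hb y hy => by
      simp only [hv 1 y hy, hv b y hy, MonoidHom.mul_apply, Units.val_mul]
  rw [← he] at hN₂0 hN₂1
  rcases hT₂ with rfl | rfl
  · rw [one_mul] at hN₂0 hN₂1
    have hK : K₂ = K₀ + 1 := by
      rcases lt_trichotomy K₂ (K₀ + 1) with h' | h' | h'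
      · have : (t : ℤ) * K₂ ≤ t * K₀ := mul_le_mul_of_nonneg_left (by omega) (by omega)
        omega
      · exact h'
      · have : (t : ℤ) * (K₀ + 2) ≤ t * K₂ := mul_le_mul_of_nonneg_left (by omega) (by omega)
        linarith
    have hK2 : 0 ≤ K₂ := by
      by_contra hneg
      push Not at hneg
      have : (t : ℤ) * K₂ ≤ 0 := mul_nonpos_of_nonneg_of_nonpos (by omega) (by omega)
      omega
    obtain ⟨k, rfl⟩ := Int.eq_ofNat_of_zero_le hK2
    have hsum : e + 1 = t * k := by
      have : ((e + 1 : ℕ) : ℤ) = ((t * k : ℕ) : ℤ) := by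
        push_cast
        rw [hK, mul_add, mul_one]
        linarith
      exact_mod_cast this
    refine not_all_le (H := eGroup S (trivIrr S.V)) (t := t) (K := k) (N := 1) hpt hsum (by omega)
      fun b z hb hz => ?_
    have := hcirc₂ b z hb hz
    omega
  · rw [neg_mul, one_mul, neg_sub] at hN₂0 hN₂1
    have hK : K₂ = K₀ := by
      rcases lt_trichotomy K₂ K₀ with h' | h' | h'
      · have : (t : ℤ) * (K₂ + 1) ≤ t * K₀ := mul_le_mul_of_nonneg_left (by omega) (by omega)
        linarith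
      · exact h'
      · have : (t : ℤ) * (K₀ + 1) ≤ t * K₂ := mul_le_mul_of_nonneg_left (by omega) (by omega)
        linarith
    obtain ⟨m, hm, hmK⟩ := hrel 1 1 1 one_ne_zero one_ne_zero one_ne_zero
    rw [neg_mul, one_mul] at hL₂
    exact false_of_squares hG hc hE X₁ X₂ hd₁ (L := L₂) (by linarith) hL21 hpt ht heven hm
      (K := K₀) (by rw [← hK]; linarith) he'

/-- The possible degrees. -/
theorem degree_bound (hp7 : 7 < p) : ∃ t : ℕ, p = rowE S (trivIrr S.V) * t + 1 ∧
    ((t = 2 ∧ (2 * charDegree ψ + 1 = p ∨ 2 * charDegree ψ = p + 1)) ∨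
      (charDegree ψ + rowE S (trivIrr S.V) = p ∧ rowE S (trivIrr S.V) + 3 ≤ t)) ∧
    ∀ l : (ZMod p)ˣ, (∀ i : ZMod p, ψ (S.u ^ ((l : ZMod p) * i).val) = ψ (S.u ^ i.val)) →
      l ∈ eGroup S (trivIrr S.V) := by
  obtain ⟨t, s, X, hX, hpt, ht2, hcase, hl⟩ := exists_basic h
  have hdeg := h.deg
  refine ⟨t, hpt, ?_, hl⟩
  rcases hcase with ⟨-, ht, hD⟩ | ⟨rfl, hD⟩
  · exact Or.inl ⟨ht, Or.inl hD⟩
  · rcases Nat.lt_or_ge t 3 with ht3 | ht3
    · obtain rfl : t = 2 := by omega
      exact Or.inl ⟨rfl, Or.inr (by omega)⟩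
    · right
      refine ⟨hD, ?_⟩
      rcases Nat.lt_or_ge (rowE S (trivIrr S.V)) 3 with he | he
      · have he0 := rowE_pos h.exact S (trivIrr S.V)
        have hprime := hp.out
        by_contra hlt
        obtain ⟨e', he'⟩ : ∃ e', e' = rowE S (trivIrr S.V) := ⟨_, rfl⟩
        rw [← he'] at hD hpt hlt he he0
        obtain rfl : e' = 2 := by
          interval_cases e' <;> omega
        obtain rfl : p = 9 := by omega
        norm_num at hprime
      · exact add_three_le h X hX hpt ht3 hD he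

end CfsgLib.OrderDegrees.Upper
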