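import Cfsg.Agent.Lib.OrderDegrees.LinearBasic
import Cfsg.Agent.Lib.OrderDegrees.UpperMain

/-!
# Faithful representations of degree `< p - 1` when `p` divides the order exactly once

The eigenvalues of an element of order `p` have multiplicity at most one, and in degree
`(p - 1) / 2` none of them is one.
-/

set_option autoImplicit false
set_option linter.unusedSectionVars false
set_option linter.style.haveILetI false

namespace CfsgLib.OrderDegrees.Linear

open Cfsg CfsgLib.CharTheory CfsgLib.Blocks CfsgLib.DefectOne CfsgLib.SmallGroups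
open CfsgLib.SmallGroups.SmallDegree CfsgLib.SmallGroups.QuasiSimple Module Finset

open scoped ComplexConjugate Classical

variable {G : Type*} [Group G] [Fintype G] {p : ℕ} [hp : Fact p.Prime]

/-- The multiplicities of the eigenvalues of `u`. -/
theorem exists_mult {S : Sect G p} {ψ : G → ℂ} (h : Hyp S ψ) :
    ∃ c : ZMod p → ℕ, (∀ z, c z ≤ 1) ∧ (2 * charDegree ψ + 1 = p → c 0 = 0) ∧
      ∀ i : ZMod p, ψ (S.u ^ i.val) = ∑ z, (c z : ℂ) * zp (z * i) := by
  have hG := h.exact
  obtain ⟨M, hM⟩ := exists_isPModular_of_prime hG.prime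
  haveI := isPrime_of_isPModular hM
  haveI := Fintype.ofFinite (IrrCharacter G)
  haveI := Fintype.ofFinite (IrrCharacter S.V)
  set e := rowE S (trivIrr S.V) with he
  set D := charDegree ψ with hD
  have hdeg := h.deg
  have hD2 := Upper.two_le_degree h
  have hDchi : charDegree (h.chi : G → ℂ) = D := rfl
  obtain ⟨φ', hφ'⟩ := (not_dvd_degree_iff hG S hM h.chi).1 fun hd => by
    have h1 := Nat.le_of_dvd (by omega) hd
    omega
  have hcen : HasCentral S h.lamHom (h.chi : G → ℂ) := fun g v => h.chi_mul g v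
  have hφl := eq_linIrr_of_rowT_ne hG hcen hφ'
  subst hφl
  have hnfix : galStab hG h.chi ≠ p - 1 := fun hf => by
    have h1 := apply_eq_of_fixed_small hG S hf (by omega)
    exact h.u_ne_one (h.faith _ h1)
  obtain ⟨-, θ₁, -, hθ₁e, hdich, -⟩ := count hG S hM (linIrr h.lamHom)
  have hg : galStab hG h.chi = e := by
    rw [galStab_eq hG ((hdich h.chi hφ').resolve_right hnfix), hθ₁e, he, h.rowE_eq _ (trivIrr S.V)]
  obtain ⟨s, hs, hs3⟩ := (rowT_spec hG S hM h.chi).1 (linIrr h.lamHom)
  have hs1 : s = 1 ∨ s = -1 := hs3.resolve_left fun h0 => hφ' (by rw [hs, h0, Int.cast_zero])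
  set d := dfun hG S h.chi (linIrr h.lamHom) with hd
  have hsq : ∑ j, d j ^ 2 = (e : ℤ) := by rw [hd, h.sum_sq_eq hφ', hg]
  have hsum : ∑ j, d j = -((e : ℤ) * s) := by
    refine Int.cast_injective (α := ℂ) ?_
    push_cast
    rw [sum_dfun hG, hg, hs]
  have hnn : ∀ j, 0 ≤ d j ^ 2 + s * d j := fun j => by
    rcases hs1 with rfl | rfl <;> rcases le_or_gt 0 (d j) with h' | h' <;> nlinarith
  have hss : (s : ℤ) * s = 1 := by rcases hs1 with rfl | rfl <;> norm_num
  have hzero : ∀ j, d j = 0 ∨ d j = -s := fun j => by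
    have h0 : ∑ j, (d j ^ 2 + s * d j) = 0 := by
      rw [sum_add_distrib, ← mul_sum, hsq, hsum]
      linear_combination (-(e : ℤ)) * hss
    have h1 := (sum_eq_zero_iff_of_nonneg fun j _ => hnn j).1 h0 j (mem_univ j)
    have h2 : d j * (d j + s) = 0 := by linear_combination h1
    rcases mul_eq_zero.1 h2 with h3 | h3
    · exact Or.inl h3
    · exact Or.inr (by omega)
  -- the value at one
  obtain ⟨m₀, hm₀⟩ := row_zero_eq hG S h.chi (linIrr h.lamHom)
  have hrow : ∀ i : ℕ, ψ (S.u ^ i) = row S (h.chi : G → ℂ) (linIrr h.lamHom) i := fun i =>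
    (row_linIrr (f := (h.chi : G → ℂ)) (fun g v => h.chi_mul g v) i).symm
  have hψ1 : ψ 1 = (D : ℂ) := (charDegree_cast h.chi).symm
  have hm : (D : ℤ) = (p : ℤ) * m₀ - e * s := by
    refine Int.cast_injective (α := ℂ) ?_
    have h0 := hrow 0
    rw [pow_zero, hψ1, hm₀] at h0
    push_cast
    rw [h0, ← Int.cast_sum, ← hd, hsum]
    push_cast
    ring
  have hedvd : e ∣ p - 1 := rowE_dvd hG S _
  have he0 : 0 < e := rowE_pos hG S _
  obtain ⟨t, ht⟩ := hedvd
  have ht2 : 2 * e ≤ p - 1 := by
    rcases t with _ | _ | t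
    · have := hG.prime.two_le; omega
    · exfalso; exact hnfix (hg.trans (by omega))
    · rw [ht, mul_comm 2]; exact Nat.mul_le_mul_left e (by omega)
  have hm01 : (s = 1 → m₀ = 1) ∧ (s = -1 → m₀ = 0) := by
    constructor <;> rintro rfl
    · rcases (show m₀ = 0 ∨ m₀ = 1 ∨ 2 ≤ m₀ by omega) with rfl | rfl | h'
      · simp at hm; omega
      · rfl
      · have : (p : ℤ) * 2 ≤ p * m₀ := mul_le_mul_of_nonneg_left (by omega) (by omega)
        omega
    · rcases Nat.eq_zero_or_pos m₀ with rfl | h'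
      · rfl
      · have : (p : ℤ) * 1 ≤ p * m₀ := mul_le_mul_of_nonneg_left (by omega) (by omega)
        omega
  have hc : ∀ j, (m₀ : ℤ) + d j = 0 ∨ (m₀ : ℤ) + d j = 1 := fun j => by
    rcases hs1 with rfl | rfl
    · rcases hzero j with h' | h' <;> rw [h', hm01.1 rfl] <;> norm_num
    · rcases hzero j with h' | h' <;> rw [h', hm01.2 rfl] <;> norm_num
  refine ⟨fun z => if hz : z = 0 then m₀ else ((m₀ : ℤ) + d (Units.mk0 z hz)).toNat,
    fun z => ?_, fun hhalf => ?_, fun i => ?_⟩
  · dsimp only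
    split_ifs with hz
    · rcases hs1 with h' | h'
      · exact (hm01.1 h').le
      · rw [hm01.2 h']; exact Nat.zero_le _
    · have := hc (Units.mk0 z hz); omega
  · simp only [↓reduceDIte]
    rcases hs1 with h' | h'
    · exfalso
      rw [hm01.1 h', h'] at hm
      omega
    · exact hm01.2 h'
  · have key : ∀ i : ZMod p, (∑ z : ZMod p, ((if hz : z = 0 then m₀ else
        ((m₀ : ℤ) + d (Units.mk0 z hz)).toNat : ℕ) : ℂ) * zp (z * i)) =
        (m₀ : ℂ) + ∑ j : (ZMod p)ˣ, ((m₀ : ℂ) + d j) * zp ((j : ZMod p) * i) := fun i => by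
      rw [← Finset.add_sum_erase _ _ (mem_univ (0 : ZMod p)), dif_pos rfl, zero_mul, zp_zero, mul_one]
      congr 1
      refine (Finset.sum_bij (fun (j : (ZMod p)ˣ) _ => (j : ZMod p)) (fun j _ => ?_)
        (fun a _ b _ h' => Units.ext h') (fun z hz => ?_) (fun j _ => ?_)).symm
      · exact mem_erase.2 ⟨j.ne_zero, mem_univ _⟩
      · exact ⟨Units.mk0 z (ne_of_mem_erase hz), mem_univ _, rfl⟩
      · rw [dif_neg j.ne_zero, Units.mk0_val]
        congr 1
        have h2 : (((m₀ : ℤ) + d j).toNat : ℤ) = m₀ + d j := Int.toNat_of_nonneg (by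
          have := hc j; omega)
        have h3 : ((((m₀ : ℤ) + d j).toNat : ℕ) : ℂ) = ((m₀ + d j : ℤ) : ℂ) := by
          exact (Int.cast_natCast _).symm.trans (congrArg (Int.cast (R := ℂ)) h2)
        rw [h3]; push_cast; ring
    rw [key]
    rcases eq_or_ne i 0 with rfl | hi
    · rw [ZMod.val_zero, pow_zero, hψ1]
      simp only [mul_zero, zp_zero, mul_one, sum_add_distrib, sum_const, card_univ, ZMod.card_units,
        nsmul_eq_mul]
      rw [← Int.cast_sum, hsum, Nat.cast_sub hG.prime.one_le]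
      have h' : (D : ℂ) = (p : ℂ) * m₀ - e * s := by exact_mod_cast congrArg (Int.cast (R := ℂ)) hm
      rw [h']
      push_cast
      ring
    · have h1 := rowU_eq hG S h.chi (linIrr h.lamHom) (Units.mk0 i hi)
      rw [rowU, Units.val_mk0] at h1
      rw [hrow, h1]
      have hz : ∑ j : (ZMod p)ˣ, zp ((j : ZMod p) * i) = -1 := by
        simp only [mul_comm (_ : ZMod p) i]
        rw [sum_units_zp hG, if_neg hi]
      simp only [add_mul, sum_add_distrib, ← mul_sum, hz, ← hd]
      ring

/-- An element of order `p` in a faithful irreducible group of degree `< p - 1`, when `p` divides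
the order exactly once and the elements of order `p` do not commute. -/
theorem eigen_spec {G V : Type*} [Group G] [Finite G] [AddCommGroup V] [Module ℂ V]
    [FiniteDimensional ℂ V] {ρ : Representation ℂ G V} [ρ.IsIrreducible]
    (hρ : Function.Injective ρ) (hd : finrank ℂ V + 1 < p) (hnc : ¬ PComm p ρ)
    (hsq : ¬ p ^ 2 ∣ Nat.card G) :
    p ≤ 2 * finrank ℂ V + 1 ∧
      (∀ u : G, orderOf u = p →
        (∀ ε : ℂ, finrank ℂ (Module.End.eigenspace (ρ u) ε) ≤ 1) ∧
        (2 * finrank ℂ V + 1 = p → Module.End.eigenspace (ρ u) (1 : ℂ) = ⊥)) ∧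
      ∀ u : G, orderOf u = p → u ∈ commutator G := by
  haveI := Fintype.ofFinite G
  have hpp : p.Prime := hp.out
  obtain ⟨x, y, hx, hy, hxy⟩ := exists_of_not_pComm hnc
  have hdvd : p ∣ Nat.card G := by
    obtain ⟨k, hk⟩ := hx.orderOf_eq
    rcases k with _ | k
    · rw [pow_zero, orderOf_eq_one_iff] at hk
      rw [hk, map_one, one_mul, mul_one] at hxy
      exact absurd rfl hxy
    · exact (dvd_pow_self p (Nat.succ_ne_zero k)).trans (hk ▸ orderOf_dvd_natCard x)
  have hG : ExactPrime G p := ⟨hpp, hdvd, hsq⟩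
  have hord : ∀ z : G, PElt p z → z = 1 ∨ orderOf z = p := fun z hz => by
    obtain ⟨k, hk⟩ := hz.orderOf_eq
    rcases k with _ | _ | k
    · exact Or.inl (orderOf_eq_one_iff.1 (by rw [hk, pow_zero]))
    · exact Or.inr (by rw [hk, zero_add, pow_one])
    · exact absurd ((pow_dvd_pow p (by omega : 2 ≤ k + 1 + 1)).trans
        (hk ▸ orderOf_dvd_natCard z)) hsq
  have hnn : ∀ H : Subgroup G, H.Normal → Nat.card H ≠ p := fun H hH hc => hxy (by
    have hall : ∀ z : G, PElt p z → z ∈ H := fun z hz => by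
      rcases hord z hz with rfl | hz'
      · exact H.one_mem
      obtain ⟨⟨w, hwH⟩, hw⟩ := exists_prime_orderOf_dvd_card' (G := H) p (dvd_of_eq hc.symm)
      rw [Subgroup.orderOf_mk] at hw
      exact Cfsg.Agent.S4503.mem_of_orderOf hG hH hw hz' hwH
    haveI : IsCyclic H := isCyclic_of_prime_card hc
    have := congrArg Subtype.val
      (IsCyclic.commGroup.mul_comm (⟨x, hall x hx⟩ : H) ⟨y, hall y hy⟩)
    rw [← map_mul, ← map_mul]
    exact congrArg ρ this)
  have hfaith : ∀ g : G, ρ.character g = ρ.character 1 → g = 1 := fun g hg => by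
    rw [ρ.char_one, character_eq_finrank_iff] at hg
    exact hρ (by rw [hg, map_one, Module.End.one_eq_id])
  have hdeg : charDegree ρ.character = finrank ℂ V := by
    rw [charDegree, ρ.char_one, Complex.natCast_re, Nat.floor_natCast]
  have hd' : charDegree ρ.character + 1 < p := by omega
  have hyp : ∀ u : G, ∀ hu : orderOf u = p, ∃ S : Sect ↥(pClosure G p) p,
      (S.u : G) = u ∧ Hyp S (fun k : pClosure G p => ρ.character k) := fun u hu => by
    obtain ⟨S, hS⟩ := exists_sect (exactPrime_pClosure hG)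
      (u := (⟨u, mem_pClosure hu⟩ : pClosure G p)) (by rw [Subgroup.orderOf_mk, hu])
    exact ⟨S, by rw [hS], hyp_pClosure hG hnn (isIrrCharacter_character ρ) hfaith hd' S⟩
  have hdK : charDegree (fun k : pClosure G p => ρ.character k) = finrank ℂ V := hdeg
  obtain ⟨u₀, hu₀⟩ := exists_prime_orderOf_dvd_card' (G := G) p hdvd
  obtain ⟨S₀, -, h₀⟩ := hyp u₀ hu₀
  refine ⟨?_, fun u hu => ?_, fun u hu => ?_⟩
  · obtain ⟨t, s, -, -, hpt, ht2, hcase, -⟩ := Upper.exists_basic h₀
    rw [hdK] at hcase
    have := Nat.mul_le_mul_left (rowE S₀ (trivIrr S₀.V)) ht2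
    rcases hcase with ⟨-, -, h'⟩ | ⟨-, h'⟩ <;> omega
  · obtain ⟨S, hSu, h⟩ := hyp u hu
    obtain ⟨c, hc1, hc0, hval⟩ := exists_mult h
    obtain ⟨ι, hι, b, μ, -, hμ, hpow, hchar⟩ := exists_eigenbasis ρ u
    rw [hu] at hμ
    have hzp : ∀ i, ∃ z : ZMod p, μ i = zp z := fun i => by
      obtain ⟨k, hk, hk'⟩ := (zp_root (p := p)).eq_pow_of_pow_eq_one (hμ i)
      exact ⟨(k : ZMod p), by rw [zp_natCast, hk']⟩
    choose f hf using hzp
    have hmul : ∀ (z : ZMod p) (n : ℕ), zp z ^ n = zp (z * (n : ZMod p)) := fun z n => by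
      induction n with
      | zero => rw [pow_zero, Nat.cast_zero, mul_zero, zp_zero]
      | succ n ih => rw [pow_succ, ih, Nat.cast_succ, mul_add, mul_one, zp_add]
    have hcount : ∀ z, (univ.filter fun i => f i = z).card = c z := fun z => by
      have hfour : ∀ w : ZMod p, ∑ k : ZMod p, zp (w * k) = if w = 0 then (p : ℂ) else 0 := by
        intro w
        split_ifs with hw
        · simp [hw, zp_zero, ZMod.card]
        · rw [← Finset.add_sum_erase _ _ (mem_univ (0 : ZMod p)), mul_zero, zp_zero]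
          have : ∑ k ∈ (univ : Finset (ZMod p)).erase 0, zp (w * k) =
              ∑ j : (ZMod p)ˣ, zp (w * (j : ZMod p)) := by
            refine (Finset.sum_bij (fun (j : (ZMod p)ˣ) _ => (j : ZMod p)) (fun j _ => ?_)
              (fun a _ b _ h' => Units.ext h') (fun z hz => ?_) (fun j _ => rfl)).symm
            · exact mem_erase.2 ⟨j.ne_zero, mem_univ _⟩
            · exact ⟨Units.mk0 z (ne_of_mem_erase hz), mem_univ _, rfl⟩
          rw [this, sum_units_zp hG, if_neg hw, add_neg_cancel]
      have e : ∀ k : ZMod p, ∑ i, zp (f i * k) = ∑ w, (c w : ℂ) * zp (w * k) := fun k => by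
        rw [← hval k]
        show _ = ρ.character ((S.u ^ k.val : pClosure G p) : G)
        rw [SubmonoidClass.coe_pow, hSu, hchar]
        exact sum_congr rfl fun i _ => by rw [hf, hmul, ZMod.natCast_zmod_val]
      have h2 : ∑ k : ZMod p, zp (-(z * k)) * ∑ i, zp (f i * k) =
          ∑ k : ZMod p, zp (-(z * k)) * ∑ w, (c w : ℂ) * zp (w * k) :=
        sum_congr rfl fun k _ => by rw [e]
      simp only [mul_sum] at h2
      rw [sum_comm, sum_comm (γ := ZMod p) (f := fun k w => zp (-(z * k)) * ((c w : ℂ) * zp (w * k)))]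
        at h2
      have e1 : ∀ w k : ZMod p, zp (-(z * k)) * zp (w * k) = zp ((w - z) * k) := fun w k => by
        rw [← zp_add]; ring_nf
      simp only [e1, mul_left_comm _ (c _ : ℂ), ← mul_sum, hfour, sub_eq_zero, mul_ite, mul_zero,
        sum_ite_eq', mem_univ, if_true] at h2
      rw [sum_ite, sum_const, sum_const_zero, add_zero, nsmul_eq_mul] at h2
      exact_mod_cast mul_right_cancel₀ (Nat.cast_ne_zero.2 hpp.ne_zero) h2
    have hev : ∀ (ε : ℂ), Module.End.eigenspace (ρ u) ε ≤
        Submodule.span ℂ (Set.range fun i : {i // μ i = ε} => b i) := fun ε v hv => by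
      rw [Module.End.mem_eigenspace_iff] at hv
      rw [← b.sum_repr v]
      refine Submodule.sum_mem _ fun i _ => ?_
      by_cases hi : μ i = ε
      · exact Submodule.smul_mem _ _ (Submodule.subset_span ⟨⟨i, hi⟩, rfl⟩)
      · have hb : ∀ j, ρ u (b j) = μ j • b j := fun j => by
          simpa using hpow 1 j
        have h1 : b.repr (ρ u v) i = μ i * b.repr v i := by
          conv_lhs => rw [← b.sum_repr v]
          simp only [map_sum, map_smul, hb, smul_smul, Finsupp.coe_finsetSum, Finset.sum_apply,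
            Basis.repr_self, Finsupp.smul_apply, Finsupp.single_apply, smul_eq_mul, mul_ite, mul_one,
            mul_zero, sum_ite_eq', mem_univ, if_true]
          rw [mul_comm]
        rw [hv, map_smul, Finsupp.smul_apply, smul_eq_mul] at h1
        rcases mul_eq_mul_right_iff.1 h1 with h2 | h2
        · exact absurd h2.symm hi
        · rw [h2, zero_smul]; exact Submodule.zero_mem _
    refine ⟨fun ε => ?_, fun hhalf => ?_⟩
    · refine (Submodule.finrank_mono (hev ε)).trans ((finrank_range_le_card _).trans ?_)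
      rw [Fintype.card_subtype]
      by_cases hε : ∃ z : ZMod p, ε = zp z
      · obtain ⟨z, rfl⟩ := hε
        refine le_of_eq_of_le ?_ (hc1 z)
        rw [← hcount z]
        refine congrArg Finset.card (filter_congr fun i _ => ?_)
        rw [hf]
        exact ⟨fun h' => ZMod.val_injective p
          ((zp_root (p := p)).pow_inj (ZMod.val_lt _) (ZMod.val_lt _) h'), fun h' => by rw [h']⟩
      · rw [filter_false_of_mem fun i _ h' => hε ⟨f i, by rw [← h', hf]⟩, card_empty]
        exact Nat.zero_le _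
    · rw [eq_bot_iff]
      refine (hev 1).trans (Submodule.span_le.2 ?_)
      rintro _ ⟨⟨i, hi⟩, rfl⟩
      exfalso
      have h0 := hcount 0
      rw [hc0 (by rw [hdK]; exact hhalf), card_eq_zero, filter_eq_empty_iff] at h0
      refine h0 (mem_univ i) (ZMod.val_injective p ((zp_root (p := p)).pow_inj (ZMod.val_lt _)
        (ZMod.val_lt _) ?_))
      show zp (f i) = zp (0 : ZMod p)
      rw [← hf, hi, zp_zero]
  · obtain ⟨S, hSu, h⟩ := hyp u hu
    have h2 : S.u ∈ commutator ↥(pClosure G p) := by rw [h.perfect]; trivial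
    have h3 := Subgroup.mem_map_of_mem (pClosure G p).subtype h2
    rw [Subgroup.coe_subtype, hSu] at h3
    exact (Subgroup.map_commutator _ _ (pClosure G p).subtype).trans_le
      (Subgroup.commutator_mono le_top le_top) h3

end CfsgLib.OrderDegrees.Linear
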