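import Cfsg.Agent.Lib.OrderDegrees.LinearCore

/-!
# The induction for Feit's theorem

A `p`-element with an eigenspace of dimension at least `(p - 1) / 2` leads to one with two
eigenvalues, which Blichfeldt's theorem excludes.
-/

set_option autoImplicit false
set_option linter.unusedSectionVars false
set_option linter.style.haveILetI false

namespace CfsgLib.OrderDegrees.Linear

open Cfsg CfsgLib.CharTheory Module CfsgLib.CharDegreesTheory

variable {p : ℕ} [hp : Fact p.Prime] {G V : Type} [Group G] [Finite G] [AddCommGroup V]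
  [Module ℂ V] [FiniteDimensional ℂ V] {ρ : Representation ℂ G V}

theorem two_le_finrank (hnc : ¬ PComm p ρ) : 2 ≤ finrank ℂ V := by
  by_contra h
  exact hnc (pComm_of_finrank_le_one (by omega))

theorem apply_pow_eigen {g : G} {v : V} {a : ℂ} (h : ρ g v = a • v) (n : ℕ) :
    ρ (g ^ n) v = a ^ n • v := by
  induction n with
  | zero => rw [pow_zero, map_one, pow_zero, one_smul, Module.End.one_apply]
  | succ n ih => rw [pow_succ, map_mul, Module.End.mul_apply, h, map_smul, ih, smul_smul, pow_succ']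

/-- An element with two eigenvalues near each other. -/
theorem false_of_two_eigenvalues [ρ.IsIrreducible] (hρ : Function.Injective ρ)
    (hd : finrank ℂ V + 1 < p) (hnc : ¬ PComm p ρ) {g : G} (hg : PElt p g) {H : Subgroup G}
    {r c : Subrepresentation (res ρ H)} (hrc : IsCompl r c) (hr0 : r.toSubmodule ≠ ⊥)
    (hc0 : c.toSubmodule ≠ ⊥) {α β : ℂ} (hr : ∀ v ∈ r.toSubmodule, ρ g v = α • v)
    (hc : ∀ v ∈ c.toSubmodule, ρ g v = β • v) (hαβ : α ≠ β) (hclose : ‖β - α‖ < 1) : False := by
  obtain ⟨r0, hr0m, hr0'⟩ := (Submodule.ne_bot_iff _).1 hr0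
  obtain ⟨c0, hc0m, hc0'⟩ := (Submodule.ne_bot_iff _).1 hc0
  have hgc : g ∉ Subgroup.center G := fun h => by
    obtain ⟨s, hs⟩ := exists_scalar_of_mem_center (ρ := ρ) h
    have h1 := hr r0 hr0m
    have h2 := hc c0 hc0m
    rw [hs, LinearMap.smul_apply, Module.End.one_apply] at h1 h2
    exact hαβ ((smul_left_injective ℂ hr0' h1.symm).trans (smul_left_injective ℂ hc0' h2.symm).symm)
  obtain ⟨ι, hι, bs, μ, -, -, hpow, -⟩ := exists_eigenbasis ρ g
  have hval : ∀ i, μ i = α ∨ μ i = β := fun i => by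
    by_contra hcon
    push Not at hcon
    obtain ⟨a, ha, b, hb, hab⟩ := Submodule.mem_sup.1
      (show bs i ∈ r.toSubmodule ⊔ c.toSubmodule by
        rw [← Subrepresentation.toSubmodule_sup, hrc.sup_eq_top]; trivial)
    have hdisj : r.toSubmodule ⊓ c.toSubmodule = ⊥ := by
      rw [← Subrepresentation.toSubmodule_inf, hrc.inf_eq_bot]; rfl
    have h1 : (α - μ i) • a = (μ i - β) • b := by
      have h2 : ρ g (bs i) = μ i • bs i := by simpa using hpow 1 i
      rw [← hab, map_add, hr a ha, hc b hb, smul_add] at h2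
      rw [sub_smul, sub_smul, sub_eq_sub_iff_add_eq_add, h2, add_comm]
    have h0 : (α - μ i) • a ∈ r.toSubmodule ⊓ c.toSubmodule :=
      ⟨Submodule.smul_mem _ _ ha, by rw [h1]; exact Submodule.smul_mem _ _ hb⟩
    rw [hdisj, Submodule.mem_bot] at h0
    have ha0 : a = 0 := (smul_eq_zero.1 h0).resolve_left (sub_ne_zero.2 (Ne.symm hcon.1))
    have hb0 : b = 0 := (smul_eq_zero.1 (h1 ▸ h0)).resolve_left (sub_ne_zero.2 hcon.2)
    exact bs.ne_zero i (by rw [← hab, ha0, hb0, add_zero])
  set d := finrank ℂ V with hd'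
  let e₁ : V ≃ₗ[ℂ] (Fin d → ℂ) := (Module.finBasis ℂ V).equivFun
  obtain ⟨π, e₂, hiso, hπ⟩ := exists_unitary_model (conjRep ρ e₁)
  let e := e₁.trans e₂
  have hπe : ∀ x v, π x (e v) = e (ρ x v) := fun x v => by
    show π x (e₂ (e₁ v)) = e₂ (e₁ (ρ x v))
    rw [hπ, conjRep_apply, LinearEquiv.symm_apply_apply]
  have hnorm : ‖π g - α • 1‖ < 1 := norm_sub_smul_lt π hiso g (bs.map e) μ
    (fun i => by
      rw [Basis.map_apply, hπe, ← map_smul]
      exact congrArg e (by simpa using hpow 1 i)) α one_pos fun i => by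
      rcases hval i with h | h <;> rw [h]
      · rw [sub_self, norm_zero]; exact one_pos
      · exact hclose
  set M := Subgroup.normalClosure ({g} : Set G) with hM
  have hgM : g ∈ M := Subgroup.subset_normalClosure (Set.mem_singleton g)
  have hnM : ¬ PComm p (res ρ M) := fun h => hgc (mem_center_of_normal hρ hd hnc M h hgM hg)
  haveI := isIrreducible_res_normal M hnM hd
  let W : Subrepresentation (res ρ M) := ⟨Module.End.eigenspace (ρ g) α, fun x v hv => by
    rw [Module.End.mem_eigenspace_iff] at hv ⊢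
    have h1 := apply_mem_eigenspace_of_norm_sub_lt π hiso g α hnorm (x := (x : G)) x.2 (v := e v)
      (by rw [hπe, hv, map_smul])
    rw [hπe, hπe, ← map_smul] at h1
    exact e.injective h1⟩
  rcases IsSimpleOrder.eq_bot_or_eq_top W with h | h
  · have h' : r0 ∈ W.toSubmodule := Module.End.mem_eigenspace_iff.2 (hr r0 hr0m)
    rw [h] at h'
    exact hr0' ((Submodule.mem_bot ℂ).1 h')
  · have h' : c0 ∈ W.toSubmodule := by rw [h]; trivial
    have h2 := Module.End.mem_eigenspace_iff.1 h'
    rw [hc c0 hc0m] at h2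
    exact hαβ (smul_left_injective ℂ hc0' h2).symm

theorem norm_exp_sub_one_lt (hp7 : 7 ≤ p) :
    ‖Complex.exp (2 * Real.pi * Complex.I / p) - 1‖ < 1 := by
  have h := Real.norm_exp_I_mul_ofReal_sub_one_le (x := 2 * Real.pi / p)
  rw [Real.norm_eq_abs, abs_of_nonneg (by positivity)] at h
  have e : Complex.I * ((2 * Real.pi / p : ℝ) : ℂ) = 2 * Real.pi * Complex.I / p := by
    push_cast; ring
  rw [e] at h
  refine lt_of_le_of_lt h ((div_lt_one (by exact_mod_cast hp.out.pos)).2 ?_)
  have : (7 : ℝ) ≤ p := by exact_mod_cast hp7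
  have := Real.pi_lt_d2
  linarith

theorem false_of_large_eigenspace [ρ.IsIrreducible] (hρ : Function.Injective ρ)
    (hd : finrank ℂ V + 1 < p) (hp7 : 7 ≤ p) (ih : ∀ m < finrank ℂ V, CoreAt p m)
    (hnc : ¬ PComm p ρ) (hZ : ∀ z ∈ Subgroup.center G, PElt p z → z = 1) {x : G} {ε : ℂ}
    (hx : PElt p x) (hx1 : x ≠ 1)
    (hE : p ≤ 2 * finrank ℂ (Module.End.eigenspace (ρ x) ε) + 1) : False := by
  have hd2 := two_le_finrank hnc
  have hpp : p.Prime := hp.out
  -- a conjugate not commuting with `x`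
  obtain ⟨a, ha⟩ : ∃ a : G, x * (a * x * a⁻¹) ≠ a * x * a⁻¹ * x := by
    by_contra hall
    push Not at hall
    set M := Subgroup.normalClosure ({x} : Set G) with hM
    have h1 : ∀ a b : G, a * x * a⁻¹ * (b * x * b⁻¹) = b * x * b⁻¹ * (a * x * a⁻¹) := fun a b => by
      have h2 := congrArg (fun t => a * t * a⁻¹) (hall (a⁻¹ * b))
      simpa [mul_assoc] using h2
    have hgen : M = Subgroup.closure (Group.conjugatesOfSet ({x} : Set G)) := rfl
    have hcomm : ∀ u ∈ M, ∀ w ∈ M, u * w = w * u := by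
      have hc : ∀ u ∈ Group.conjugatesOfSet ({x} : Set G), ∀ w ∈ Group.conjugatesOfSet ({x} : Set G),
          u * w = w * u := fun u hu w hw => by
        obtain ⟨z, rfl, hzu⟩ := Group.mem_conjugatesOfSet_iff.1 hu
        obtain ⟨z', rfl, hzw⟩ := Group.mem_conjugatesOfSet_iff.1 hw
        obtain ⟨a, rfl⟩ := isConj_iff.1 hzu
        obtain ⟨b, rfl⟩ := isConj_iff.1 hzw
        exact h1 a b
      intro u hu w hw
      rw [hgen] at hu hw
      have hu' : ∀ w ∈ Group.conjugatesOfSet ({x} : Set G), u * w = w * u := fun w hw =>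
        Subgroup.mem_centralizer_singleton_iff.1 ((Subgroup.closure_le _).2 (fun u hu =>
          Subgroup.mem_centralizer_singleton_iff.2 (hc u hu w hw)) hu)
      exact (Subgroup.mem_centralizer_singleton_iff.1 ((Subgroup.closure_le _).2 (fun w hw =>
        Subgroup.mem_centralizer_singleton_iff.2 (hu' w hw).symm) hw)).symm
    refine hx1 (hZ x (mem_center_of_normal hρ hd hnc M (fun u w _ _ => ?_)
      (Subgroup.subset_normalClosure rfl) hx) hx)
    show ρ (u : G) * ρ (w : G) = ρ (w : G) * ρ (u : G)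
    rw [← map_mul, ← map_mul, hcomm u u.2 w w.2]
  set x' := a * x * a⁻¹ with hx'
  set K := Subgroup.closure ({x, x'} : Set G) with hK
  have hxK : x ∈ K := Subgroup.subset_closure (by simp)
  have hx'K : x' ∈ K := Subgroup.subset_closure (by simp)
  have hPK : PElt p (⟨x, hxK⟩ : K) := PElt.of_map (f := K.subtype) K.subtype_injective hx
  have hPK' : PElt p (⟨x', hx'K⟩ : K) := PElt.of_map (f := K.subtype) K.subtype_injective (hx.conj a)
  have hncK : ¬ PComm p (res ρ K) := fun h => ha (hρ (by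
    rw [map_mul ρ x, map_mul ρ x']
    exact h ⟨x, hxK⟩ ⟨x', hx'K⟩ hPK hPK'))
  -- a common eigenvector
  set E := Module.End.eigenspace (ρ x) ε with hEdef
  have hinja : Function.Injective (ρ a) := fun u w huw => by
    have := congrArg (ρ a⁻¹) huw
    rwa [← Module.End.mul_apply, ← Module.End.mul_apply, ← map_mul, inv_mul_cancel, map_one,
      Module.End.one_apply, Module.End.one_apply] at this
  obtain ⟨v, hv, hv0⟩ : ∃ v ∈ E ⊓ E.map (ρ a), v ≠ 0 := by
    refine (Submodule.ne_bot_iff _).1 fun h0 => ?_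
    have h1 := Submodule.finrank_sup_add_finrank_inf_eq E (E.map (ρ a))
    rw [h0, finrank_bot, (LinearEquiv.finrank_eq (Submodule.equivMapOfInjective _ hinja E)).symm] at h1
    have h2 := Submodule.finrank_le (E ⊔ E.map (ρ a))
    omega
  have hxv : ρ x v = ε • v := Module.End.mem_eigenspace_iff.1 hv.1
  have hx'v : ρ x' v = ε • v := by
    obtain ⟨w, hw, hwv⟩ := hv.2
    rw [← hwv, hx', ← Module.End.mul_apply, ← map_mul,
      show a * x * a⁻¹ * a = a * x by group, map_mul, Module.End.mul_apply,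
      Module.End.mem_eigenspace_iff.1 hw, map_smul]
  have hline : ∀ k ∈ K, ∃ s : ℂ, ρ k v = s • v := by
    intro k hk
    induction hk using Subgroup.closure_induction with
    | mem k hk =>
      rcases hk with rfl | hk
      · exact ⟨ε, hxv⟩
      · rw [Set.mem_singleton_iff.1 hk]; exact ⟨ε, hx'v⟩
    | one => exact ⟨1, by rw [map_one, one_smul, Module.End.one_apply]⟩
    | mul k l _ _ hk hl =>
      obtain ⟨s, hs⟩ := hk
      obtain ⟨t, ht⟩ := hl
      exact ⟨t * s, by rw [map_mul, Module.End.mul_apply, ht, map_smul, hs, smul_smul]⟩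
    | inv k _ hk =>
      obtain ⟨s, hs⟩ := hk
      refine ⟨s ^ (orderOf k - 1), ?_⟩
      rw [show k⁻¹ = k ^ (orderOf k - 1) from inv_eq_of_mul_eq_one_right (by
        rw [← pow_succ', Nat.sub_add_cancel (orderOf_pos k), pow_orderOf_eq_one])]
      exact apply_pow_eigen hs _
  obtain ⟨r, c, hrc, hirr, hnr⟩ := exists_big hncK
  haveI := hirr
  have hsum := finrank_compl hrc
  have hlt : finrank ℂ r.toSubmodule < finrank ℂ V := by
    refine lt_of_le_of_ne (Submodule.finrank_le _) fun he => ?_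
    have hr : r = ⊤ := Subrepresentation.toSubmodule_injective (Submodule.eq_top_of_finrank_eq he)
    subst hr
    haveI := isIrreducible_of_equiv (topEquiv (res ρ K))
    rcases IsSimpleOrder.eq_bot_or_eq_top (⟨Submodule.span ℂ {v}, fun k w hw => by
        obtain ⟨t, rfl⟩ := Submodule.mem_span_singleton.1 hw
        obtain ⟨s, hs⟩ := hline k k.2
        refine Submodule.mem_span_singleton.2 ⟨t * s, ?_⟩
        show _ = ρ (k : G) (t • v)
        rw [map_smul, hs, smul_smul]⟩ : Subrepresentation (res ρ K)) with h | h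
    · exact hv0 (Submodule.span_singleton_eq_bot.1 (congrArg Subrepresentation.toSubmodule h))
    · have h1 : finrank ℂ (Submodule.span ℂ {v}) = finrank ℂ V := by
        rw [show Submodule.span ℂ {v} = ⊤ from congrArg Subrepresentation.toSubmodule h, finrank_top]
      rw [finrank_span_singleton hv0] at h1
      omega
  have hm := small (ρ := r.toRepresentation) (by omega) hnr
  have hcC : PComm p c.toRepresentation := by
    by_contra hc
    have := small (ρ := c.toRepresentation) (by omega) hc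
    omega
  -- the normalised group on `r`
  haveI := finite_normSub (ρ := r.toRepresentation)
  haveI hNirr := isIrreducible_normRep (ρ := r.toRepresentation)
  have hNsq := ih _ hlt _ _ (normRep r.toRepresentation) rfl (normRep_injective _) hNirr
    (not_pComm_normRep hnr) fun z hz hzp => eq_one_of_central (by omega) hz hzp
  obtain ⟨-, hN, hNc⟩ := eigen_spec (ρ := normRep r.toRepresentation) (normRep_injective _)
    (by omega) (not_pComm_normRep hnr) hNsq
  set σ := r.toRepresentation with hσ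
  obtain ⟨A, cc, hA, hcc, hAx⟩ := exists_pElt_norm (ρ := σ) (by omega) hPK
  have hσx : σ ⟨x, hxK⟩ = cc⁻¹ • normRep σ A := by
    rw [hAx, smul_smul, inv_mul_cancel₀ hcc, one_smul]
  have hA1 : A ≠ 1 := fun h => by
    rw [h, map_one] at hσx
    refine ha (hρ ?_)
    rw [map_mul ρ x, map_mul ρ x']
    refine eq_of_isCompl hrc (fun w hw => ?_) fun w hw => ?_
    · have h1 : ∀ u ∈ r.toSubmodule, ρ x u = cc⁻¹ • u := fun u hu =>
        congrArg Subtype.val (LinearMap.congr_fun hσx ⟨u, hu⟩)
      rw [Module.End.mul_apply, Module.End.mul_apply,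
        h1 (ρ x' w) (r.apply_mem_toSubmodule ⟨x', hx'K⟩ hw), h1 w hw, map_smul]
    · exact congrArg Subtype.val (LinearMap.congr_fun (hcC ⟨x, hxK⟩ ⟨x', hx'K⟩ hPK hPK') ⟨w, hw⟩)
  have hAo : orderOf A = p := by
    obtain ⟨k, hk⟩ := hA.orderOf_eq
    rcases k with _ | _ | k
    · exact absurd (orderOf_eq_one_iff.1 (by rw [hk, pow_zero])) hA1
    · rw [hk, zero_add, pow_one]
    · exact absurd ((pow_dvd_pow p (by omega : 2 ≤ k + 1 + 1)).trans
        (hk ▸ orderOf_dvd_natCard A)) hNsq
  obtain ⟨hNm, hN1⟩ := hN A hAo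
  have hshift : ∀ t : ℂ, Module.End.eigenspace (σ ⟨x, hxK⟩) t ≤
      Module.End.eigenspace (normRep σ A) (cc * t) := fun t w hw => by
    rw [Module.End.mem_eigenspace_iff] at hw ⊢
    rw [hAx, LinearMap.smul_apply, hw, smul_smul]
  have hrε : finrank ℂ (Module.End.eigenspace (σ ⟨x, hxK⟩) ε) ≤ 1 :=
    (Submodule.finrank_mono (hshift ε)).trans (hNm _)
  have hEle : finrank ℂ E ≤ finrank ℂ (Module.End.eigenspace (σ ⟨x, hxK⟩) ε) +
      finrank ℂ (c.toSubmodule ⊓ Module.End.eigenspace (ρ x) ε : Submodule ℂ V) :=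
    finrank_eigen_le hrc ⟨x, hxK⟩ ε
  have hcle : finrank ℂ (c.toSubmodule ⊓ Module.End.eigenspace (ρ x) ε : Submodule ℂ V) ≤
      finrank ℂ c.toSubmodule := Submodule.finrank_mono inf_le_left
  have hodd := hpp.odd_of_ne_two (by omega)
  rw [Nat.odd_iff] at hodd
  have hhalf : 2 * finrank ℂ r.toSubmodule + 1 = p := by omega
  have hε1 : finrank ℂ (Module.End.eigenspace (σ ⟨x, hxK⟩) ε) = 1 := by omega
  have hcE : c.toSubmodule ≤ Module.End.eigenspace (ρ x) ε := by
    have h := Submodule.eq_of_le_of_finrank_le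
      (inf_le_left : c.toSubmodule ⊓ Module.End.eigenspace (ρ x) ε ≤ c.toSubmodule) (by omega)
    rw [← h]
    exact inf_le_right
  have hc0 : c.toSubmodule ≠ ⊥ := fun h => by
    rw [h, finrank_bot] at hsum hcle
    omega
  have hr0 : r.toSubmodule ≠ ⊥ := fun h => by
    rw [h, finrank_bot] at hhalf
    omega
  have hζ0 : cc * ε ≠ 1 := fun h1 => by
    have := Submodule.finrank_mono (hshift ε)
    rw [h1, hN1 hhalf, finrank_bot, hε1] at this
    omega
  -- an element with the two eigenvalues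
  obtain ⟨k, hk, hkA⟩ := exists_of_mem_commutator (hNc A hAo)
  have hkc : c.toRepresentation k = 1 := by
    have htop : Subgroup.closure ((↑) ⁻¹' ({x, x'} : Set G) : Set K) = ⊤ :=
      Subgroup.closure_closure_coe_preimage
    refine apply_eq_one_of_mem_commutator c.toRepresentation (s := ((↑) ⁻¹' ({x, x'} : Set G) : Set K))
      (fun u hu w hw => ?_) (by rw [htop]; exact hk)
    have hel : ∀ z ∈ ((↑) ⁻¹' ({x, x'} : Set G) : Set K), PElt p z := fun z hz => by
      refine PElt.of_map (f := K.subtype) K.subtype_injective ?_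
      rcases hz with h | h
      · show PElt p (z : G); rw [h]; exact hx
      · show PElt p (z : G); rw [Set.mem_singleton_iff.1 h]; exact hx.conj a
    exact hcC u w (hel u hu) (hel w hw)
  set y : K := ⟨x, hxK⟩ * k⁻¹ with hy
  have hyr : ∀ w ∈ r.toSubmodule, ρ (y : G) w = cc⁻¹ • w := fun w hw => by
    have h1 : σ y = cc⁻¹ • 1 := by
      rw [hy, map_mul, hσx, hkA, smul_mul_assoc, ← map_mul, mul_inv_cancel, map_one]
    exact congrArg Subtype.val (LinearMap.congr_fun h1 ⟨w, hw⟩)
  have hyc : ∀ w ∈ c.toSubmodule, ρ (y : G) w = ε • w := fun w hw => by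
    have h1 : c.toRepresentation y = c.toRepresentation ⟨x, hxK⟩ := by
      have hk' : c.toRepresentation k⁻¹ = 1 := by
        calc c.toRepresentation k⁻¹ = c.toRepresentation k⁻¹ * c.toRepresentation k := by
              rw [hkc, mul_one]
          _ = 1 := by rw [← map_mul, inv_mul_cancel, map_one]
      rw [hy, map_mul, hk', mul_one]
    have h2 : ρ (y : G) w = ρ x w := congrArg Subtype.val (LinearMap.congr_fun h1 ⟨w, hw⟩)
    rw [h2]
    exact Module.End.mem_eigenspace_iff.1 (hcE hw)
  -- the orders of the eigenvalues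
  obtain ⟨c0, hc0m, hc0'⟩ := (Submodule.ne_bot_iff _).1 hc0
  obtain ⟨r0, hr0m, hr0'⟩ := (Submodule.ne_bot_iff _).1 hr0
  obtain ⟨i, hi⟩ := hx
  obtain ⟨j, hj⟩ := hA
  have hN' : ∀ n, p ^ i ∣ n → ε ^ n = 1 := fun n hn => by
    have h1 := apply_pow_eigen (Module.End.mem_eigenspace_iff.1 (hcE hc0m)) n
    rw [orderOf_dvd_iff_pow_eq_one.1 ((orderOf_dvd_of_pow_eq_one hi).trans hn), map_one,
      Module.End.one_apply] at h1
    exact smul_left_injective ℂ hc0' (show ε ^ n • c0 = (1 : ℂ) • c0 by rw [one_smul]; exact h1.symm)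
  have hC' : ∀ n, p ^ i ∣ n → p ^ j ∣ n → cc ^ n = 1 := fun n hn hn' => by
    have h1 := congrArg (fun f : Module.End ℂ r.toSubmodule => f ^ n) hAx
    simp only [smul_pow, ← map_pow] at h1
    rw [orderOf_dvd_iff_pow_eq_one.1 ((orderOf_dvd_of_pow_eq_one hj).trans hn'),
      orderOf_dvd_iff_pow_eq_one.1 ((orderOf_dvd_of_pow_eq_one
        (show (⟨x, hxK⟩ : K) ^ p ^ i = 1 from Subtype.ext hi)).trans hn), map_one, map_one] at h1
    have h2 := congrArg Subtype.val (LinearMap.congr_fun h1 ⟨r0, hr0m⟩)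
    simp only [Module.End.one_apply, LinearMap.smul_apply, Submodule.coe_smul] at h2
    exact smul_left_injective ℂ hr0' (show cc ^ n • r0 = (1 : ℂ) • r0 by rw [one_smul]; exact h2.symm)
  have hdi : p ^ i ∣ p ^ (i + j) := pow_dvd_pow p (Nat.le_add_right i j)
  have hdj : p ^ j ∣ p ^ (i + j) := pow_dvd_pow p (Nat.le_add_left j i)
  have hζp : PElt p (cc * ε) := ⟨i + j, by rw [mul_pow, hC' _ hdi hdj, hN' _ hdi, one_mul]⟩
  obtain ⟨l, hl⟩ := hζp.orderOf_eq
  obtain ⟨l, rfl⟩ : ∃ l', l = l' + 1 := ⟨l - 1, by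
    rcases Nat.eq_zero_or_pos l with h | h
    · exact absurd (orderOf_eq_one_iff.1 (by rw [hl, h, pow_zero])) hζ0
    · omega⟩
  have hη : IsPrimitiveRoot ((cc * ε) ^ p ^ l) p := by
    have h1 : IsPrimitiveRoot (cc * ε) (p ^ (l + 1)) := hl ▸ IsPrimitiveRoot.orderOf _
    exact h1.pow (pow_pos hpp.pos _) (pow_succ p l)
  have hexp := Complex.isPrimitiveRoot_exp p hpp.ne_zero
  obtain ⟨s, -, hs⟩ := hη.eq_pow_of_pow_eq_one hexp.pow_eq_one
  set n := p ^ l * s with hn
  have hζ : (cc * ε) ^ n = Complex.exp (2 * Real.pi * Complex.I / p) := by rw [hn, pow_mul, hs]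
  have hβ : ε ^ n = cc⁻¹ ^ n * Complex.exp (2 * Real.pi * Complex.I / p) := by
    rw [← hζ, ← mul_pow, inv_mul_cancel_left₀ hcc]
  have hccn : cc⁻¹ ^ n ≠ 0 := pow_ne_zero _ (inv_ne_zero hcc)
  have hne : cc⁻¹ ^ n ≠ ε ^ n := fun h => by
    rw [hβ] at h
    exact hexp.ne_one hpp.one_lt (mul_right_eq_self₀.1 h.symm |>.resolve_right hccn)
  have hnorm1 : ‖cc⁻¹ ^ n‖ = 1 := by
    rw [norm_pow, norm_inv, Complex.norm_eq_one_of_pow_eq_one (hC' _ hdi hdj)
      (pow_ne_zero _ hpp.ne_zero), inv_one, one_pow]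
  have hclose : ‖ε ^ n - cc⁻¹ ^ n‖ < 1 := by
    rw [hβ, show cc⁻¹ ^ n * Complex.exp (2 * Real.pi * Complex.I / p) - cc⁻¹ ^ n =
      cc⁻¹ ^ n * (Complex.exp (2 * Real.pi * Complex.I / p) - 1) by ring, norm_mul, hnorm1, one_mul]
    exact norm_exp_sub_one_lt hp7
  have hpy : PElt p ((y : G) ^ n) := by
    refine PElt.pow ⟨i + j, hρ (eq_of_isCompl hrc (fun w hw => ?_) fun w hw => ?_)⟩ n
    · rw [apply_pow_eigen (hyr w hw), inv_pow, hC' _ hdi hdj, inv_one, one_smul, map_one,
        Module.End.one_apply]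
    · rw [apply_pow_eigen (hyc w hw), hN' _ hdi, one_smul, map_one, Module.End.one_apply]
  exact false_of_two_eigenvalues hρ hd hnc hpy hrc hr0 hc0
    (fun w hw => apply_pow_eigen (hyr w hw) n) (fun w hw => apply_pow_eigen (hyc w hw) n) hne hclose

/-- The Sylow step. -/
theorem false_of_good [ρ.IsIrreducible] (hρ : Function.Injective ρ)
    (hd : finrank ℂ V + 1 < p) (hnc : ¬ PComm p ρ) (hsq : p ^ 2 ∣ Nat.card G)
    (hZ : ∀ z ∈ Subgroup.center G, PElt p z → z = 1) (P : Sylow p G)
    (hgen : ∀ M : Subgroup G, M.Normal → (P : Subgroup G) ≤ M → M = ⊤)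
    (hgood : ∀ g : G, g ∉ Subgroup.center G → PComm p (res ρ (Subgroup.centralizer {g}))) :
    False := by
  classical
  haveI := Fintype.ofFinite G
  haveI := Fintype.ofFinite (P : Subgroup G)
  have hd2 := two_le_finrank hnc
  have hpp : p.Prime := hp.out
  have hab : ∀ u ∈ (P : Subgroup G), ∀ w ∈ (P : Subgroup G), u * w = w * u := fun u hu w hw =>
    commute_of_pGroup (by omega) hρ P.isPGroup' hu hw
  have hPZ : (P : Subgroup G) ⊓ Subgroup.center G = ⊥ := (Subgroup.eq_bot_iff_forall _).2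
    fun z hz => hZ z hz.2 (pElt_of_isPGroup P.isPGroup' hz.1)
  have hmem : ∀ (a x : G),
      x ∈ (P : Subgroup G).map (MulAut.conj a).toMonoidHom ↔ x ∈ ((a • P : Sylow p G) : Subgroup G) :=
    fun a x => Iff.rfl
  have habs : ∀ (A : Sylow p G), ∀ u ∈ (A : Subgroup G), ∀ w ∈ (A : Subgroup G), u * w = w * u :=
    fun A u hu w hw => commute_of_pGroup (by omega) hρ A.isPGroup' hu hw
  have hone : ∀ g : G, g ∉ Subgroup.center G → ∀ a b : G,
      Subgroup.centralizer ({g} : Set G) ⊓ (P : Subgroup G).map (MulAut.conj a).toMonoidHom ≠ ⊥ →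
      Subgroup.centralizer ({g} : Set G) ⊓ (P : Subgroup G).map (MulAut.conj b).toMonoidHom ≠ ⊥ →
      (P : Subgroup G).map (MulAut.conj a).toMonoidHom
        = (P : Subgroup G).map (MulAut.conj b).toMonoidHom := by
    intro g hg a b ha hb
    obtain ⟨x, hx, hx1⟩ := (Subgroup.bot_or_exists_ne_one _).resolve_left ha
    obtain ⟨y, hy, hy1⟩ := (Subgroup.bot_or_exists_ne_one _).resolve_left hb
    set A : Sylow p G := a • P with hA
    set B : Sylow p G := b • P with hB
    have hxA : x ∈ (A : Subgroup G) := (hmem a x).1 hx.2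
    have hyB : y ∈ (B : Subgroup G) := (hmem b y).1 hy.2
    have hcomm : ∀ h : G, h ∉ Subgroup.center G → ∀ u w : G, PElt p u → PElt p w →
        u ∈ Subgroup.centralizer ({h} : Set G) → w ∈ Subgroup.centralizer ({h} : Set G) →
        u * w = w * u := fun h hh u w hu hw hu' hw' =>
      congrArg Subtype.val ((hgood h hh).commute (fun _ _ e => Subtype.ext (hρ e))
        (PElt.of_map (f := (Subgroup.centralizer ({h} : Set G)).subtype)
          (Subgroup.subtype_injective _) (x := ⟨u, hu'⟩) hu)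
        (PElt.of_map (f := (Subgroup.centralizer ({h} : Set G)).subtype)
          (Subgroup.subtype_injective _) (x := ⟨w, hw'⟩) hw))
    have hmax : ∀ (C : Sylow p G) (z : G), PElt p z → (∀ u ∈ (C : Subgroup G), z * u = u * z) →
        z ∈ (C : Subgroup G) := fun C z hz hzc => by
      have hle : Subgroup.zpowers z ≤ Subgroup.normalizer ((C : Subgroup G) : Set G) := by
        refine Subgroup.zpowers_le.2 ?_
        rw [Subgroup.mem_normalizer_iff]
        intro u
        constructor
        · intro hu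
          rwa [hzc u hu, mul_inv_cancel_right]
        · intro hu
          have h2 : z * (z * u * z⁻¹) = z * u := (hzc _ hu).trans (by group)
          rwa [mul_left_cancel h2] at hu
      exact (C.is_maximal' (IsPGroup.to_sup_of_normal_left' C.isPGroup' (isPGroup_zpowers hz) hle)
        le_sup_left) ▸ (le_sup_right : Subgroup.zpowers z ≤ _) (Subgroup.mem_zpowers z)
    have hxp := pElt_of_isPGroup A.isPGroup' hxA
    have hyp := pElt_of_isPGroup B.isPGroup' hyB
    have hxy : x * y = y * x := hcomm g hg x y hxp hyp hx.1 hy.1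
    have hxc : x ∉ Subgroup.center G := fun h => hx1 (hZ x h hxp)
    have hyc : y ∉ Subgroup.center G := fun h => hy1 (hZ y h hyp)
    have hyA : y ∈ (A : Subgroup G) := hmax A y hyp fun u hu =>
      hcomm x hxc y u hyp (pElt_of_isPGroup A.isPGroup' hu)
        (Subgroup.mem_centralizer_singleton_iff.2 hxy.symm)
        (Subgroup.mem_centralizer_singleton_iff.2 (habs A u hu x hxA))
    have hAB : A = B := by
      refine Sylow.ext (le_antisymm (fun z hz => ?_) (fun z hz => ?_))
      · exact hmax B z (pElt_of_isPGroup A.isPGroup' hz) fun u hu =>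
          hcomm y hyc z u (pElt_of_isPGroup A.isPGroup' hz) (pElt_of_isPGroup B.isPGroup' hu)
            (Subgroup.mem_centralizer_singleton_iff.2 (habs A z hz y hyA))
            (Subgroup.mem_centralizer_singleton_iff.2 (habs B u hu y hyB))
      · exact hmax A z (pElt_of_isPGroup B.isPGroup' hz) fun u hu =>
          hcomm y hyc z u (pElt_of_isPGroup B.isPGroup' hz) (pElt_of_isPGroup A.isPGroup' hu)
            (Subgroup.mem_centralizer_singleton_iff.2 (habs B z hz y hyB))
            (Subgroup.mem_centralizer_singleton_iff.2 (habs A u hu y hyA))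
    refine SetLike.ext fun z => ?_
    rw [hmem, hmem, ← hA, ← hB, hAB]
  have hχ := isIrrCharacter_character ρ
  have hlt := CfsgLib.RealChar.one_add_degree_sq_gt (P : Subgroup G) hab hPZ hone hχ
    (by rw [ρ.char_one]; intro h; rw [Nat.cast_eq_one] at h; omega) hgen
  rw [ρ.char_one, Complex.natCast_re] at hlt
  have hlt' : Nat.card (P : Subgroup G) < (1 + finrank ℂ V) ^ 2 := by exact_mod_cast hlt
  have h2 : p ^ 2 ≤ Nat.card (P : Subgroup G) := by
    rw [P.card_eq_multiplicity]
    exact Nat.pow_le_pow_right hpp.pos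
      ((hpp.pow_dvd_iff_le_factorization Nat.card_pos.ne').1 hsq)
  have := Nat.pow_lt_pow_left hd two_ne_zero
  rw [add_comm 1 (finrank ℂ V)] at hlt'
  omega

/-- Feit's theorem. -/
theorem core (hp7 : 7 ≤ p) : ∀ d : ℕ, d + 1 < p → CoreAt p d := by
  intro d
  induction d using Nat.strong_induction_on with
  | _ d ihd =>
    intro hd
    suffices H : ∀ n : ℕ, ∀ (G : Type) [Group G] [Finite G] (V : Type) [AddCommGroup V] [Module ℂ V]
        [FiniteDimensional ℂ V] (ρ : Representation ℂ G V), Nat.card G = n → finrank ℂ V = d →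
        Function.Injective ρ → ρ.IsIrreducible → ¬ PComm p ρ →
        (∀ z ∈ Subgroup.center G, PElt p z → z = 1) → ¬ p ^ 2 ∣ Nat.card G by
      intro G _ _ V _ _ _ ρ h1 h2 h3 h4 h5
      exact H _ G V ρ rfl h1 h2 h3 h4 h5
    intro n
    induction n using Nat.strong_induction_on with
    | _ n ihn =>
      intro G _ _ V _ _ _ ρ hn hdim hρ hirr hnc hZ hsq
      haveI := hirr
      subst hdim
      have ih : ∀ m < finrank ℂ V, CoreAt p m := fun m hm => ihd m hm (by omega)
      obtain ⟨P⟩ : Nonempty (Sylow p G) := inferInstance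
      refine false_of_good hρ hd hnc hsq hZ P (fun M hM hPM => ?_) fun g hg => ?_
      · by_contra hne
        haveI := hM
        have hlt : Nat.card M < n := hn ▸ lt_of_le_of_ne (Subgroup.card_le_card_group M)
          fun e => hne ((Subgroup.card_eq_iff_eq_top M).1 e)
        have hP2 : p ^ 2 ∣ Nat.card (P : Subgroup G) := by
          rw [P.card_eq_multiplicity]
          exact pow_dvd_pow p ((hp.out.pow_dvd_iff_le_factorization Nat.card_pos.ne').1 hsq)
        have hnM : ¬ PComm p (res ρ M) := fun h => by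
          have h1 : (P : Subgroup G) = ⊥ := (Subgroup.eq_bot_iff_forall _).2 fun z hz =>
            hZ z (mem_center_of_normal hρ hd hnc M h (hPM hz) (pElt_of_isPGroup P.isPGroup' hz))
              (pElt_of_isPGroup P.isPGroup' hz)
          rw [h1, Subgroup.card_bot] at hP2
          have := Nat.le_of_dvd one_pos hP2
          have := Nat.one_lt_pow two_ne_zero hp.out.one_lt
          omega
        haveI := isIrreducible_res_normal M hnM hd
        refine ihn _ hlt M V (res ρ M) rfl rfl (fun _ _ h => Subtype.ext (hρ h)) inferInstance hnM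
          (fun z hz hzp => ?_) (hP2.trans (Subgroup.card_dvd_of_le hPM))
        obtain ⟨s, hs⟩ := exists_scalar_of_mem_center (ρ := res ρ M) hz
        exact Subtype.ext (hZ _ (mem_center_of_scalar hρ (c := s) hs) (hzp.map M.subtype))
      · by_contra hbad
        obtain ⟨x, ε, hx, hx1, hE⟩ := exists_large_eigenspace hρ hd ih hsq hg hbad
        exact false_of_large_eigenspace hρ hd hp7 ih hnc hZ hx hx1 hE

end CfsgLib.OrderDegrees.Linear
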