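import Cfsg.Agent.Lib.CharTheory.Values
import Cfsg.Agent.Lib.CharTheory.Decomp
import Cfsg.Agent.Lib.CharTheory.Inflation
import Cfsg.Agent.Lib.CharTheory.Degree
import Cfsg.Agent.Lib.SmallGroups.SmallDegreeCircle
import Mathlib.RingTheory.RootsOfUnity.Complex

/-!
# Counting eigenvalues from rational values

Tools for the exclusion of the degree `16` at the prime `19`.
-/

set_option autoImplicit false
set_option linter.unusedSectionVars false
set_option linter.style.haveILetI false

namespace CfsgLib.OrderDegrees.Nineteen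

open Cfsg CfsgLib.CharTheory Finset

open scoped Classical

variable {G : Type*} [Group G] [Finite G]

theorem geom_sum_root {z : ℂ} {n : ℕ} (hz : z ^ n = 1) :
    ∑ j ∈ range n, z ^ j = if z = 1 then (n : ℂ) else 0 := by
  split_ifs with h1
  · simp [h1]
  · have h := mul_geom_sum z n
    rw [hz, sub_self] at h
    exact (mul_eq_zero.1 h).resolve_left (sub_ne_zero.2 h1)

/-- The eigenvalues of an element of prime order on which a character is rational. -/
theorem exists_counts {χ : G → ℂ} (hχ : IsCharacter G χ) {w : G} {q : ℕ} (hq : q.Prime)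
    (hw : w ^ q = 1) (hj : ∀ j : ℕ, j.Coprime q → χ (w ^ j) = χ w) :
    ∃ m₀ m : ℕ, χ 1 = ((m₀ + (q - 1) * m : ℕ) : ℂ) ∧ χ w = (((m₀ : ℤ) - m : ℤ) : ℂ) := by
  obtain ⟨n, ρ, hρ⟩ := hχ
  obtain ⟨ι, hι, b, μ, hcard, hμ, -, hchar⟩ := exists_eigenbasis ρ w
  have hμq : ∀ i, μ i ^ q = 1 := fun i => by
    obtain ⟨c, hc⟩ := orderOf_dvd_of_pow_eq_one hw
    rw [hc, pow_mul, hμ, one_pow]
  set na := (univ.filter fun i => μ i = 1).card with hna
  have hsum : (n : ℂ) + ((q - 1 : ℕ) : ℂ) * χ w = (q : ℂ) * na := by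
    calc (n : ℂ) + ((q - 1 : ℕ) : ℂ) * χ w = ∑ j ∈ range q, χ (w ^ j) := by
          obtain ⟨q', rfl⟩ : ∃ q', q = q' + 1 := ⟨q - 1, by have := hq.one_le; omega⟩
          rw [sum_range_succ', sum_congr rfl fun j hj' => hj (j + 1) ((hq.coprime_iff_not_dvd.2 fun hd => by
            have := Nat.le_of_dvd (Nat.succ_pos j) hd
            rw [mem_range] at hj'
            omega).symm), sum_const, card_range, pow_zero, nsmul_eq_mul, Nat.add_sub_cancel, ← hρ,
            Representation.char_one, Module.finrank_fin_fun]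
          ring
      _ = ∑ i, ∑ j ∈ range q, μ i ^ j := by
          rw [← hρ, sum_congr rfl fun j _ => hchar j, sum_comm]
      _ = _ := by
          rw [sum_congr rfl fun i _ => geom_sum_root (hμq i), ← sum_filter, sum_const, nsmul_eq_mul,
            mul_comm]
  have hnan : na ≤ n := by
    rw [hna, ← Module.finrank_fin_fun (R := ℂ) (n := n), ← hcard, ← card_univ]
    exact card_le_card (filter_subset _ _)
  have hq1 : ((q - 1 : ℕ) : ℂ) ≠ 0 := Nat.cast_ne_zero.2 (by have := hq.two_le; omega)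
  have hrat : χ w = ((((q : ℚ) * na - n) / ((q - 1 : ℕ) : ℚ) : ℚ) : ℂ) := by
    push_cast
    rw [eq_div_iff hq1]
    linear_combination hsum
  have hint : IsIntegral ℤ (χ w) := IsCharacter.isIntegral ⟨n, ρ, hρ⟩ w
  rw [hrat] at hint
  obtain ⟨z, hz⟩ := exists_int_of_isIntegral_ratCast hint
  have hzw : χ w = (z : ℂ) := by rw [hrat, ← hz, Rat.cast_intCast]
  rw [hzw] at hsum
  have hqc : (q : ℂ) = ((q - 1 : ℕ) : ℂ) + 1 := by
    rw [Nat.cast_sub hq.one_le]; push_cast; ring
  have heq : ((q - 1 : ℕ) : ℤ) * ((na : ℤ) - z) = (n : ℤ) - na := by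
    apply Int.cast_injective (α := ℂ)
    push_cast
    rw [hqc] at hsum
    linear_combination -hsum
  have hm0 : 0 ≤ (na : ℤ) - z := by
    by_contra hneg
    have h1 : (0 : ℤ) < ((q - 1 : ℕ) : ℤ) := by have := hq.two_le; omega
    have := mul_neg_of_pos_of_neg h1 (not_le.1 hneg)
    omega
  obtain ⟨m, hm⟩ := Int.eq_ofNat_of_zero_le hm0
  refine ⟨na, m, ?_, ?_⟩
  · rw [← hρ, Representation.char_one, Module.finrank_fin_fun]
    congr 1
    rw [hm] at heq
    have : (((q - 1) * m : ℕ) : ℤ) = (n : ℤ) - na := by push_cast; exact heq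
    omega
  · rw [hzw]; congr 1; omega

/-- No element of order `121` with these values. -/
theorem false_of_order_121 {χ : G → ℂ} (hχ : IsCharacter G χ) {w : G} (hw : orderOf w = 121)
    (h1 : χ 1 = 16) (hout : ∀ j : ℕ, ¬ 11 ∣ j → χ (w ^ j) = χ w)
    (hin : ∀ j : ℕ, ¬ 11 ∣ j → χ (w ^ (11 * j)) = 5) : False := by
  obtain ⟨n, ρ, hρ⟩ := hχ
  obtain ⟨ι, hι, b, μ, -, hμ, -, hchar⟩ := exists_eigenbasis ρ w
  have hζ := Complex.isPrimitiveRoot_exp 121 (by norm_num)
  set ζ := Complex.exp (2 * Real.pi * Complex.I / (121 : ℕ)) with hζd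
  rw [hw] at hμ
  have hsum : ∑ j ∈ range 121, χ (w ^ j) * ζ ^ j =
      ((121 * (univ.filter fun i => μ i * ζ = 1).card : ℕ) : ℂ) := by
    rw [← hρ, sum_congr rfl fun j _ => by rw [hchar j, sum_mul], sum_comm,
      sum_congr rfl fun i _ => sum_congr rfl fun j _ => (mul_pow (μ i) ζ j).symm,
      sum_congr rfl fun i _ => geom_sum_root (by rw [mul_pow, hμ, hζ.pow_eq_one, one_mul]),
      ← sum_filter, sum_const, nsmul_eq_mul]
    push_cast
    ring
  have hterm : ∀ j ∈ range 121, χ (w ^ j) * ζ ^ j =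
      χ w * ζ ^ j + (if 11 ∣ j then (5 - χ w) * ζ ^ j else 0) + if j = 0 then 11 else 0 := by
    intro j hj
    by_cases h0 : j = 0
    · subst h0
      rw [pow_zero, pow_zero, h1, if_pos (dvd_zero _), if_pos rfl]
      ring
    · rw [if_neg h0, add_zero]
      by_cases hd : 11 ∣ j
      · obtain ⟨i, rfl⟩ := hd
        rw [mem_range] at hj
        rw [if_pos (dvd_mul_right 11 i), hin i (fun hd => by
          have := Nat.le_of_dvd (by omega) hd
          omega)]
        ring
      · rw [if_neg hd, add_zero, hout j hd]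
  rw [sum_congr rfl hterm, sum_add_distrib, sum_add_distrib, ← mul_sum, ← sum_filter, ← mul_sum,
    geom_sum_root hζ.pow_eq_one, if_neg (hζ.ne_one (by norm_num)), mul_zero, zero_add,
    show (range 121).filter (11 ∣ ·) = (range 11).image (11 * ·) by decide,
    sum_image (fun a _ b _ hab => Nat.eq_of_mul_eq_mul_left (by norm_num) hab)] at hsum
  have h11 : ∑ i ∈ range 11, ζ ^ (11 * i) = 0 := by
    simp only [pow_mul]
    rw [geom_sum_root (by rw [← pow_mul]; exact hζ.pow_eq_one),
      if_neg (hζ.pow_ne_one_of_pos_of_lt (by norm_num) (by norm_num))]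
  rw [h11, mul_zero, zero_add, sum_ite_eq', if_pos (mem_range.2 (by norm_num))] at hsum
  have : 11 = 121 * (univ.filter fun i => μ i * ζ = 1).card := by exact_mod_cast hsum
  omega

/-- No elementary subgroup of order `121` with these values. -/
theorem false_of_card_121 [Fintype G] {χ : G → ℂ} (hχ : IsCharacter G χ) {Q : Subgroup G}
    (hQ : Nat.card Q = 121) (h1 : χ 1 = 16) (hval : ∀ x ∈ Q, x ≠ 1 → χ x = 5) : False := by
  haveI := Fintype.ofFinite Q
  obtain ⟨n, ρ, hρ⟩ := hχ
  have hc : IsCharacter Q fun x : Q => χ x := ⟨n, ρ.comp Q.subtype, funext fun k => congrFun hρ k⟩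
  obtain ⟨m, hm⟩ := IsCharacter.exists_classInner_eq_nat hc (trivIrr Q)
  rw [classInner, hQ] at hm
  have hsum : ∑ x : Q, χ x * (starRingEnd ℂ) ((trivIrr Q : Q → ℂ) x) = 616 := by
    simp only [trivIrr_apply, map_one, mul_one]
    rw [← add_sum_erase _ _ (mem_univ (1 : Q)), sum_congr rfl (g := fun _ => (5 : ℂ)) fun (x : Q) hx =>
      hval (x : G) x.2 (fun hx1 => ne_of_mem_erase hx (Subtype.ext hx1)), sum_const,
      card_erase_of_mem (mem_univ _), card_univ, ← Nat.card_eq_fintype_card, hQ, OneMemClass.coe_one,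
      h1, nsmul_eq_mul]
    norm_num
  rw [hsum] at hm
  have : 616 = 121 * m := by
    exact_mod_cast (show (616 : ℂ) = 121 * m by rw [← hm]; norm_num)
  omega

variable {V : Type*} [AddCommGroup V] [Module ℂ V] [FiniteDimensional ℂ V]
  {ρ : Representation ℂ G V}

/-- The determinant is trivial on a perfect group. -/
theorem det_eq_one (hperf : commutator G = ⊤) (ρ : Representation ℂ G V) (g : G) :
    LinearMap.det (ρ g) = 1 := by
  let d : G →* ℂˣ := ((LinearMap.det : Module.End ℂ V →* ℂ).comp ρ).toHomUnits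
  have hle : commutator G ≤ d.ker := Abelianization.commutator_subset_ker d
  rw [hperf] at hle
  simpa [d] using congrArg Units.val (MonoidHom.mem_ker.1 (hle (Subgroup.mem_top g)))

/-- An involution of a perfect linear group has evenly many eigenvalues `-1`. -/
theorem exists_neg_count (hperf : commutator G = ⊤) (y : G) (hy : ρ (y ^ 2) = 1) :
    ∃ b : ℕ, 2 * b ≤ Module.finrank ℂ V ∧ ρ.character y = (Module.finrank ℂ V : ℂ) - 4 * b ∧
      (b = 0 → ρ y = 1) ∧ (2 * b = Module.finrank ℂ V → ρ y = (-1 : ℂ) • 1) := by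
  obtain ⟨ι, hι, bs, μ, hcard, -, hb, hchar⟩ := exists_eigenbasis ρ y
  have hμ2 : ∀ i, μ i = 1 ∨ μ i = -1 := fun i => by
    have h := hb 2 i
    rw [hy, Module.End.one_apply] at h
    exact sq_eq_one_iff.1 (smul_left_injective ℂ (bs.ne_zero i) (h.symm.trans (one_smul ℂ (bs i)).symm))
  set s := univ.filter fun i => μ i = -1 with hs
  have hdet : ∏ i, μ i = 1 := by
    have h := det_eq_one hperf ρ y
    rw [← LinearMap.det_toMatrix bs,
      show LinearMap.toMatrix bs bs (ρ y) = Matrix.diagonal μ by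
        ext i j
        rw [LinearMap.toMatrix_apply, show ρ y (bs j) = μ j • bs j by simpa using hb 1 j, map_smul,
          Module.Basis.repr_self, Matrix.diagonal_apply]
        by_cases hij : i = j
        · subst hij; simp
        · simp [hij],
      Matrix.det_diagonal] at h
    exact h
  have hprod : ∏ i, μ i = (-1) ^ s.card := by
    rw [← prod_filter_mul_prod_filter_not univ (fun i => μ i = -1), ← hs,
      prod_congr rfl (g := fun _ => (-1 : ℂ)) fun i hi => (mem_filter.1 hi).2, prod_const,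
      prod_eq_one (s := univ.filter fun i => ¬ μ i = -1) fun i hi =>
        (hμ2 i).resolve_right (mem_filter.1 hi).2, mul_one]
  have heven : Even s.card := by
    by_contra hodd
    rw [hprod, (Nat.not_even_iff_odd.1 hodd).neg_one_pow] at hdet
    norm_num at hdet
  obtain ⟨b, hbs⟩ := heven
  have htr : ρ.character y = ∑ i, μ i := by simpa using hchar 1
  refine ⟨b, ?_, ?_, fun h0 => bs.ext fun i => ?_, fun hall => bs.ext fun i => ?_⟩
  · rw [← hcard, ← card_univ, show 2 * b = s.card by omega]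
    exact card_le_card (subset_univ _)
  · have e : ∀ i, μ i = 1 - 2 * if μ i = -1 then (1 : ℂ) else 0 := fun i => by
      rcases hμ2 i with hi | hi <;> rw [hi] <;> norm_num
    rw [htr, sum_congr rfl fun i _ => e i, sum_sub_distrib, sum_const, ← mul_sum, sum_boole, ← hs,
      card_univ, hcard, hbs, nsmul_eq_mul]
    push_cast
    ring
  · rw [show ρ y (bs i) = μ i • bs i by simpa using hb 1 i,
      (hμ2 i).resolve_right fun hi => ?_, one_smul, Module.End.one_apply]
    have : 0 < s.card := card_pos.2 ⟨i, mem_filter.2 ⟨mem_univ _, hi⟩⟩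
    omega
  · have hsu : s = univ := eq_univ_of_card _ (by rw [hcard]; omega)
    rw [show ρ y (bs i) = μ i • bs i by simpa using hb 1 i,
      (mem_filter.1 (hsu.ge (mem_univ i))).2]
    simp

/-- A character vanishing off `⟨y⟩` on the group of order `22`. -/
theorem exists_count_22 (y w : G) (hy : ρ (y ^ 2) = 1) (hw : w ^ 11 = 1) (hcomm : Commute w y)
    (h0 : ∀ j i : ℕ, ¬ 11 ∣ j → ρ.character (w ^ j * y ^ i) = 0) :
    ∃ c : ℕ, ρ.character 1 - ρ.character y = 22 * (c : ℂ) := by
  obtain ⟨ι, hι, bs, μ, -, -, hb, hchar⟩ := exists_eigenbasis ρ (w * y)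
  have hy22 : ρ (y ^ 22) = 1 := by rw [show 22 = 2 * 11 from rfl, pow_mul, map_pow, hy, one_pow]
  have hμ22 : ∀ i, (-μ i) ^ 22 = 1 := fun i => by
    have h := hb 22 i
    rw [hcomm.mul_pow, show 22 = 11 * 2 from rfl, pow_mul w, hw, one_pow, one_mul, hy22,
      Module.End.one_apply] at h
    rw [(show Even 22 by decide).neg_pow]
    exact smul_left_injective ℂ (bs.ne_zero i) (h.symm.trans (one_smul ℂ (bs i)).symm)
  refine ⟨(univ.filter fun i => -μ i = 1).card, ?_⟩
  have hsum : ∑ j ∈ range 22, ρ.character ((w * y) ^ j) * (-1) ^ j =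
      22 * ((univ.filter fun i => -μ i = 1).card : ℂ) := by
    rw [sum_congr rfl fun j _ => by rw [hchar j, sum_mul], sum_comm,
      sum_congr rfl fun i _ => sum_congr rfl fun j _ =>
        (show μ i ^ j * (-1) ^ j = (-μ i) ^ j by rw [← mul_pow, mul_neg_one]),
      sum_congr rfl fun i _ => geom_sum_root (hμ22 i), ← sum_filter, sum_const, nsmul_eq_mul]
    push_cast
    ring
  rw [← hsum, sum_eq_add_of_mem 0 11 (by simp) (by simp) (by norm_num) fun j hj hne => ?_]
  · rw [pow_zero, pow_zero, mul_one, hcomm.mul_pow, hw, one_mul,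
      show ρ.character (y ^ 11) = ρ.character y by
        rw [Representation.character, Representation.character, show 11 = 2 * 5 + 1 from rfl,
          pow_succ, pow_mul, map_mul, map_pow, hy, one_pow, one_mul]]
    norm_num
    ring
  · rw [hcomm.mul_pow, h0 j j (fun hd => ?_), zero_mul]
    rw [mem_range] at hj
    obtain ⟨i, rfl⟩ := hd
    omega

end CfsgLib.OrderDegrees.Nineteen
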