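import Cfsg.Agent.Lib.OrderDegrees.LinearClassify
import Cfsg.Agent.Lib.OrderDegrees.LinearCoreFive
import Cfsg.Agent.Lib.OrderDegrees.SmallChar.Setup
import Cfsg.Agent.Lib.OrderDegrees.SmallChar.Five
import Cfsg.Agent.Lib.OrderDegrees.SmallChar.Seven
import Cfsg.Agent.Lib.OrderDegrees.UpperMain
import Cfsg.Agent.Lib.ClassicalLinear.Generation
import Cfsg.Agent.Lib.ClassicalLinear.BlockHom
import Cfsg.Agent.S0494
import Cfsg.Agent.S0253
import Cfsg.Agent.S0497
import Cfsg.Agent.S0495
import Cfsg.Agent.S0984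

/-!
# Linear groups of degree below twenty-seven

The central quotients in the small degrees at the primes `5` and `7`, the splitting at the prime
`17` in degree `15`, and the exclusion of degree `25` at the prime `29`.
-/

set_option autoImplicit false
set_option linter.unusedSectionVars false
set_option linter.style.haveILetI false

namespace CfsgLib.OrderDegrees.Linear

open Cfsg CfsgLib.CharTheory CfsgLib.DefectOne Module
open scoped commutatorElement
open CfsgLib.SmallGroups.QuasiSimple (pClosure exactPrime_pClosure hyp_pClosure)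

variable {G : Type*} [Group G] [Finite G] {p : ℕ} [hp : Fact p.Prime] {χ : IrrCharacter G} {d : ℕ}

/-- Degrees two and three at the prime five. -/
theorem five_cases (hdeg : charDegree (χ : G → ℂ) = d)
    (hfaith : ∀ g : G, (χ : G → ℂ) g = (χ : G → ℂ) 1 → g = 1) (hp5 : p = 5)
    (hd : d = 2 ∨ d = 3) {P : Sylow p G} (hP : ¬ (P : Subgroup G).Normal) :
    (Nonempty (G ⧸ Subgroup.center G ≃* Matrix.ProjectiveSpecialLinearGroup (Fin 2) (ZMod p)) ∧
        (2 * d = p + 1 ∨ 2 * d = p - 1)) ∨
      (d = 3 ∧ Nonempty (G ⧸ Subgroup.center G ≃* ↥(alternatingGroup (Fin 6)))) := by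
  classical
  obtain ⟨H, iH, iF, ζ, Q, hG, hnn, hζ, hfaithH, hdH, hQ, hQn, ⟨iso⟩⟩ :=
    exists_exactPrime_model_of_core hdeg hfaith (by omega) (core_five hp5) hP
  rcases hd with rfl | rfl
  · obtain ⟨iso'⟩ := CfsgLib.HalfDegree.psl_of_half_degree hG.dvd hG.sq hnn
      (IsIrrCharacter.isCharacter hζ) hfaithH (by rw [hdH]; omega)
    exact Or.inl ⟨⟨iso.trans iso'⟩, Or.inr (by omega)⟩
  · letI := Fintype.ofFinite (H ⧸ Subgroup.center H)
    obtain ⟨u, A, hD⟩ := SmallChar.exists_data hG hnn hζ hfaithH (n := 2) (d := 3)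
      (Or.inl ⟨hp5, rfl, rfl⟩) hdH
    subst hp5
    obtain ⟨hs, h60 | h360⟩ := SmallChar.five hD
    · haveI := hs
      obtain ⟨e1⟩ := Cfsg.Agent.S0494.result h60
      obtain ⟨e2⟩ := Cfsg.Agent.S0253.result (F := ZMod 5) (ZMod.card 5)
      exact Or.inl ⟨⟨(iso.trans e1).trans e2.symm⟩, Or.inl rfl⟩
    · haveI := hs
      obtain ⟨e1⟩ := Cfsg.Agent.S0497.result h360
      exact Or.inr ⟨rfl, ⟨iso.trans e1⟩⟩

/-- Degrees three and four at the prime seven. -/
theorem seven_cases (hdeg : charDegree (χ : G → ℂ) = d)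
    (hfaith : ∀ g : G, (χ : G → ℂ) g = (χ : G → ℂ) 1 → g = 1) (hp7 : p = 7)
    (hd : d = 3 ∨ d = 4) {P : Sylow p G} (hP : ¬ (P : Subgroup G).Normal) :
    (Nonempty (G ⧸ Subgroup.center G ≃* Matrix.ProjectiveSpecialLinearGroup (Fin 2) (ZMod p)) ∧
        (2 * d = p + 1 ∨ 2 * d = p - 1)) ∨
      (d = 4 ∧ Nonempty (G ⧸ Subgroup.center G ≃* ↥(alternatingGroup (Fin 7)))) := by
  classical
  obtain ⟨H, iH, iF, ζ, Q, hG, hnn, hζ, hfaithH, hdH, hQ, hQn, ⟨iso⟩⟩ :=
    exists_exactPrime_model hdeg hfaith (by omega) (by omega) hP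
  rcases hd with rfl | rfl
  · obtain ⟨iso'⟩ := CfsgLib.HalfDegree.psl_of_half_degree hG.dvd hG.sq hnn
      (IsIrrCharacter.isCharacter hζ) hfaithH (by rw [hdH]; omega)
    exact Or.inl ⟨⟨iso.trans iso'⟩, Or.inr (by omega)⟩
  · letI := Fintype.ofFinite (H ⧸ Subgroup.center H)
    obtain ⟨u, A, hD⟩ := SmallChar.exists_data hG hnn hζ hfaithH (n := 3) (d := 4)
      (Or.inr ⟨hp7, rfl, rfl⟩) hdH
    subst hp7
    obtain ⟨hs, h168 | h2520⟩ := SmallChar.seven hD
    · haveI := hs
      obtain ⟨e1⟩ := Cfsg.Agent.S0495.result h168 (F := ZMod 7) (ZMod.card 7)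
      exact Or.inl ⟨⟨iso.trans e1⟩, Or.inl rfl⟩
    · haveI := hs
      obtain ⟨e1⟩ := Cfsg.Agent.S0984.result h2520
      exact Or.inr ⟨rfl, ⟨iso.trans e1⟩⟩

/-- There is no linear group of degree `25` with a non-normal Sylow `29`-subgroup. -/
theorem false_of_twentyNine (hdeg : charDegree (χ : G → ℂ) = d)
    (hfaith : ∀ g : G, (χ : G → ℂ) g = (χ : G → ℂ) 1 → g = 1) (hp29 : p = 29) (hd25 : d = 25)
    {P : Sylow p G} (hP : ¬ (P : Subgroup G).Normal) : False := by
  classical
  obtain ⟨H, iH, iF, ζ, Q, hG, hnn, hζ, hfaithH, hdH, hQ, hQn, -⟩ :=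
    exists_exactPrime_model hdeg hfaith (by omega) (by omega) hP
  obtain ⟨u, hu⟩ := exists_prime_orderOf_dvd_card' (G := ↥(pClosure H p)) p (exactPrime_pClosure hG).dvd
  obtain ⟨S, -⟩ := exists_sect (exactPrime_pClosure hG) hu
  have h := hyp_pClosure hG hnn hζ hfaithH (by omega) S
  have hd' : charDegree (fun k : pClosure H p => ζ k) = d := by
    rw [← hdH]; simp [charDegree]
  rcases h.degree_cases (Upper.odd_center_of_odd h (by rw [hd', hd25]; decide)) with h' | h' | h' <;>
    omega

/-- A finite group with centre-free central quotient `S`, perfect, splits over its centre once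
its derived group is centre-free. -/
theorem exists_mulEquiv_prod {S : Type*} [Group S] (π : G →* S)
    (hker : π.ker = Subgroup.center G) (hsurj : ∀ s : S, ∃ o ∈ commutator G, π o = s)
    (hinj : ∀ o ∈ commutator G, o ∈ Subgroup.center G → o = 1) :
    Nonempty (G ≃* S × Subgroup.center G) := by
  choose f hf hπf using hsurj
  have huniq : ∀ {a b : G}, a ∈ commutator G → b ∈ commutator G → π a = π b → a = b := by
    intro a b ha hb hab
    refine eq_of_inv_mul_eq_one (hinj _ ((commutator G).mul_mem ((commutator G).inv_mem ha) hb) ?_)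
    rw [← hker, MonoidHom.mem_ker, map_mul, map_inv, hab, inv_mul_cancel]
  have hπz : ∀ z ∈ Subgroup.center G, π z = 1 := fun z hz => by
    rwa [← hker, MonoidHom.mem_ker] at hz
  let φ : S × Subgroup.center G →* G := MonoidHom.mk' (fun x => f x.1 * (x.2 : G)) fun x y => by
    have h1 : f (x.1 * y.1) = f x.1 * f y.1 :=
      huniq (hf _) ((commutator G).mul_mem (hf _) (hf _)) (by rw [hπf, map_mul, hπf, hπf])
    have h2 : (x.2 : G) * f y.1 = f y.1 * (x.2 : G) := (Subgroup.mem_center_iff.1 x.2.2 _).symm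
    simp only [Prod.fst_mul, Prod.snd_mul, Subgroup.coe_mul, h1]
    rw [mul_assoc (f x.1) (x.2 : G), ← mul_assoc (x.2 : G), h2]
    simp only [mul_assoc]
  have hπφ : ∀ x, π (φ x) = x.1 := fun x => by
    show π (f x.1 * (x.2 : G)) = x.1
    rw [map_mul, hπf, hπz _ x.2.2, mul_one]
  refine ⟨(MulEquiv.ofBijective φ ⟨fun x y h => ?_, fun g => ?_⟩).symm⟩
  · have h1 : x.1 = y.1 := by rw [← hπφ x, h, hπφ y]
    refine Prod.ext h1 (Subtype.ext ?_)
    have h' : f x.1 * (x.2 : G) = f y.1 * (y.2 : G) := h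
    rw [h1] at h'
    exact mul_left_cancel h'
  · refine ⟨(π g, ⟨(f (π g))⁻¹ * g, ?_⟩), mul_inv_cancel_left _ _⟩
    rw [← hker, MonoidHom.mem_ker, map_mul, map_inv, hπf, inv_mul_cancel]

/-- The centre of an irreducible linear group is a group of scalars. -/
theorem exists_center_equiv {V : Type} [AddCommGroup V] [Module ℂ V] [FiniteDimensional ℂ V]
    {ρ : Representation ℂ G V} [ρ.IsIrreducible] (hρ : Function.Injective ρ) :
    ∃ (A : Type) (_ : CommGroup A) (_ : Finite A), Nonempty (Subgroup.center G ≃* A) := by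
  haveI := nontrivial_of_isIrreducible ρ
  choose c hc using fun z : Subgroup.center G => exists_scalar_of_mem_center (ρ := ρ) z.2
  have hu : ∀ a b : ℂ, a • (1 : Module.End ℂ V) = b • (1 : Module.End ℂ V) → a = b := fun a b h =>
    smul_left_injective ℂ (one_ne_zero (α := Module.End ℂ V)) h
  let φ : Subgroup.center G →* ℂ :=
    { toFun := c
      map_one' := hu _ _ (by rw [← hc, OneMemClass.coe_one, map_one, one_smul])
      map_mul' := fun a b => hu _ _ (by
        rw [← hc, Subgroup.coe_mul, map_mul, hc a, hc b, smul_mul_smul_comm, one_mul]) }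
  have hφ : Function.Injective φ.toHomUnits := fun a b hab => by
    have h : c a = c b := congrArg Units.val hab
    exact Subtype.ext (hρ (by rw [hc a, hc b, h]))
  exact ⟨φ.toHomUnits.range, inferInstance, Finite.of_equiv _ (MonoidHom.ofInjective hφ).toEquiv,
    ⟨MonoidHom.ofInjective hφ⟩⟩

set_option maxHeartbeats 1000000 in
/-- Degree `15` at the prime `17`. -/
theorem seventeen (hdeg : charDegree (χ : G → ℂ) = d)
    (hfaith : ∀ g : G, (χ : G → ℂ) g = (χ : G → ℂ) 1 → g = 1) (hd15 : d = 15) (hp17 : p = 17)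
    {P : Sylow p G} (hP : ¬ (P : Subgroup G).Normal) {F : Type} [Field F] [Fintype F]
    (hF : Fintype.card F = 16)
    (π : G →* Matrix.SpecialLinearGroup (Fin 2) F) (hπ : Function.Surjective π)
    (hker : π.ker = Subgroup.center G)
    (hsq : ¬ p ^ 2 ∣ Nat.card (Matrix.SpecialLinearGroup (Fin 2) F)) :
    ∃ (A : Type) (_ : CommGroup A) (_ : Finite A),
      Nonempty (G ≃* Matrix.SpecialLinearGroup (Fin 2) (GaloisField 2 4) × A) := by
  classical
  obtain ⟨n, ρ, hirr, hχ⟩ := χ.2
  haveI := hirr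
  have hn : finrank ℂ (Fin n → ℂ) = d := by
    rw [← hdeg, ← hχ, charDegree, ρ.char_one, Complex.natCast_re, Nat.floor_natCast]
  have hρ : Function.Injective ρ := fun a b hab => by
    refine eq_of_mul_inv_eq_one (hfaith _ ?_)
    rw [← hχ, Representation.character, Representation.character, map_mul, hab, ← map_mul,
      mul_inv_cancel]
  have hnc : ¬ PComm p ρ := fun h =>
    hP (sylow_normal_of_commute (fun x y hx hy => h.commute hρ hx hy) P)
  -- the quotient is perfect
  have hperf : commutator (Matrix.SpecialLinearGroup (Fin 2) F) = ⊤ := by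
    refine CfsgLib.ClassicalLinear.commutator_sl_eq_top (Or.inr ?_)
    obtain ⟨a, ha⟩ : ∃ a : F, a ∉ ({0, 1, -1} : Finset F) := by
      by_contra hall
      push Not at hall
      have := Finset.card_le_card (show (Finset.univ : Finset F) ⊆ {0, 1, -1} from fun x _ => hall x)
      rw [Finset.card_univ, hF] at this
      exact absurd (this.trans Finset.card_le_three) (by norm_num)
    simp only [Finset.mem_insert, Finset.mem_singleton, not_or] at ha
    exact ⟨a, ha.1, fun h => (sq_eq_one_iff.1 h).elim ha.2.1 ha.2.2⟩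
  have himg : (commutator G).map π = ⊤ := by
    rw [show commutator G = ⁅(⊤ : Subgroup G), (⊤ : Subgroup G)⁆ from rfl, Subgroup.map_commutator,
      Subgroup.map_top_of_surjective π hπ]
    exact hperf
  have hsurjO : ∀ s, ∃ o ∈ commutator G, π o = s := fun s =>
    Subgroup.mem_map.1 (himg ▸ Subgroup.mem_top s)
  have hdecomp : ∀ g : G, ∃ o ∈ commutator G, ∃ z ∈ Subgroup.center G, g = o * z := fun g => by
    obtain ⟨o, ho, hog⟩ := hsurjO (π g)
    refine ⟨o, ho, o⁻¹ * g, ?_, (mul_inv_cancel_left _ _).symm⟩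
    rw [← hker, MonoidHom.mem_ker, map_mul, map_inv, hog, inv_mul_cancel]
  -- the derived group is perfect
  have hOO : commutator G ≤ ⁅commutator G, commutator G⁆ := by
    rw [show commutator G = ⁅(⊤ : Subgroup G), (⊤ : Subgroup G)⁆ from rfl, Subgroup.commutator_le]
    intro g _ g' _
    obtain ⟨o, ho, z, hz, rfl⟩ := hdecomp g
    obtain ⟨o', ho', z', hz', rfl⟩ := hdecomp g'
    have e1 : ∀ x : G, x * z = z * x := Subgroup.mem_center_iff.1 hz
    have e2 : ∀ x : G, x * z' = z' * x := Subgroup.mem_center_iff.1 hz'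
    have e3 : ⁅o * z, o' * z'⁆ = ⁅o, o'⁆ := by
      rw [commutatorElement_def, commutatorElement_def, mul_inv_rev, mul_inv_rev]
      calc o * z * (o' * z') * (z⁻¹ * o⁻¹) * (z'⁻¹ * o'⁻¹)
          = o * (z * (o' * z')) * z⁻¹ * o⁻¹ * z'⁻¹ * o'⁻¹ := by group
        _ = o * o' * (z' * o⁻¹) * z'⁻¹ * o'⁻¹ := by rw [← e1]; group
        _ = o * o' * o⁻¹ * o'⁻¹ := by rw [← e2]; group
    rw [e3]
    exact Subgroup.commutator_mem_commutator ho ho'
  have hperfO : commutator (commutator G : Subgroup G) = ⊤ := by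
    apply Subgroup.map_injective (commutator G).subtype_injective
    rw [← MonoidHom.range_eq_map, Subgroup.range_subtype,
      show commutator (commutator G : Subgroup G) =
        ⁅(⊤ : Subgroup (commutator G : Subgroup G)), ⊤⁆ from rfl, Subgroup.map_commutator,
      ← MonoidHom.range_eq_map, Subgroup.range_subtype]
    exact le_antisymm (Subgroup.commutator_le_self _) hOO
  -- the prime divides the order of the quotient
  have hdvdS : p ∣ Nat.card (Matrix.SpecialLinearGroup (Fin 2) F) := by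
    by_contra hndvd
    apply hnc
    intro x y hx hy
    have hxc : x ∈ Subgroup.center G := by
      rw [← hker, MonoidHom.mem_ker, ← orderOf_eq_one_iff]
      obtain ⟨k, hk⟩ := (hx.map π).orderOf_eq
      rw [hk]
      rcases k with _ | k
      · exact pow_zero p
      · exact absurd ((dvd_pow_self p (Nat.succ_ne_zero k)).trans (hk ▸ orderOf_dvd_natCard (π x))) hndvd
    rw [← map_mul, ← map_mul, Subgroup.mem_center_iff.1 hxc y]
  -- the order of the derived group
  let g : (commutator G : Subgroup G) →* Matrix.SpecialLinearGroup (Fin 2) F :=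
    π.comp (commutator G).subtype
  have hgs : Function.Surjective g := fun s => by
    obtain ⟨o, ho, hos⟩ := hsurjO s
    exact ⟨⟨o, ho⟩, hos⟩
  have hcardO : Nat.card (commutator G : Subgroup G) =
      Nat.card (Matrix.SpecialLinearGroup (Fin 2) F) * Nat.card g.ker := by
    rw [Subgroup.card_eq_card_quotient_mul_card_subgroup g.ker,
      Nat.card_congr (QuotientGroup.quotientKerEquivOfSurjective g hgs).toEquiv]
  have h15 : ∀ z ∈ Subgroup.center G, z ∈ commutator G → z ^ 15 = 1 := by
    intro z hz hzO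
    obtain ⟨c, hc⟩ := exists_scalar_of_mem_center (ρ := ρ) hz
    let dt : G →* ℂˣ := ((LinearMap.det : Module.End ℂ (Fin n → ℂ) →* ℂ).comp ρ).toHomUnits
    have h1 : dt z = 1 := MonoidHom.mem_ker.1 (Abelianization.commutator_subset_ker dt hzO)
    have h2 : LinearMap.det (ρ z) = 1 := congrArg Units.val h1
    rw [hc, LinearMap.det_smul, map_one, mul_one, hn, hd15] at h2
    refine hρ ?_
    rw [map_pow, hc, smul_pow, one_pow, h2, one_smul, map_one]
  have hkerg : ¬ p ∣ Nat.card g.ker := by
    intro hdiv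
    obtain ⟨z, hz⟩ := exists_prime_orderOf_dvd_card' (G := g.ker) p hdiv
    have hzc : ((z : (commutator G : Subgroup G)) : G) ∈ Subgroup.center G := by
      rw [← hker]; exact z.2
    have h : z ^ 15 = 1 := by
      refine Subtype.ext (Subtype.ext ?_)
      rw [SubmonoidClass.coe_pow, SubmonoidClass.coe_pow]
      exact h15 _ hzc (z : (commutator G : Subgroup G)).2
    have := orderOf_dvd_of_pow_eq_one h
    rw [hz, hp17] at this
    exact absurd this (by norm_num)
  have hsqO : ¬ p ^ 2 ∣ Nat.card (commutator G : Subgroup G) := by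
    rw [hcardO]
    exact fun h => hsq ((Nat.Coprime.pow_left 2
      (hp.out.coprime_iff_not_dvd.2 hkerg)).dvd_of_dvd_mul_right h)
  have hdvdO : p ∣ Nat.card (commutator G : Subgroup G) := hcardO ▸ hdvdS.mul_right _
  -- a Sylow subgroup of the derived group
  obtain ⟨R⟩ : Nonempty (Sylow p (commutator G : Subgroup G)) := inferInstance
  have hR : Nat.card R = p := by
    rw [R.card_eq_multiplicity]
    have : (Nat.card (commutator G : Subgroup G)).factorization p = 1 := by
      refine le_antisymm ?_ (hp.out.factorization_pos_of_dvd Nat.card_pos.ne' hdvdO)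
      by_contra h
      push Not at h
      exact hsqO ((hp.out.pow_dvd_iff_le_factorization Nat.card_pos.ne').2 h)
    rw [this, pow_one]
  have hRn : ¬ (R : Subgroup (commutator G : Subgroup G)).Normal := by
    intro hn'
    haveI := hn'
    haveI := Sylow.unique_of_normal R hn'
    apply hnc
    have hR' : ∀ x : G, PElt p x →
        ∃ r ∈ (R : Subgroup (commutator G : Subgroup G)), ∃ z ∈ Subgroup.center G,
          x = (r : G) * z := by
      intro x hx
      obtain ⟨r0, hr0⟩ := hgs (π x)
      obtain ⟨m, hm, hm'⟩ := exists_pPart (p := p) r0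
      have hmem : r0 ^ m ∈ (R : Subgroup (commutator G : Subgroup G)) := by
        obtain ⟨T, hT⟩ := (isPGroup_zpowers hm).exists_le_sylow
        rw [Subsingleton.elim R T]
        exact hT (Subgroup.mem_zpowers _)
      have hπm : π ((r0 ^ m : (commutator G : Subgroup G)) : G) = π x := by
        show g (r0 ^ m) = π x
        rw [map_pow, hr0]
        exact (hx.map π).pow_eq_self (by rw [← hr0, ← map_pow, pow_orderOf_eq_one, map_one]) hm'
      refine ⟨r0 ^ m, hmem, ((r0 ^ m : (commutator G : Subgroup G)) : G)⁻¹ * x, ?_,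
        (mul_inv_cancel_left _ _).symm⟩
      rw [← hker, MonoidHom.mem_ker, map_mul, map_inv, hπm, inv_mul_cancel]
    intro x y hx hy
    obtain ⟨r, hr, z, hz, rfl⟩ := hR' x hx
    obtain ⟨r', hr', z', hz', rfl⟩ := hR' y hy
    haveI : IsCyclic R := isCyclic_of_prime_card hR
    have hrr : (r : G) * (r' : G) = (r' : G) * (r : G) := by
      obtain ⟨w, hw⟩ := IsCyclic.exists_generator (α := R)
      obtain ⟨i, hi⟩ := Subgroup.mem_zpowers_iff.1 (hw ⟨r, hr⟩)
      obtain ⟨j, hj⟩ := Subgroup.mem_zpowers_iff.1 (hw ⟨r', hr'⟩)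
      have hc : (⟨r, hr⟩ : R) * ⟨r', hr'⟩ = ⟨r', hr'⟩ * ⟨r, hr⟩ := by
        rw [← hi, ← hj, ← zpow_add, ← zpow_add, add_comm]
      exact congrArg (fun a : R => ((a : (commutator G : Subgroup G)) : G)) hc
    rw [← map_mul, ← map_mul]
    congr 1
    have e1 : ∀ w : G, w * z = z * w := Subgroup.mem_center_iff.1 hz
    have e2 : ∀ w : G, w * z' = z' * w := Subgroup.mem_center_iff.1 hz'
    calc (r : G) * z * ((r' : G) * z') = (r : G) * (z * (r' : G)) * z' := by group
      _ = (r : G) * (r' : G) * (z * z') := by rw [← e1]; group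
      _ = (r' : G) * (r : G) * (z' * z) := by rw [hrr, e2]
      _ = (r' : G) * ((r : G) * z') * z := by group
      _ = (r' : G) * z' * ((r : G) * z) := by rw [e2 (r : G)]; group
  -- the restriction is irreducible
  haveI hirrO : (res ρ (commutator G)).IsIrreducible := by
    haveI := nontrivial_of_isIrreducible ρ
    haveI : Nontrivial (Subrepresentation (res ρ (commutator G))) := ⟨⊥, ⊤, fun h =>
      bot_ne_top (α := Submodule ℂ (Fin n → ℂ)) (congrArg Subrepresentation.toSubmodule h)⟩
    refine ⟨fun q => ?_⟩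
    have hq : ∀ (x : G) (v : Fin n → ℂ), v ∈ q.toSubmodule → ρ x v ∈ q.toSubmodule := by
      intro x v hv
      obtain ⟨o, ho, z, hz, rfl⟩ := hdecomp x
      obtain ⟨c, hc⟩ := exists_scalar_of_mem_center (ρ := ρ) hz
      rw [map_mul, Module.End.mul_apply, hc, LinearMap.smul_apply, Module.End.one_apply, map_smul]
      exact q.toSubmodule.smul_mem c (q.apply_mem_toSubmodule ⟨o, ho⟩ hv)
    rcases IsSimpleOrder.eq_bot_or_eq_top (⟨q.toSubmodule, hq⟩ : Subrepresentation ρ) with h | h
    · exact Or.inl (Subrepresentation.toSubmodule_injective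
        (show q.toSubmodule = ⊥ from congrArg Subrepresentation.toSubmodule h))
    · exact Or.inr (Subrepresentation.toSubmodule_injective
        (show q.toSubmodule = ⊤ from congrArg Subrepresentation.toSubmodule h))
  obtain ⟨a, F', iF', iFt', -, -, ⟨isoO⟩⟩ := Cfsg.Agent.S4705.result p (by omega) R hR hRn
    (res ρ (commutator G)).character (isIrrCharacter_character _) (fun k hk => by
      rw [(res ρ (commutator G)).char_one, character_eq_finrank_iff] at hk
      exact Subtype.ext (hρ (hk.trans (by rw [OneMemClass.coe_one, map_one, Module.End.one_eq_id]))))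
    (by rw [charDegree, Representation.char_one, Complex.natCast_re, Nat.floor_natCast, hn]; omega)
  -- the derived group is centre-free
  have hinj : ∀ o ∈ commutator G, o ∈ Subgroup.center G → o = 1 := by
    intro o ho hoc
    let ψ : (commutator G : Subgroup G) →* Subgroup.center (commutator G : Subgroup G) :=
      (MonoidHom.snd _ _).comp isoO.toMonoidHom
    have hker' : ψ.ker = ⊤ := by
      refine top_le_iff.1 ?_
      rw [← hperfO, show commutator (commutator G : Subgroup G) =
        ⁅(⊤ : Subgroup (commutator G : Subgroup G)), ⊤⁆ from rfl, Subgroup.commutator_le]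
      intro a _ b _
      rw [MonoidHom.mem_ker, map_commutatorElement, commutatorElement_eq_one_iff_mul_comm]
      exact Subtype.ext (Subgroup.mem_center_iff.1 (ψ b).2 _)
    have hmem : (⟨o, ho⟩ : (commutator G : Subgroup G)) ∈ Subgroup.center (commutator G : Subgroup G) :=
      Subgroup.mem_center_iff.2 fun k => Subtype.ext (Subgroup.mem_center_iff.1 hoc k)
    have h1 : (⟨⟨o, ho⟩, hmem⟩ : Subgroup.center (commutator G : Subgroup G)) = 1 := by
      have h2 : ψ (isoO.symm (1, ⟨⟨o, ho⟩, hmem⟩)) = 1 := by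
        rw [← MonoidHom.mem_ker, hker']; exact Subgroup.mem_top _
      simpa [ψ] using h2
    exact congrArg (fun w : Subgroup.center (commutator G : Subgroup G) =>
      ((w : (commutator G : Subgroup G)) : G)) h1
  obtain ⟨e1⟩ := exists_mulEquiv_prod π hker hsurjO hinj
  obtain ⟨A, iA, iAf, ⟨e2⟩⟩ := exists_center_equiv hρ
  letI := Fintype.ofFinite (GaloisField 2 4)
  have eF : F ≃+* GaloisField 2 4 := FiniteField.ringEquivOfCardEq (by
    rw [hF, ← Nat.card_eq_fintype_card, GaloisField.card 2 4 (by norm_num)]; norm_num)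
  exact ⟨A, iA, iAf, ⟨e1.trans (MulEquiv.prodCongr (CfsgLib.ClassicalLinear.slCongr eF) e2)⟩⟩

/-- Degree `p - 2` below twenty-seven. -/
theorem sub_two_cases (hdeg : charDegree (χ : G → ℂ) = d)
    (hfaith : ∀ g : G, (χ : G → ℂ) g = (χ : G → ℂ) 1 → g = 1) (hd : d < 27) (hdp : d + 2 = p)
    (hp7 : 7 ≤ p) {P : Sylow p G} (hP : ¬ (P : Subgroup G).Normal) :
    p = 17 ∧ d = 15 ∧ ∃ (A : Type) (_ : CommGroup A) (_ : Finite A),
      Nonempty (G ≃* Matrix.SpecialLinearGroup (Fin 2) (GaloisField 2 4) × A) := by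
  classical
  obtain ⟨H, iH, iFt, ζ, Q, hG, hnn, hζ, hfaithH, hdH, hQ, hQn, ⟨iso⟩⟩ :=
    exists_exactPrime_model hdeg hfaith (by omega) hp7 hP
  obtain ⟨a, F, iFF, iFin, hpa, hFc, ⟨isoH⟩⟩ :=
    Cfsg.Agent.S4705.result p (by omega) Q hQ hQn ζ hζ hfaithH (by omega)
  have ha : a ≤ 4 := by
    by_contra h
    have : 2 ^ 5 ≤ 2 ^ a := Nat.pow_le_pow_right (by norm_num) (by omega)
    omega
  have h17 : p = 17 ∧ a = 4 := by
    have hpp := hp.out
    interval_cases a <;> norm_num at hpa <;> subst hpa <;>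
      first
        | exact ⟨rfl, rfl⟩
        | omega
        | exact absurd hpp (by norm_num)
  obtain ⟨h17, rfl⟩ := h17
  refine ⟨h17, by omega, ?_⟩
  let ψ : H →* Matrix.SpecialLinearGroup (Fin 2) F := (MonoidHom.fst _ _).comp isoH.toMonoidHom
  have hψs : Function.Surjective ψ := fun s => ⟨isoH.symm (s, 1), by simp [ψ]⟩
  have hle : ψ.ker ≤ Subgroup.center H := by
    intro k hk
    have h1 : (isoH k).1 = 1 := hk
    refine Subgroup.mem_center_iff.2 fun m => isoH.injective ?_
    rw [map_mul, map_mul]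
    refine Prod.ext ?_ ?_
    · rw [Prod.fst_mul, Prod.fst_mul, h1, mul_one, one_mul]
    · exact Subtype.ext (Subgroup.mem_center_iff.1 (isoH k).2.2 _)
  have hcardH : Nat.card H =
      Nat.card (Matrix.SpecialLinearGroup (Fin 2) F) * Nat.card (Subgroup.center H) := by
    rw [Nat.card_congr isoH.toEquiv, Nat.card_prod]
  have hψk : ψ.ker = Subgroup.center H := by
    refine Subgroup.eq_of_le_of_card_ge hle (le_of_eq ?_)
    have h := Subgroup.card_eq_card_quotient_mul_card_subgroup ψ.ker
    rw [Nat.card_congr (QuotientGroup.quotientKerEquivOfSurjective ψ hψs).toEquiv, hcardH] at h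
    exact Nat.eq_of_mul_eq_mul_left Nat.card_pos h
  let e : G ⧸ Subgroup.center G ≃* Matrix.SpecialLinearGroup (Fin 2) F :=
    iso.trans ((QuotientGroup.quotientMulEquivOfEq hψk.symm).trans
      (QuotientGroup.quotientKerEquivOfSurjective ψ hψs))
  refine seventeen hdeg hfaith (by omega) h17 hP (hFc.trans (by norm_num))
    (e.toMonoidHom.comp (QuotientGroup.mk' _))
    (e.surjective.comp (QuotientGroup.mk'_surjective _)) ?_
    fun h => hG.sq (hcardH ▸ h.mul_right _)
  ext g
  rw [MonoidHom.mem_ker, MonoidHom.comp_apply, MulEquiv.toMonoidHom_eq_coe, MonoidHom.coe_coe,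
    MulEquiv.map_eq_one_iff, QuotientGroup.mk'_apply, QuotientGroup.eq_one_iff]

end CfsgLib.OrderDegrees.Linear
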