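import Cfsg.Agent.Lib.Mathieu.Order7920.Five
import Cfsg.Agent.Lib.Mathieu.Order7920.Budget
import Cfsg.Agent.Lib.Golay.Simple
import Cfsg.Agent.Lib.OutMathieu.Outer

/-!
A group of order 7920 with the same numbers of elements of the various orders as `M11` is simple.
-/

set_option autoImplicit false
set_option linter.style.haveILetI false

namespace CfsgLib.OrderDegrees.M11NSE

open Subgroup CfsgLib.Mathieu.Order7920

/-- The numbers of elements of the orders that occur. -/
def nse (G : Type*) [Group G] : Set ℕ := {c : ℕ | 0 < c ∧ ∃ n : ℕ, c = Nat.card {g : G // orderOf g = n}}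

section Simple

variable {H : Type*} [Group H] [Finite H]

theorem classCard_cases (hM : Cfsg.IsM11 H) (x : H) (h5 : orderOf x ≠ 5) (h11 : orderOf x ≠ 11) (hx : x ≠ 1) :
    55 ∣ classCard x := by
  have hc : classCard x * Nat.card (centralizer ({x} : Set H)) = 7920 :=
    (classCard_mul x).trans hM.2
  have key : ∀ p : ℕ, p.Prime → (∀ a : H, orderOf a = p → centralizer ({a} : Set H) = zpowers a) →
      orderOf x ≠ p → ¬ p ∣ Nat.card (centralizer ({x} : Set H)) := by
    intro p hp hcen hxp hdvd
    have := Fact.mk hp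
    obtain ⟨a, ha⟩ := exists_prime_orderOf_dvd_card' p hdvd
    have ha' : orderOf (a : H) = p := by rw [orderOf_coe, ha]
    have hxa : x ∈ centralizer ({(a : H)} : Set H) :=
      mem_centralizer_singleton_iff.mpr (mem_centralizer_singleton_iff.mp a.2).symm
    rw [hcen _ ha'] at hxa
    rcases (Nat.dvd_prime hp).mp (ha' ▸ orderOf_dvd_of_mem_zpowers hxa) with h | h
    · exact hx (orderOf_eq_one_iff.mp h)
    · exact hxp h
  have n5 := key 5 (by norm_num) (fun a ha => centralizer_orderOf_five hM ha) h5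
  have n11 := key 11 (by norm_num) (fun a ha => centralizer_orderOf_eleven hM ha) h11
  have h1 : 5 ∣ classCard x * Nat.card (centralizer ({x} : Set H)) := hc ▸ by norm_num
  have h2 : 11 ∣ classCard x * Nat.card (centralizer ({x} : Set H)) := hc ▸ by norm_num
  exact (Nat.Coprime.mul_dvd_of_dvd_of_dvd (by norm_num : Nat.Coprime 5 11)
    (((by norm_num : Nat.Prime 5).dvd_mul.mp h1).resolve_right n5)
    (((by norm_num : Nat.Prime 11).dvd_mul.mp h2).resolve_right n11))

/-- A number of elements of one order in a simple group of order 7920. -/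
theorem nse_cases (hM : Cfsg.IsM11 H) {c : ℕ} (hc : c ∈ nse H) :
    c = 1 ∨ c = 1440 ∨ c = 1584 ∨ 55 ∣ c := by
  obtain ⟨hpos, n, rfl⟩ := hc
  by_cases h5 : n = 5
  · exact Or.inr (Or.inr (Or.inl (by rw [h5]; exact card_orderOf_five hM)))
  by_cases h11 : n = 11
  · exact Or.inr (Or.inl (by rw [h11]; exact card_orderOf_eleven hM))
  by_cases h1 : n = 1
  · subst h1
    refine Or.inl (Nat.card_eq_one_iff_unique.mpr ⟨⟨fun a b => Subtype.ext ?_⟩, ⟨⟨1, orderOf_one⟩⟩⟩)
    rw [orderOf_eq_one_iff.mp a.2, orderOf_eq_one_iff.mp b.2]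
  refine Or.inr (Or.inr (Or.inr ?_))
  classical
  have : Fintype H := Fintype.ofFinite H
  let s : Setoid {g : H // orderOf g = n} := (IsConj.setoid H).comap Subtype.val
  let q : {g : H // orderOf g = n} → Quotient s := Quotient.mk s
  rw [← Nat.card_congr (Equiv.sigmaFiberEquiv q), Nat.card_sigma]
  refine Finset.dvd_sum fun i _ => ?_
  obtain ⟨x, rfl⟩ := Quotient.exists_rep i
  have hcard : Nat.card {y // q y = Quotient.mk s x} = classCard (x : H) := by
    refine Nat.card_congr
      { toFun := fun y => ⟨(y.1 : H), (IsConj.symm (Quotient.exact y.2 : IsConj (y.1 : H) x))⟩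
        invFun := fun g => ⟨⟨g.1, ?_⟩, Quotient.sound (show IsConj (g.1 : H) x from IsConj.symm g.2)⟩
        left_inv := fun y => rfl
        right_inv := fun g => rfl }
    obtain ⟨c, hc⟩ := isConj_iff.mp g.2
    rw [← hc, show c * (x : H) * c⁻¹ = MulAut.conj c (x : H) from rfl, MulEquiv.orderOf_eq]
    exact x.2
  rw [hcard]
  refine classCard_cases hM _ (fun h => h5 (x.2.symm.trans h)) (fun h => h11 (x.2.symm.trans h)) fun h => h1 ?_
  rw [← x.2, h, orderOf_one]

end Simple

variable {G : Type*} [Group G] [Finite G]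

theorem card_sylow_facts (hcard : Nat.card G = 7920)
    (hval : ∀ c ∈ nse G, c = 1 ∨ c = 1440 ∨ c = 1584 ∨ 55 ∣ c) :
    Nat.card (Sylow 11 G) = 144 ∧ Nat.card (Sylow 5 G) = 396 := by
  have key : ∀ p m : ℕ, p.Prime → 7920 = p * m → ¬ p ∣ m → ∀ k, Nat.card (Sylow p G) = k →
      k ∈ m.divisors ∧ k % p = 1 ∧ k * (p - 1) ∈ nse G := by
    intro p m hp hn hm k hk
    have := Fact.mk hp
    have hG : Nat.card G = p * m := hcard.trans hn
    have hmod := card_sylow_modEq_one p G
    rw [hk, Nat.ModEq, Nat.mod_eq_of_lt hp.one_lt] at hmod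
    refine ⟨?_, hmod, ?_, p, ?_⟩
    · obtain ⟨P⟩ : Nonempty (Sylow p G) := inferInstance
      have hPc : Nat.card (P : Subgroup G) = p := by
        simpa using CfsgLib.SmallGroups.card_sylow_eq (a := 1) (m := m) (by rw [pow_one]; exact hG) hm P
      have := P.card_dvd_index
      have hi : (P : Subgroup G).index = m := by
        have := (P : Subgroup G).card_mul_index
        rw [hPc, hG] at this
        exact Nat.eq_of_mul_eq_mul_left hp.pos this
      rw [hi, hk] at this
      exact Nat.mem_divisors.mpr ⟨this, fun h => hm (h ▸ dvd_zero p)⟩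
    · exact Nat.mul_pos (Nat.pos_of_ne_zero (by rw [← hk]; exact Nat.card_pos.ne')) (Nat.sub_pos_of_lt hp.one_lt)
    · rw [card_orderOf_eq hG hm, hk]
  constructor
  · obtain ⟨hd, hmod, hc⟩ := key 11 720 (by norm_num) (by norm_num) (by norm_num) _ rfl
    have hv := hval _ hc
    generalize Nat.card (Sylow 11 G) = k at hd hmod hv
    have : ∀ k ∈ Nat.divisors 720, k % 11 = 1 →
        (k * 10 = 1 ∨ k * 10 = 1440 ∨ k * 10 = 1584 ∨ k * 10 % 55 = 0) → k = 144 := by decide +kernel
    exact this k hd hmod (hv.imp id (Or.imp id (Or.imp id (Nat.mod_eq_zero_of_dvd ·))))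
  · obtain ⟨hd, hmod, hc⟩ := key 5 1584 (by norm_num) (by norm_num) (by norm_num) _ rfl
    have hv := hval _ hc
    generalize Nat.card (Sylow 5 G) = k at hd hmod hv
    have : ∀ k ∈ Nat.divisors 1584, k % 5 = 1 →
        (k * 4 = 1 ∨ k * 4 = 1440 ∨ k * 4 = 1584 ∨ k * 4 % 55 = 0) → k = 396 := by decide +kernel
    exact this k hd hmod (hv.imp id (Or.imp id (Or.imp id (Nat.mod_eq_zero_of_dvd ·))))

theorem isM11_of_sylow (hcard : Nat.card G = 7920) (h11 : Nat.card (Sylow 11 G) = 144)
    (h5 : Nat.card (Sylow 5 G) = 396) : Cfsg.IsM11 G := by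
  have : Fact (Nat.Prime 11) := ⟨by norm_num⟩
  have : Fact (Nat.Prime 5) := ⟨by norm_num⟩
  obtain ⟨P⟩ : Nonempty (Sylow 11 G) := inferInstance
  have hPc : Nat.card (P : Subgroup G) = 11 := by
    simpa using CfsgLib.SmallGroups.card_sylow_eq (p := 11) (a := 1) (m := 720)
      (by rw [hcard]; norm_num) (by norm_num) P
  have hNP : Nat.card (normalizer ((P : Subgroup G) : Set G)) = 55 := by
    have := (normalizer ((P : Subgroup G) : Set G)).card_mul_index
    rw [show (normalizer ((P : Subgroup G) : Set G)).index = 144 from P.card_eq_index_normalizer.symm.trans h11,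
      hcard] at this
    omega
  -- no nontrivial normal subgroup has order prime to 11
  have hsmall : ∀ N : Subgroup G, N.Normal → ¬ 11 ∣ Nat.card N → N = ⊥ := by
    intro N hN hnd
    by_contra hne
    have hcop : Nat.Coprime 11 (Nat.card N) := ((by norm_num : Nat.Prime 11).coprime_iff_not_dvd).mpr hnd
    have hdvd : Nat.card N ∣ 7920 := hcard ▸ N.card_subgroup_dvd_card
    have hd720 : Nat.card N ∣ 720 := hcop.symm.dvd_of_dvd_mul_left (by norm_num; exact hdvd)
    have hq : ∀ q : ℕ, q.Prime → q ∣ Nat.card N → q = 5 := by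
      intro q hq hqN
      have := Fact.mk hq
      have := hN
      let act : (P : Subgroup G) →* MulAut N := (MulAut.conjNormal (H := N)).comp (P : Subgroup G).subtype
      letI : MulAction (P : Subgroup G) (Sylow q N) := MulAction.compHom (Sylow q N) act
      have hpg : IsPGroup 11 (P : Subgroup G) := P.2
      have hnd' : ¬ 11 ∣ Nat.card (Sylow q N) := fun h => hnd (by
        obtain ⟨Q⟩ : Nonempty (Sylow q N) := inferInstance
        exact h.trans (Q.card_dvd_index.trans (Q : Subgroup N).index_dvd_card))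
      obtain ⟨Q, hQ⟩ := hpg.nonempty_fixed_point_of_prime_not_dvd_card (Sylow q N) hnd'
      have hQfix : ∀ u ∈ (P : Subgroup G), ∀ y ∈ (Q : Subgroup N).map N.subtype,
          u * y * u⁻¹ ∈ (Q : Subgroup N).map N.subtype := by
        rintro u hu _ ⟨y, hy, rfl⟩
        refine ⟨MulAut.conjNormal u y, ?_, by simp⟩
        have h := hQ ⟨u, hu⟩
        have h' : act ⟨u, hu⟩ y ∈ ((act ⟨u, hu⟩ • Q : Sylow q N) : Subgroup N) := by
          rw [Sylow.pointwise_smul_def]
          exact Subgroup.smul_mem_pointwise_smul y (act ⟨u, hu⟩) _ hy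
        rw [show act ⟨u, hu⟩ • Q = Q from h] at h'
        exact h'
      set R := (Q : Subgroup N).map N.subtype with hR
      have hRc : Nat.card R = q ^ (Nat.card N).factorization q := by
        rw [hR, Subgroup.card_subtype, Q.card_eq_multiplicity]
      letI : MulAction (P : Subgroup G) R :=
        { smul := fun u y => ⟨u.1 * y.1 * u.1⁻¹, hQfix u.1 u.2 y.1 y.2⟩
          one_smul := fun y => Subtype.ext (show 1 * y.1 * (1 : G)⁻¹ = y.1 by simp)
          mul_smul := fun a b y => Subtype.ext
            (show a.1 * b.1 * y.1 * (a.1 * b.1)⁻¹ = a.1 * (b.1 * y.1 * b.1⁻¹) * a.1⁻¹ by group) }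
      have hmod := hpg.card_modEq_card_fixedPoints R
      let C : Subgroup G := R ⊓ centralizer ((P : Subgroup G) : Set G)
      have hfix : Nat.card (MulAction.fixedPoints (P : Subgroup G) R) = Nat.card C := by
        refine Nat.card_congr
          { toFun := fun y => ⟨y.1.1, y.1.2, fun u hu => ?_⟩
            invFun := fun y => ⟨⟨y.1, y.2.1⟩, fun u => Subtype.ext ?_⟩
            left_inv := fun y => rfl
            right_inv := fun y => rfl }
        · have h : u * (y.1 : R).1 * u⁻¹ = (y.1 : R).1 := congrArg Subtype.val (y.2 ⟨u, hu⟩)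
          exact mul_inv_eq_iff_eq_mul.mp h
        · show u.1 * y.1 * u.1⁻¹ = y.1
          exact mul_inv_eq_iff_eq_mul.mpr (mem_centralizer_iff.mp y.2.2 u.1 u.2)
      rw [hfix, hRc] at hmod
      have hC1 : Nat.card C ∣ q ^ (Nat.card N).factorization q :=
        hRc ▸ Subgroup.card_dvd_of_le inf_le_left
      obtain ⟨j, hj, hjC⟩ := (Nat.dvd_prime_pow hq).mp hC1
      have hC55 : Nat.card C ∣ 55 := hNP ▸ Subgroup.card_dvd_of_le
        (inf_le_right.trans (centralizer_le_normalizer _))
      have hf0 : 0 < (Nat.card N).factorization q := hq.factorization_pos_of_dvd Nat.card_pos.ne' hqN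
      have hqd : q ^ (Nat.card N).factorization q ∣ 720 := (Nat.ordProj_dvd _ _).trans hd720
      generalize hfq : (Nat.card N).factorization q = f at hmod hC1 hj hjC hf0 hqd
      rw [hjC] at hmod hC55
      have hqle : q ≤ 720 := Nat.le_of_dvd (by norm_num) ((dvd_pow_self q hf0.ne').trans hqd)
      have hf : f ≤ 9 := by
        by_contra hf
        have : 2 ^ 10 ≤ q ^ f := (Nat.pow_le_pow_right two_pos (by omega)).trans (Nat.pow_le_pow_left hq.two_le f)
        have := Nat.le_of_dvd (by norm_num) hqd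
        omega
      have hq235 : q = 2 ∨ q = 3 ∨ q = 5 := by
        have h : q ∣ 2 * (2 * (2 * (2 * (3 * (3 * 5))))) := by
          norm_num; exact (dvd_pow_self q hf0.ne').trans hqd
        simp only [hq.dvd_mul, Nat.prime_dvd_prime_iff_eq hq, Nat.prime_two, Nat.prime_three,
          (by norm_num : Nat.Prime 5)] at h
        omega
      have fin : ∀ q ∈ [2, 3, 5], ∀ f < 10, ∀ j ≤ f, 0 < f → q ^ f ∣ 720 → q ^ j ∣ 55 →
          q ^ f % 11 = q ^ j % 11 → q = 5 := by decide +kernel
      exact fin q (by rcases hq235 with h | h | h <;> simp [h]) f (by omega) j hj hf0 hqd hC55 hmod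
    obtain ⟨f, hf⟩ : ∃ f, Nat.card N = 5 ^ f :=
      ⟨_, Nat.eq_prime_pow_of_unique_prime_dvd Nat.card_pos.ne' fun {q} hq1 hq2 => hq q hq1 hq2⟩
    obtain ⟨S, hS⟩ := (IsPGroup.of_card hf).exists_le_sylow
    have hSc : Nat.card (S : Subgroup G) = 5 := by
      simpa using CfsgLib.SmallGroups.card_sylow_eq (p := 5) (a := 1) (m := 1584)
        (by rw [hcard]; norm_num) (by norm_num) S
    rcases (Nat.dvd_prime (by norm_num : Nat.Prime 5)).mp (hSc ▸ Subgroup.card_dvd_of_le hS) with h | h
    · exact hne (Subgroup.card_eq_one.mp h)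
    · have hNS : N = S := Subgroup.eq_of_le_of_card_ge hS (by rw [hSc, h])
      have : (S : Subgroup G).Normal := hNS ▸ hN
      have := (Sylow.unique_of_normal S this).instSubsingleton
      rw [Nat.card_of_subsingleton (S : Sylow 5 G)] at h5
      norm_num at h5
  have hnt : Nontrivial G := Finite.one_lt_card_iff_nontrivial.mp (by rw [hcard]; norm_num)
  refine ⟨⟨fun N hN => ?_⟩, hcard⟩
  by_cases h11N : 11 ∣ Nat.card N
  swap
  · exact Or.inl (hsmall N hN h11N)
  right
  have hall : ∀ Q : Sylow 11 G, (Q : Subgroup G) ≤ N := by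
    intro Q
    obtain ⟨a, ha⟩ := exists_prime_orderOf_dvd_card' 11 h11N
    have ha' : orderOf (a : G) = 11 := by rw [orderOf_coe, ha]
    obtain ⟨R, hR⟩ := (IsPGroup.of_card (p := 11) (n := 1)
      (by rw [Nat.card_zpowers, ha', pow_one] : Nat.card (zpowers (a : G)) = 11 ^ 1)).exists_le_sylow
    have hRc : Nat.card (R : Subgroup G) = 11 := by
      simpa using CfsgLib.SmallGroups.card_sylow_eq (p := 11) (a := 1) (m := 720)
        (by rw [hcard]; norm_num) (by norm_num) R
    have hRN : (R : Subgroup G) ≤ N := by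
      rw [← Subgroup.eq_of_le_of_card_ge hR (by rw [hRc, Nat.card_zpowers, ha'])]
      exact zpowers_le.mpr a.2
    obtain ⟨g, rfl⟩ := MulAction.exists_smul_eq G R Q
    intro y hy
    rw [Sylow.coe_subgroup_smul, Subgroup.mem_pointwise_smul_iff_inv_smul_mem, ← map_inv] at hy
    have := hN.conj_mem _ (hRN hy) g
    simpa [mul_assoc] using this
  let PN : Sylow 11 N := P.subtype (hall P)
  have hPN : Nat.card (PN : Subgroup N) = 11 :=
    (Nat.card_congr (Subgroup.subgroupOfEquivOfLe (hall P)).toEquiv).trans hPc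
  have hN144 : Nat.card (Sylow 11 N) = 144 := by
    rw [← h11]
    exact Nat.card_congr (Equiv.ofBijective (fun Q : Sylow 11 G => Q.subtype (hall Q))
      ⟨fun Q R h => Sylow.subtype_injective (hP := hall Q) (hQ := hall R) h, fun Q => by
        obtain ⟨g, hg⟩ := MulAction.exists_smul_eq N (P.subtype (hall P)) Q
        exact ⟨g • P, by rw [← hg, Sylow.smul_subtype]⟩⟩).symm
  have hidx := (normalizer ((PN : Subgroup N) : Set N)).card_mul_index
  rw [show (normalizer ((PN : Subgroup N) : Set N)).index = 144 from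
    PN.card_eq_index_normalizer.symm.trans hN144] at hidx
  have h11n : 11 ∣ Nat.card (normalizer ((PN : Subgroup N) : Set N)) :=
    hPN.symm.dvd.trans (Subgroup.card_dvd_of_le (le_normalizer (H := (PN : Subgroup N))))
  have hdvd : Nat.card N ∣ 7920 := hcard ▸ N.card_subgroup_dvd_card
  have hcases : Nat.card (normalizer ((PN : Subgroup N) : Set N)) = 11 ∨
      Nat.card (normalizer ((PN : Subgroup N) : Set N)) = 55 := by
    rw [← hidx] at hdvd
    have h55 : Nat.card (normalizer ((PN : Subgroup N) : Set N)) ∣ 55 :=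
      Nat.dvd_of_mul_dvd_mul_right (by norm_num : 0 < 144) (by norm_num; exact hdvd)
    have key : ∀ k ∈ Nat.divisors 55, 11 ∣ k → k = 11 ∨ k = 55 := by decide +kernel
    exact key _ (Nat.mem_divisors.mpr ⟨h55, by norm_num⟩) h11n
  rcases hcases with hk | hk
  · exfalso
    have hnorm : normalizer ((PN : Subgroup N) : Set N) ≤ centralizer ((PN : Subgroup N) : Set N) := by
      rw [← Subgroup.eq_of_le_of_card_ge (le_normalizer (H := (PN : Subgroup N))) (by rw [hk, hPN])]
      have : IsCyclic (PN : Subgroup N) := isCyclic_of_prime_card hPN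
      exact Subgroup.le_centralizer _
    have hcompl := MonoidHom.ker_transferSylow_isComplement' PN hnorm
    set K := (MonoidHom.transferSylow PN hnorm).ker with hK
    have hKc : Nat.card K = 144 := by
      have := hcompl.card_mul_card
      rw [hPN, ← hidx, hk] at this
      omega
    have : K.Characteristic := by
      refine Subgroup.characteristic_iff_comap_eq.mpr fun φ => ?_
      have hKn : K.Normal := inferInstance
      refine Subgroup.eq_of_le_of_card_ge ?_
        (Nat.card_congr (φ.toEquiv.subtypeEquiv (p := fun y => y ∈ K.comap φ.toMonoidHom)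
          (q := fun y => y ∈ K) fun y => Iff.rfl)).ge
      intro y hy
      have hy' : φ y ∈ K := hy
      by_contra hyK
      have hord : orderOf (QuotientGroup.mk' K y) ∣ 11 := by
        have := orderOf_dvd_natCard (QuotientGroup.mk' K y)
        rwa [← Subgroup.index_eq_card, show K.index = 11 by
          have := K.card_mul_index
          rw [hKc, ← hidx, hk] at this
          omega] at this
      have hord2 : orderOf (QuotientGroup.mk' K y) ∣ 144 := by
        refine (orderOf_map_dvd _ y).trans ?_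
        rw [← MulEquiv.orderOf_eq φ y, ← orderOf_mk (φ y) hy', ← hKc]
        exact orderOf_dvd_natCard _
      have h1 : orderOf (QuotientGroup.mk' K y) = 1 :=
        Nat.eq_one_of_dvd_coprimes (by norm_num : Nat.Coprime 11 144) hord hord2
      exact hyK ((QuotientGroup.eq_one_iff y).mp (orderOf_eq_one_iff.mp h1))
    have := hN
    have hmap : (K.map N.subtype).Normal := inferInstance
    have h0 := hsmall _ hmap (by rw [Subgroup.card_subtype, hKc]; norm_num)
    rw [← Subgroup.card_eq_one, Subgroup.card_subtype, hKc] at h0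
    norm_num at h0
  · refine Subgroup.eq_top_of_card_eq _ ?_
    rw [← hidx, hk, hcard]

theorem isM11_sporM11 : Cfsg.IsM11 ↥Cfsg.Spor.M11 := by
  have hmem : CfsgLib.Golay.pt 0 ∈ CfsgLib.Golay.unmask CfsgLib.Golay.dodMask := by decide +kernel
  have hsimp := CfsgLib.Golay.isSimpleGroup_dodecad_point CfsgLib.Golay.dodMask_mem hmem
  have hcard := CfsgLib.Golay.card_stabilizer_dodecad_inf_point CfsgLib.Golay.dodMask_mem hmem
  rw [CfsgLib.Golay.stabilizer_stdDodecadPoint] at hsimp hcard
  rw [CfsgLib.OutMathieu.M11_eq_stabK]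
  have e := Subgroup.subgroupOfEquivOfLe (CfsgLib.Golay.stabK_le_M24 [1, CfsgLib.Golay.dodMask])
  exact ⟨MulEquiv.isSimpleGroup e.symm, (Nat.card_congr e.toEquiv).symm.trans hcard⟩

/-- A group of order 7920 with the nse of `M11` is simple. -/
theorem isM11_of_nse (hcard : Nat.card G = Nat.card ↥Cfsg.Spor.M11) (h : nse G = nse ↥Cfsg.Spor.M11) :
    Cfsg.IsM11 G := by
  have hc := hcard.trans isM11_sporM11.2
  obtain ⟨h11, h5⟩ := card_sylow_facts hc fun c hc' => nse_cases isM11_sporM11 (h ▸ hc')
  exact isM11_of_sylow hc h11 h5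

end CfsgLib.OrderDegrees.M11NSE
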