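import Cfsg.Agent.Lib.OrderDegrees.UpperMain
import Cfsg.Agent.Lib.ZerosCodegree.PowerTwist

/-!
# The principal sets and their invariance under the power maps

In a group with a faithful character of degree below `p - 1`: the characters meeting the trivial
central character, and the power maps that fix the sections of an element of order `p`.
-/

set_option autoImplicit false
set_option linter.style.haveILetI false
set_option linter.unusedSectionVars false

namespace CfsgLib.OrderDegrees.Nineteen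

open Cfsg CfsgLib.CharTheory CfsgLib.Blocks CfsgLib.DefectOne CfsgLib.SmallGroups
open CfsgLib.SmallGroups.SmallDegree CfsgLib.SmallGroups.QuasiSimple Finset
open CfsgLib.ZerosCodegree (powTwist powTwist_apply isIrrCharacter_powTwist)

open scoped ComplexConjugate Classical

variable {G : Type*} [Group G] [Fintype G] {p : ℕ} [hp : Fact p.Prime] {S : Sect G p}
  {ψ : G → ℂ}

theorem linIrr_one (S : Sect G p) : linIrr (1 : S.V →* ℂˣ) = trivIrr S.V :=
  Subtype.ext (funext fun v => by rw [linIrr_apply, trivIrr_apply, MonoidHom.one_apply, Units.val_one])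

theorem hasCentral_one {f : G → ℂ} :
    HasCentral S (1 : S.V →* ℂˣ) f ↔ ∀ g (v : S.V), f (g * v) = f g := by
  simp [HasCentral]

/-- The twist of an irreducible character by a power map. -/
noncomputable def tw (k : ℕ) (hk : k.Coprime (Nat.card G)) (χ : IrrCharacter G) : IrrCharacter G :=
  ⟨powTwist k χ, isIrrCharacter_powTwist hk χ.2⟩

theorem tw_apply {k : ℕ} (hk : k.Coprime (Nat.card G)) (χ : IrrCharacter G) (g : G) :
    (tw k hk χ : G → ℂ) g = (χ : G → ℂ) (g ^ k) := rfl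

theorem tw_injective {k : ℕ} (hk : k.Coprime (Nat.card G)) : Function.Injective (tw k hk) :=
  fun a b hab => Subtype.ext (funext fun g => by
    obtain ⟨y, rfl⟩ := (powCoprime hk.symm).surjective g
    exact congrArg (fun χ : IrrCharacter G => (χ : G → ℂ) y) hab)

theorem charDegree_tw {k : ℕ} (hk : k.Coprime (Nat.card G)) (χ : IrrCharacter G) :
    charDegree (tw k hk χ : G → ℂ) = charDegree (χ : G → ℂ) :=
  CfsgLib.ZerosCodegree.charDegree_powTwist k _

/-- The exponents fixing the sections. -/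
def FixExp (S : Sect G p) (k : ℕ) : Prop :=
  k.Coprime (Nat.card G) ∧ S.u ^ k = S.u ∧ ∀ v : S.V, (v : G) ^ k = v

theorem FixExp.apply_pow {k : ℕ} (hk : FixExp S k) (i : ℕ) : (S.u ^ i) ^ k = S.u ^ i := by
  rw [← pow_mul, mul_comm, pow_mul, hk.2.1]

theorem FixExp.hasCentral {k : ℕ} (hk : FixExp S k) (hc : ∀ (v : S.V) (x : G), (v : G) * x = x * (v : G))
    {φ : S.V →* ℂˣ} {f : G → ℂ} (hf : HasCentral S φ f) : HasCentral S φ (powTwist k f) := fun g v => by
  rw [powTwist_apply, powTwist_apply, (show Commute g (v : G) from (hc v g).symm).mul_pow, hk.2.2, hf]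

/-- A fixing exponent with prescribed effect on an element of order prime to `p |V|`. -/
theorem exists_fixExp (hG : ExactPrime G p) (S : Sect G p) {w : G} {j : ℕ}
    (hw : (orderOf w).Coprime (p * Nat.card S.V)) (hj : j.Coprime (orderOf w)) :
    ∃ k, FixExp S k ∧ w ^ k = w ^ j := by
  haveI : NeZero (Nat.card G) := ⟨Nat.card_pos.ne'⟩
  have hpc : Nat.Coprime p (Nat.card S.V) := hG.prime.coprime_iff_not_dvd.2 S.not_dvd_card
  have hm : orderOf w * (p * Nat.card S.V) ∣ Nat.card G :=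
    hw.mul_dvd_of_dvd_of_dvd (orderOf_dvd_natCard w)
      (hpc.mul_dvd_of_dvd_of_dvd hG.dvd (Subgroup.card_subgroup_dvd_card _))
  obtain ⟨r, hr1, hr2⟩ := Nat.chineseRemainder hw j 1
  have hr : r.Coprime (orderOf w * (p * Nat.card S.V)) := by
    refine Nat.Coprime.mul_right ?_ ?_
    · rw [Nat.Coprime, Nat.ModEq.gcd_eq hr1]; exact hj
    · rw [Nat.Coprime, Nat.ModEq.gcd_eq hr2, Nat.gcd_one_left]
  obtain ⟨z, hz⟩ := ZMod.unitsMap_surjective hm (ZMod.unitOfCoprime r hr)
  set k := (z : ZMod (Nat.card G)).val with hk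
  have hkm : k ≡ r [MOD orderOf w * (p * Nat.card S.V)] := by
    rw [← ZMod.natCast_eq_natCast_iff, hk, ← ZMod.coe_unitOfCoprime r hr, ← hz, ZMod.unitsMap_val,
      ZMod.natCast_val]
  have h2 : k ≡ 1 [MOD p * Nat.card S.V] := (hkm.of_dvd (dvd_mul_left _ _)).trans hr2
  refine ⟨k, ⟨ZMod.val_coe_unit_coprime z, ?_, fun v => ?_⟩,
    pow_eq_pow_iff_modEq.2 ((hkm.of_dvd (dvd_mul_right _ _)).trans hr1)⟩
  · conv_rhs => rw [← pow_one S.u]
    rw [pow_eq_pow_iff_modEq, S.ord]
    exact h2.of_dvd (dvd_mul_right _ _)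
  · conv_rhs => rw [← pow_one (v : G)]
    refine pow_eq_pow_iff_modEq.2 (h2.of_dvd (dvd_mul_of_dvd_right ?_ _))
    rw [Subgroup.orderOf_coe]
    exact orderOf_dvd_natCard v

variable (h : Hyp S ψ)
include h

/-- A constituent of the principal set has trivial central character. -/
theorem hasCentral_of_rowT {x : IrrCharacter G} (hx : rowT h.exact S x (trivIrr S.V) ≠ 0) :
    HasCentral S (1 : S.V →* ℂˣ) (x : G → ℂ) := by
  have hz : ∀ v : S.V, ∃ c : ℂˣ, ∀ g, (x : G → ℂ) (g * v) = (c : ℂ) * (x : G → ℂ) g := fun v => by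
    obtain ⟨c, hc1, hcv, -⟩ := exists_central_apply x.2 (h.center_eq.ge v.2)
    exact ⟨Units.mk0 c (fun h0 => by rw [h0, norm_zero] at hc1; exact zero_ne_one hc1), hcv⟩
  choose μ hμ using hz
  have h10 : (x : G → ℂ) 1 ≠ 0 := apply_one_ne_zero_of_isIrr x.2
  have hμmul : ∀ v w : S.V, μ (v * w) = μ v * μ w := fun v w => Units.ext (mul_right_cancel₀ h10 (by
    rw [Units.val_mul, ← hμ, one_mul, Subgroup.coe_mul, hμ w, ← one_mul (v : G), hμ v]
    ring))
  have hμc : HasCentral S (MonoidHom.mk' μ hμmul) (x : G → ℂ) := fun g v => hμ v g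
  have hμ1 : MonoidHom.mk' μ hμmul = 1 := by
    have h1 := eq_linIrr_of_rowT_ne h.exact hμc hx
    refine MonoidHom.ext fun v => Units.ext ?_
    rw [← linIrr_apply (MonoidHom.mk' μ hμmul), ← h1, trivIrr_apply, MonoidHom.one_apply, Units.val_one]
  rwa [hμ1] at hμc

theorem rowT_of_val {φ : S.V →* ℂˣ} {y : IrrCharacter G} (hy : HasCentral S φ (y : G → ℂ))
    (hne : ∃ k : (ZMod p)ˣ, (y : G → ℂ) (S.u ^ (k : ZMod p).val) ≠ 0) :
    rowT h.exact S y (linIrr φ) ≠ 0 := by
  obtain ⟨M, hM⟩ := exists_isPModular_of_prime h.exact.prime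
  haveI := isPrime_of_isPModular hM
  obtain ⟨k, hk⟩ := hne
  exact (count h.exact S hM (linIrr φ)).1 y ⟨k, by rw [rowU, row_linIrr (f := (y : G → ℂ)) hy]; exact hk⟩

theorem val_of_fixed {φ : S.V →* ℂˣ} {y : IrrCharacter G} (hy : HasCentral S φ (y : G → ℂ))
    (hfix : galStab h.exact y = p - 1) (k : (ZMod p)ˣ) :
    (y : G → ℂ) (S.u ^ (k : ZMod p).val) = rowT h.exact S y (linIrr φ) := by
  rw [← row_linIrr (f := (y : G → ℂ)) hy]
  exact rowU_eq_rowT h.exact S hfix _ k

/-- Two characters with the same central character and non-constant values at the powers of `u`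
agree on the regular elements. -/
theorem reg_eq {φ : S.V →* ℂˣ} {x y : IrrCharacter G} (hx : HasCentral S φ (x : G → ℂ))
    (hy : HasCentral S φ (y : G → ℂ))
    (hxn : ∀ c : ℂ, ∃ k : (ZMod p)ˣ, (x : G → ℂ) (S.u ^ (k : ZMod p).val) ≠ c)
    (hyn : ∀ c : ℂ, ∃ k : (ZMod p)ˣ, (y : G → ℂ) (S.u ^ (k : ZMod p).val) ≠ c)
    {g : G} (hg : ¬ p ∣ orderOf g) : (x : G → ℂ) g = (y : G → ℂ) g := by
  obtain ⟨M, hM⟩ := exists_isPModular_of_prime h.exact.prime
  haveI := isPrime_of_isPModular hM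
  obtain ⟨-, θ, -, -, hdich, -⟩ := count h.exact S hM (linIrr φ)
  have key : ∀ z : IrrCharacter G, HasCentral S φ (z : G → ℂ) →
      (∀ c : ℂ, ∃ k : (ZMod p)ˣ, (z : G → ℂ) (S.u ^ (k : ZMod p).val) ≠ c) →
      (z : G → ℂ) g = (θ : G → ℂ) g := fun z hz hzn => by
    rcases hdich z (rowT_of_val h hz (hzn 0)) with hm | hf
    · obtain ⟨l, rfl⟩ := (mem_galOrb h.exact).1 hm
      exact gal_regular h.exact l θ hg
    · obtain ⟨k, hk⟩ := hzn (rowT h.exact S z (linIrr φ))
      exact absurd (val_of_fixed h hz hf k) hk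
  rw [key x hx hxn, key y hy hyn]

theorem fam_not_const {φ : S.V →* ℂˣ} {T : ℤ} (X : Fam S φ T) {a : ZMod p} (ha : a ≠ 0)
    (hlt : rowE S (trivIrr S.V) < p - 1) (c : ℂ) :
    ∃ k : (ZMod p)ˣ, (X.x a : G → ℂ) (S.u ^ (k : ZMod p).val) ≠ c := by
  by_contra hno
  push Not at hno
  have hG := h.exact
  obtain ⟨b, hb, hb'⟩ : ∃ b, b ≠ 0 ∧ b ∉ orb (eGroup S (trivIrr S.V)) a := by
    by_contra h'
    push Not at h'
    have h5 := card_le_card (show (univ : Finset (ZMod p)).erase 0 ⊆ orb (eGroup S (trivIrr S.V)) a from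
      fun b hb => h' b (ne_of_mem_erase hb))
    rw [card_orb ha, card_ne_zero_univ] at h5
    have : rowE S (trivIrr S.V) = Nat.card (eGroup S (trivIrr S.V)) := rfl
    omega
  have hpm : ∀ z : ZMod p, z ≠ 0 → pm S (X.x a : G → ℂ) z =
      (p : ℂ)⁻¹ * ((X.x a : G → ℂ) 1 - c) := fun z hz => by
    have e : ∀ i : ZMod p, (X.x a : G → ℂ) (S.u ^ i.val) * zp (-(z * i)) =
        c * zp ((-z) * i) + if i = 0 then (X.x a : G → ℂ) 1 - c else 0 := fun i => by
      by_cases hi : i = 0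
      · subst hi; simp [zp_zero]
      · have := hno (Units.mk0 i hi)
        rw [Units.val_mk0] at this
        rw [if_neg hi, this, neg_mul, add_zero]
    rw [pm, sum_congr rfl fun i _ => e i, sum_add_distrib, ← mul_sum, sum_zp hG,
      if_neg (neg_ne_zero.2 hz), sum_ite_eq', if_pos (mem_univ _)]
    ring
  have h1 := X.pm_eq hG S ha a
  have h2 := X.pm_eq hG S ha b
  rw [hpm a ha, if_pos (mem_orb_self a)] at h1
  rw [hpm b hb, if_neg hb'] at h2
  have hT : (T : ℂ) ≠ 0 := by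
    rw [Int.cast_ne_zero]
    intro h0
    simpa [h0] using X.T_sq
  exact hT (by linear_combination h1 - h2)

/-- The families are fixed by the fixing exponents. -/
theorem tw_fam {φ : S.V →* ℂˣ} {T : ℤ} (X : Fam S φ T) (hlt : rowE S (trivIrr S.V) < p - 1)
    {k : ℕ} (hk : FixExp S k) {a : ZMod p} (ha : a ≠ 0) : tw k hk.1 (X.x a) = X.x a := by
  have hc := h.cent
  have hcen : HasCentral S φ (tw k hk.1 (X.x a) : G → ℂ) := hk.hasCentral hc (X.central a)
  have hval : ∀ i : ℕ, (tw k hk.1 (X.x a) : G → ℂ) (S.u ^ i) = (X.x a : G → ℂ) (S.u ^ i) :=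
    fun i => by rw [tw_apply, hk.apply_pow]
  refine Subtype.ext (ext_sect h.exact S hc (IsIrrCharacter.isClassFunction (tw k hk.1 (X.x a)).2)
    (IsIrrCharacter.isClassFunction (X.x a).2) hcen (X.central a) (fun g hg => ?_) fun i => hval _)
  refine reg_eq h hcen (X.central a) (fun c => ?_) (fun c => fam_not_const h X ha hlt c) hg
  obtain ⟨i, hi⟩ := fam_not_const h X ha hlt c
  exact ⟨i, by rwa [hval]⟩

end CfsgLib.OrderDegrees.Nineteen
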