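import Cfsg.Agent.Lib.OrderDegrees.NineteenBasic

/-!
# The principal set for the degree `16` at the prime `19`

The exceptional family of the trivial central character has six members of degree `19 L + 3`
with sign `-1`, and there are two further non-trivial characters in its set.
-/

set_option autoImplicit false
set_option linter.style.haveILetI false
set_option linter.unusedSectionVars false

namespace CfsgLib.OrderDegrees.Nineteen

open Cfsg CfsgLib.CharTheory CfsgLib.Blocks CfsgLib.DefectOne CfsgLib.SmallGroups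
open CfsgLib.SmallGroups.SmallDegree CfsgLib.SmallGroups.QuasiSimple Finset
open CfsgLib.ZerosCodegree (powTwist powTwist_apply)

open scoped ComplexConjugate Classical

/-- The arithmetic of the subgroup of order `3` modulo `19`. -/
theorem facts19 : (7 : ZMod 19) ^ 3 = 1 ^ 3 ∧ ((8 : ZMod 19) - 1 * 1) ^ 3 = 1 ^ 3 ∧
    ((8 : ZMod 19) - 7 * 1) ^ 3 = 1 ^ 3 ∧ (1 : ZMod 19) ≠ 7 ∧ (8 : ZMod 19) ≠ 0 := by decide

variable {G : Type*} [Group G] [Fintype G] {p : ℕ} [hp : Fact p.Prime] {S : Sect G p}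
  {ψ : G → ℂ} (h : Hyp S ψ) (hp19 : p = 19) (he : rowE S (trivIrr S.V) = 3)

include h hp19 he

theorem two_le_circ : 2 ≤ circ (eGroup S (trivIrr S.V)) 1 1 8 := by
  subst hp19
  set H := eGroup S (trivIrr S.V) with hH
  have hcard : Nat.card H = 3 := he
  have h7 : (7 : ZMod 19) ∈ orb H 1 := by
    rw [Upper.mem_orb_iff_pow one_ne_zero, hcard]; exact facts19.1
  obtain ⟨m, hm⟩ := mem_orb.1 h7
  rw [mul_one] at hm
  refine one_lt_card.2 ⟨1, mem_filter.2 ⟨mem_univ _, ?_⟩, m, mem_filter.2 ⟨mem_univ _, ?_⟩, fun h1 => ?_⟩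
  · rw [OneMemClass.coe_one, Units.val_one, Upper.mem_orb_iff_pow one_ne_zero, hcard]; exact facts19.2.1
  · rw [hm, Upper.mem_orb_iff_pow one_ne_zero, hcard]; exact facts19.2.2.1
  · rw [← h1, OneMemClass.coe_one, Units.val_one] at hm
    exact facts19.2.2.2.1 hm

/-- The two families. -/
theorem exists_families (hD : charDegree ψ = 16) :
    ∃ (X₁ : Fam S h.lamHom 1) (X₀ : Fam S (1 : S.V →* ℂˣ) (-1)) (L : ℕ), 1 ≤ L ∧
      (∀ a, charDegree (X₁.x a : G → ℂ) = 16) ∧
      charDegree (X₀.x 1 : G → ℂ) = 19 * L + 3 ∧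
      ∀ a b z : ZMod p, a ≠ 0 → b ≠ 0 → z ≠ 0 →
        classInner (fun g => (X₁.x a : G → ℂ) g * conj ((X₁.x (-b) : G → ℂ) g)) (X₀.x z : G → ℂ) =
          (circ (eGroup S (trivIrr S.V)) a b z : ℂ) := by
  have hG := h.exact
  have hc := h.cent
  obtain ⟨t, s, X₁, hX₁, hpt, -, hcase, -⟩ := Upper.exists_basic h
  have ht6 : t = 6 := by rw [he, hp19] at hpt; omega
  subst ht6
  rcases hcase with ⟨-, ht, -⟩ | ⟨rfl, -⟩
  · omega
  obtain ⟨E, hE⟩ := exists_comp hG S hc
  have hd₁ : (charDegree (X₁.x 1 : G → ℂ) : ℤ) = (p : ℤ) - rowE S (trivIrr S.V) := by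
    rw [hX₁, hD, he, show (p : ℤ) = 19 from mod_cast hp19]; norm_num
  have hirr : IsCharacter G (X₁.x 1 : G → ℂ) := IsIrrCharacter.isCharacter (X₁.x 1).2
  have hpm1 : pm S (X₁.x 1 : G → ℂ) 0 = 1 := by
    rw [X₁.pm_eq hG S one_ne_zero, if_neg fun h' => ne_zero_of_mem_orb one_ne_zero h' rfl, sub_zero,
      hX₁, hD, he, show (p : ℂ) = 19 from mod_cast hp19]
    norm_num
  obtain ⟨α, hα, hαv⟩ := hE.exists_alpha hG S hc hirr (X₁.central 1) hpm1
  have hv : ∀ a (y : E), (y : G) ∉ S.V → (X₁.x a : G → ℂ) y = (α y : ℂ) := fun a y hy => by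
    rw [X₁.reg a 1 _ (hE.reg _ y.2), hαv y hy]
  obtain ⟨T₀, hT₀, X₀, θ₀, hθ₀c, hX₀⟩ := Upper.exists_family h (1 : S.V →* ℂˣ)
  obtain ⟨L, hL, -⟩ := Upper.deg_spec hG hc hE X₀
  have hpZ : (p : ℤ) = 19 := by exact_mod_cast hp19
  rw [he, hpZ] at hL
  have hne : charDegree (X₀.x 1 : G → ℂ) ≠ 0 := charDegree_ne_zero' _
  have hker : ∀ z ∈ Subgroup.center G, (X₀.x 1 : G → ℂ) z = (X₀.x 1 : G → ℂ) 1 := fun z hz => by
    have h' := X₀.central 1 1 ⟨z, h.center_eq.le hz⟩
    rwa [one_mul, MonoidHom.one_apply, Units.val_one, one_mul] at h'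
  have hL1 : 1 ≤ L := by
    by_contra h0
    obtain rfl : L = 0 := by omega
    rcases hT₀ with rfl | rfl
    · simp at hL
    · simp at hL
      have := h.small_trivial hker (by omega) (by omega)
      omega
  obtain ⟨K, hcirc, hmult, hN0, hN1, -⟩ := Upper.prod_bounds hG hc hE (Upper.isProd_mul_conj X₁ hd₁) X₀
    (by rw [he, hpZ]; exact hL) hL1 hpt (by norm_num) (γ := (1 : E →* ℂˣ)) (fun v => rfl)
    fun b hb y hy => by
      simp only [hv 1 y hy, hv (-b) y hy, MonoidHom.one_apply, Units.val_one]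
      exact mul_conj_linear α y
  rw [he] at hN0 hN1
  rcases hT₀ with rfl | rfl
  · exfalso
    have hK : K = 1 := by push_cast at hN0 hN1; omega
    have h8 : (8 : ZMod p) ≠ 0 := by subst hp19; exact facts19.2.2.2.2
    have h2 := hcirc 1 8 one_ne_zero h8
    have := two_le_circ h hp19 he
    omega
  have hK : K = 0 := by push_cast at hN0 hN1; omega
  refine ⟨X₁, X₀, L, hL1, fun a => by rw [hX₁, hD], ?_, fun a b z ha hb hz => ?_⟩
  · push_cast at hL; omega
  · obtain ⟨m, hm, hmK⟩ := hmult a b z ha hb hz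
    rw [hm]
    have : m = circ (eGroup S (trivIrr S.V)) a b z := by omega
    rw [this]

/-- A non-trivial fixed member of the principal set, with its sign. -/
structure Fixed (S : Sect G p) (x : IrrCharacter G) (ε : ℤ) : Prop where
  sign : ε = 1 ∨ ε = -1
  central : HasCentral S (1 : S.V →* ℂˣ) (x : G → ℂ)
  val : ∀ k : (ZMod p)ˣ, (x : G → ℂ) (S.u ^ (k : ZMod p).val) = ε
  modEq : (charDegree (x : G → ℂ) : ℤ) ≡ ε [ZMOD p]
  large : p - 1 ≤ charDegree (x : G → ℂ)
  ne_triv : x ≠ trivIrr G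

/-- The members of the principal set. -/
theorem exists_principal (X₀ : Fam S (1 : S.V →* ℂˣ) (-1)) :
    ∃ (x y : IrrCharacter G) (εx εy : ℤ), Fixed S x εx ∧ Fixed S y εy ∧ x ≠ y ∧
      (∀ χ : IrrCharacter G, rowT h.exact S χ (trivIrr S.V) ≠ 0 →
        χ = trivIrr G ∨ χ = x ∨ χ = y ∨ ∃ z, z ≠ 0 ∧ X₀.x z = χ) ∧
      ∀ g, ¬ p ∣ orderOf g → (X₀.x 1 : G → ℂ) g =
        1 + εx * (x : G → ℂ) g + εy * (y : G → ℂ) g := by
  have hG := h.exact
  have hc := h.cent
  obtain ⟨M, hM⟩ := exists_isPModular_of_prime hG.prime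
  haveI := isPrime_of_isPModular hM
  haveI := Fintype.ofFinite (IrrCharacter G)
  have hlt : rowE S (trivIrr S.V) < p - 1 := by omega
  obtain ⟨θ, hθ, hθe, hsub, hfix, hYc, -, hFc⟩ := exists_exceptional hG S hM (trivIrr S.V)
  -- the members of the family
  have hmemY : ∀ z, z ≠ 0 → X₀.x z ∈ galOrb hG θ := fun z hz => by
    have hrow := rowT_of_val h (X₀.central z) (fam_not_const h X₀ hz hlt 0)
    rw [linIrr_one] at hrow
    by_contra hno
    obtain ⟨k, hk⟩ := fam_not_const h X₀ hz hlt (rowT hG S (X₀.x z) (linIrr 1))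
    exact hk (val_of_fixed h (X₀.central z) (hfix _ hrow hno) k)
  have hY : galOrb hG θ = ((univ : Finset (ZMod p)).erase 0).image X₀.x := by
    refine (eq_of_subset_of_card_le (image_subset_iff.2 fun z hz => hmemY z (ne_of_mem_erase hz)) ?_).symm
    have hcount := card_eq_sum_card_image X₀.x ((univ : Finset (ZMod p)).erase 0)
    rw [sum_congr rfl (g := fun _ => 3) fun χ hχ => ?_, sum_const, card_ne_zero_univ, smul_eq_mul]
      at hcount
    · rw [hYc, he]; omega
    · obtain ⟨a, ha, rfl⟩ := mem_image.1 hχ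
      have ha0 := ne_of_mem_erase ha
      rw [← he, rowE, ← card_orb ha0]
      congr 1
      ext b
      simp only [mem_filter, mem_erase, mem_univ, and_true]
      exact ⟨fun hb => X₀.mem_orb_of_eq hG S ha0 hb.1 hb.2,
        fun hb => ⟨ne_zero_of_mem_orb ha0 hb, X₀.eq_of_mem_orb hG S hc ha0 hb⟩⟩
  have hrowY : rowT hG S θ (trivIrr S.V) = -1 := by
    have h1 := hmemY 1 one_ne_zero
    rw [← rowT_eq hG S h1]
    have h2 := sum_row_units hG S (X₀.x 1) (linIrr (1 : S.V →* ℂˣ))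
    rw [sum_congr rfl fun k _ => (row_linIrr (f := (X₀.x 1 : G → ℂ)) (X₀.central 1) _).trans
      (X₀.val 1 one_ne_zero _ k.ne_zero), galStab_eq hG h1, hθe, he, linIrr_one] at h2
    simp only [Th, Int.cast_neg, Int.cast_one, neg_neg, one_mul, mul_one] at h2
    rw [sum_comm, sum_congr rfl fun l _ => (sum_units_zp hG _).trans (if_neg (Units.ne_zero _)),
      sum_const, card_univ, ← Nat.card_eq_fintype_card, show Nat.card _ = 3 from he, nsmul_eq_mul] at h2
    push_cast at h2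
    linear_combination (-1 / 3 : ℂ) * h2
  -- the fixed members
  set F : Finset (IrrCharacter G) := univ.filter fun χ =>
    rowT hG S χ (trivIrr S.V) ≠ 0 ∧ χ ∉ galOrb hG θ with hF
  have hFset : {χ : IrrCharacter G | rowT hG S χ (trivIrr S.V) ≠ 0} \
      (galOrb hG θ : Set (IrrCharacter G)) = ↑F := by
    ext c
    simp [hF]
  have hF3 : F.card = 3 := by
    rw [hFset, Nat.card_coe_set_eq, Set.ncard_coe_finset, he] at hFc
    exact hFc
  have htc : HasCentral S (1 : S.V →* ℂˣ) (trivIrr G : G → ℂ) := hasCentral_one.2 fun g v => rfl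
  have htfix : galStab hG (trivIrr G) = p - 1 := by
    rw [galStab, filter_true_of_mem fun k _ => Subtype.ext (funext fun g => by rw [gal_apply]; rfl),
      card_univ, ZMod.card_units]
  have ht1 : rowT hG S (trivIrr G) (trivIrr S.V) = 1 := by
    rw [← linIrr_one, ← val_of_fixed h htc htfix 1]; rfl
  have htF : trivIrr G ∈ F := mem_filter.2 ⟨mem_univ _, by rw [ht1]; exact one_ne_zero, fun hm => by
    have h' := galStab_eq hG hm
    rw [htfix, hθe] at h'
    omega⟩
  obtain ⟨x, y, hxy, hxyF⟩ := card_eq_two.1 (by rw [card_erase_of_mem htF, hF3] :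
    (F.erase (trivIrr G)).card = 2)
  have hprop : ∀ c ∈ ({x, y} : Finset (IrrCharacter G)),
      ∃ ε : ℤ, Fixed S c ε ∧ rowT hG S c (trivIrr S.V) = ε := by
    intro c hc'
    rw [← hxyF, mem_erase, mem_filter] at hc'
    obtain ⟨hct, -, hcr, hcY⟩ := hc'
    have hcfix := hfix c hcr hcY
    have hcen := hasCentral_of_rowT h hcr
    obtain ⟨ε, hε, hε3⟩ := (rowT_spec hG S hM c).1 (trivIrr S.V)
    have hε0 : ε ≠ 0 := fun h0 => hcr (by rw [hε, h0, Int.cast_zero])
    refine ⟨ε, ⟨hε3.resolve_left hε0, hcen, fun k => ?_, degree_principal_fixed S hG hM hcfix hε hε0,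
      ?_, hct⟩, hε⟩
    · rw [val_of_fixed h hcen hcfix k, linIrr_one, hε]
    · by_contra hsmall
      exact hct (eq_trivIrr_of_apply_eq S h.gen
        (apply_eq_of_fixed_small hG S hcfix (not_le.1 hsmall)))
  obtain ⟨εx, hx, hxr⟩ := hprop x (mem_insert_self _ _)
  obtain ⟨εy, hy, hyr⟩ := hprop y (mem_insert_of_mem (mem_singleton_self _))
  refine ⟨x, y, εx, εy, hx, hy, hxy, fun χ hχ => ?_, fun g hg => ?_⟩
  · by_cases hχY : χ ∈ galOrb hG θ
    · rw [hY, mem_image] at hχY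
      obtain ⟨z, hz, rfl⟩ := hχY
      exact Or.inr (Or.inr (Or.inr ⟨z, ne_of_mem_erase hz, rfl⟩))
    · by_cases hχt : χ = trivIrr G
      · exact Or.inl hχt
      · have h2 : χ ∈ F.erase (trivIrr G) := mem_erase.2 ⟨hχt, mem_filter.2 ⟨mem_univ _, hχ, hχY⟩⟩
        rw [hxyF, mem_insert, mem_singleton] at h2
        rcases h2 with rfl | rfl
        · exact Or.inr (Or.inl rfl)
        · exact Or.inr (Or.inr (Or.inl rfl))
  · have hrel := relation hG S hθe hsub hfix (hmemY 1 one_ne_zero) hg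
    rw [hFset, finsum_mem_coe_finset, ← add_sum_erase _ _ htF, hxyF, sum_pair hxy, hrowY, ht1, hxr,
      hyr, trivIrr_apply] at hrel
    linear_combination -hrel

end CfsgLib.OrderDegrees.Nineteen
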