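import Mathlib

/-!
Arbitrarily large groups whose element orders are the proper divisors of a squarefree number with at least two
prime factors.
-/

set_option autoImplicit false
set_option linter.unusedSectionVars false

namespace CfsgLib.OrderDegrees

theorem exists_orderOf_of_dvd {G : Type*} [Group G] {x : G} {d : ℕ} (hd : d ∣ orderOf x) (hd0 : 0 < orderOf x) :
    ∃ y : G, orderOf y = d := by
  obtain ⟨e, he⟩ := hd
  rw [he] at hd0
  refine ⟨x ^ e, ?_⟩
  have he0 : 0 < e := Nat.pos_of_mul_pos_left hd0
  rw [orderOf_pow' x he0.ne', he, Nat.gcd_eq_right (Dvd.intro_left d rfl), Nat.mul_div_cancel _ he0]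

theorem exists_prime_dvd_div_of_dvd {d N : ℕ} (hd : d ∣ N) (hne : d ≠ N) :
    ∃ l : ℕ, l.Prime ∧ l ∣ N ∧ d ∣ N / l := by
  obtain ⟨e, rfl⟩ := hd
  have he : e ≠ 1 := fun h => hne (by rw [h, mul_one])
  obtain ⟨l, hl, m, rfl⟩ := Nat.exists_prime_and_dvd he
  exact ⟨l, hl, ⟨d * m, by ring⟩, ⟨m, by rw [show d * (l * m) = l * (d * m) by ring, Nat.mul_div_cancel_left _ hl.pos]⟩⟩

section

variable {n : ℕ} (p : ℕ) (r : Fin n → ℕ)

/-- Functions on `ZMod r` with values in `ZMod p` and sum zero. -/
def sumZero (r p : ℕ) [NeZero r] : AddSubgroup (ZMod r → ZMod p) where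
  carrier := {f | ∑ x, f x = 0}
  add_mem' {f g} hf hg := by simp_all [Finset.sum_add_distrib]
  zero_mem' := by simp
  neg_mem' {f} hf := by simp_all [Finset.sum_neg_distrib]

theorem sum_shift {r p : ℕ} [NeZero r] (f : ZMod r → ZMod p) (a : ZMod r) : ∑ x, f (x + a) = ∑ x, f x :=
  Fintype.sum_equiv (Equiv.addRight a) _ _ fun _ => rfl

variable [∀ i, NeZero (r i)]

/-- The kernel, `N + 1` copies. -/
abbrev Kern (N : ℕ) : Type := Fin (N + 1) → ∀ i, sumZero (r i) p

/-- The complement. -/
abbrev Quot' : Type := Multiplicative (∀ i, ZMod (r i))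

def shiftFun (N : ℕ) (q : ∀ i, ZMod (r i)) : Kern p r N → Kern p r N := fun v k i =>
  ⟨fun x => (v k i).1 (x + q i), show _ = _ by rw [sum_shift]; exact (v k i).2⟩

theorem shiftFun_comp (N : ℕ) (a b : ∀ i, ZMod (r i)) (v : Kern p r N) :
    shiftFun p r N a (shiftFun p r N b v) = shiftFun p r N (a + b) v := by
  funext k i
  apply Subtype.ext
  funext x
  simp [shiftFun, add_assoc]

theorem shiftFun_zero (N : ℕ) (v : Kern p r N) : shiftFun p r N 0 v = v := by
  funext k i
  apply Subtype.ext
  funext x
  simp [shiftFun]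

def shiftAut (N : ℕ) : Quot' r →* MulAut (Multiplicative (Kern p r N)) where
  toFun q :=
    { toFun := fun v => Multiplicative.ofAdd (shiftFun p r N (Multiplicative.toAdd q) (Multiplicative.toAdd v))
      invFun := fun v => Multiplicative.ofAdd (shiftFun p r N (-Multiplicative.toAdd q) (Multiplicative.toAdd v))
      left_inv := fun v => by simp [shiftFun_comp, shiftFun_zero]
      right_inv := fun v => by simp [shiftFun_comp, shiftFun_zero]
      map_mul' := fun v w => by
        apply Multiplicative.toAdd.injective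
        funext k i
        apply Subtype.ext
        funext x
        rfl }
  map_one' := by ext v : 1; simp [shiftFun_zero]
  map_mul' a b := by ext v : 1; simp [shiftFun_comp]

/-- The group. -/
abbrev PDGroup (N : ℕ) : Type := Multiplicative (Kern p r N) ⋊[shiftAut p r N] Quot' r

variable {p r}

theorem pow_eq_one_of_orders (N : ℕ) (h : PDGroup p r N) : h ^ ((∏ i, r i) * p) = 1 := by
  have hq : (h ^ ∏ i, r i).right = 1 := by
    rw [← SemidirectProduct.rightHom_eq_right, map_pow, SemidirectProduct.rightHom_eq_right]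
    apply Multiplicative.toAdd.injective
    funext i
    rw [toAdd_pow, Pi.smul_apply, toAdd_one, Pi.zero_apply, nsmul_eq_mul,
      (ZMod.natCast_eq_zero_iff _ _).mpr (Finset.dvd_prod_of_mem r (Finset.mem_univ i)), zero_mul]
  obtain ⟨v, hv⟩ : ∃ v, SemidirectProduct.inl v = h ^ ∏ i, r i :=
    ⟨(h ^ ∏ i, r i).left, SemidirectProduct.ext (by simp) (by simp [hq])⟩
  rw [pow_mul, ← hv, ← map_pow]
  have : v ^ p = 1 := by
    apply Multiplicative.toAdd.injective
    funext k i
    apply Subtype.ext
    funext x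
    simp
  rw [this, map_one]

theorem orderOf_quot_dvd (hp : ∀ i, (r i).Prime) (hinj : Function.Injective r) (q : ∀ i, ZMod (r i))
    (hq : ∀ i, q i ≠ 0) : (∏ i, r i) ∣ orderOf (Multiplicative.ofAdd q) := by
  rw [← Finset.prod_image (f := fun a : ℕ => a) fun a _ b _ h => hinj h]
  refine Finset.prod_primes_dvd _ (fun a ha => ?_) (fun a ha => ?_)
  · obtain ⟨i, -, rfl⟩ := Finset.mem_image.mp ha
    exact (hp i).prime
  · obtain ⟨i, -, rfl⟩ := Finset.mem_image.mp ha
    have := Fact.mk (hp i)
    rw [← addOrderOf_eq_prime (p := r i) (x := q i) (by simp) (hq i), orderOf_ofAdd_eq_addOrderOf]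
    exact addOrderOf_map_dvd (Pi.evalAddMonoidHom (fun i => ZMod (r i)) i) q

theorem orderOf_ne_full (hp : p.Prime) (hr : ∀ i, (r i).Prime) (hinj : Function.Injective r)
    (hne : ∀ i, r i ≠ p) (N : ℕ) (h : PDGroup p r N) : orderOf h ≠ (∏ i, r i) * p := by
  intro ho
  set M := ∏ i, r i with hM
  have hMpos : 0 < M := Finset.prod_pos fun i _ => (hr i).pos
  have hx1 : h ^ M ≠ 1 := pow_ne_one_of_lt_orderOf hMpos.ne' (by
    rw [ho]; exact lt_mul_of_one_lt_right hMpos hp.one_lt)
  apply hx1
  have hxr : (h ^ M).right = 1 := by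
    rw [← SemidirectProduct.rightHom_eq_right, map_pow, SemidirectProduct.rightHom_eq_right]
    apply Multiplicative.toAdd.injective
    funext i
    rw [toAdd_pow, Pi.smul_apply, toAdd_one, Pi.zero_apply, nsmul_eq_mul,
      (ZMod.natCast_eq_zero_iff _ _).mpr (Finset.dvd_prod_of_mem r (Finset.mem_univ i)), zero_mul]
  have hqne : ∀ i, Multiplicative.toAdd h.right i ≠ 0 := by
    intro i hi
    obtain ⟨M', hM'⟩ : r i ∣ M := Finset.dvd_prod_of_mem r (Finset.mem_univ i)
    have hcop : ∀ j, j ≠ i → r j ∣ M' := fun j hj => by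
      have : r j ∣ r i * M' := hM' ▸ Finset.dvd_prod_of_mem r (Finset.mem_univ j)
      exact (((Nat.coprime_primes (hr j) (hr i)).mpr fun e => hj (hinj e)).dvd_of_dvd_mul_left this)
    have hzero : (h ^ M').right = 1 := by
      rw [← SemidirectProduct.rightHom_eq_right, map_pow, SemidirectProduct.rightHom_eq_right]
      apply Multiplicative.toAdd.injective
      funext j
      rw [toAdd_pow, Pi.smul_apply, toAdd_one, Pi.zero_apply]
      by_cases hj : j = i
      · subst hj; rw [hi, smul_zero]
      · rw [nsmul_eq_mul, (ZMod.natCast_eq_zero_iff _ _).mpr (hcop j hj), zero_mul]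
    obtain ⟨v, hv⟩ : ∃ v, SemidirectProduct.inl v = h ^ M' :=
      ⟨(h ^ M').left, SemidirectProduct.ext (by simp) (by simp [hzero])⟩
    have h1 : h ^ (M' * p) = 1 := by
      rw [pow_mul, ← hv, ← map_pow]
      have : v ^ p = 1 := by
        apply Multiplicative.toAdd.injective
        funext k j
        apply Subtype.ext
        funext x
        simp
      rw [this, map_one]
    have hM'pos : 0 < M' := by
      rcases Nat.eq_zero_or_pos M' with h0 | h0
      · rw [h0, mul_zero] at hM'; omega
      · exact h0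
    have hle := Nat.le_of_dvd (Nat.mul_pos hM'pos hp.pos) (orderOf_dvd_of_pow_eq_one h1)
    rw [ho, hM'] at hle
    have h2 : 2 * (M' * p) ≤ r i * (M' * p) := Nat.mul_le_mul_right _ (hr i).two_le
    have h3 : 0 < M' * p := Nat.mul_pos hM'pos hp.pos
    rw [← mul_assoc] at h2
    nlinarith
  have hcomm : h * h ^ M = h ^ M * h := by rw [← pow_succ', pow_succ]
  have hl := congrArg SemidirectProduct.left hcomm
  rw [SemidirectProduct.mul_left, SemidirectProduct.mul_left, hxr, map_one, MulAut.one_apply,
    mul_comm h.left] at hl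
  have hfix : shiftAut p r N h.right (h ^ M).left = (h ^ M).left := mul_right_cancel hl
  refine SemidirectProduct.ext ?_ (by simpa using hxr)
  apply Multiplicative.toAdd.injective
  funext k i
  have := Fact.mk (hr i)
  have hf := congrArg (fun v : Multiplicative (Kern p r N) => (Multiplicative.toAdd v k i).1) hfix
  set f := (Multiplicative.toAdd (h ^ M).left k i) with hfdef
  have hper : ∀ x, f.1 (x + Multiplicative.toAdd h.right i) = f.1 x := fun x => congrFun hf x
  have hconst : ∀ x, f.1 x = f.1 0 := by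
    intro x
    have hmul : ∀ m : ℕ, f.1 ((m : ZMod (r i)) * Multiplicative.toAdd h.right i) = f.1 0 := by
      intro m
      induction m with
      | zero => simp
      | succ m ih => rw [Nat.cast_succ, add_mul, one_mul, hper, ih]
    obtain ⟨m, hm⟩ : ∃ m : ℕ, (m : ZMod (r i)) * Multiplicative.toAdd h.right i = x :=
      ⟨(x / Multiplicative.toAdd h.right i).val, by rw [ZMod.natCast_zmod_val, div_mul_cancel₀ _ (hqne i)]⟩
    rw [← hm, hmul]
  have hsum : ∑ x, f.1 x = 0 := f.2
  simp only [hconst, Finset.sum_const, Finset.card_univ, ZMod.card, nsmul_eq_mul] at hsum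
  have := Fact.mk hp
  have h0 : f.1 0 = 0 := by
    rcases mul_eq_zero.mp hsum with h | h
    · exfalso
      rw [ZMod.natCast_eq_zero_iff] at h
      exact hne i ((Nat.prime_dvd_prime_iff_eq hp (hr i)).mp h).symm
    · exact h
  apply Subtype.ext
  funext x
  show f.1 x = _
  rw [hconst x, h0]
  simp

theorem exists_orderOf_div_prime (hp : p.Prime) (hr : ∀ i, (r i).Prime) (hinj : Function.Injective r)
    (hne : ∀ i, r i ≠ p) (N : ℕ) {l : ℕ} (hl : l.Prime) (hdvd : l ∣ (∏ i, r i) * p) :
    ∃ h : PDGroup p r N, orderOf h = (∏ i, r i) * p / l := by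
  set M := ∏ i, r i with hM
  rcases hl.dvd_mul.mp hdvd with hd | hd
  · obtain ⟨i, -, hi⟩ := hl.prime.exists_mem_finset_dvd hd
    obtain rfl := (Nat.prime_dvd_prime_iff_eq hl (hr i)).mp hi
    obtain ⟨M', hM'⟩ : r i ∣ M := hd
    rw [hM', mul_assoc, Nat.mul_div_cancel_left _ (hr i).pos]
    let q : ∀ j, ZMod (r j) := fun j => if j = i then 0 else 1
    let v : Kern p r N := fun _ j =>
      ⟨fun x => if j = i then (if x = 0 then 1 else 0) - (if x = 1 then 1 else 0) else 0, show _ = _ by
        by_cases hj : j = i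
        · simp [hj, Finset.sum_sub_distrib]
        · simp [hj]⟩
    refine ⟨SemidirectProduct.inl (Multiplicative.ofAdd v) * SemidirectProduct.inr (Multiplicative.ofAdd q), ?_⟩
    have hcomm : Commute (SemidirectProduct.inl (Multiplicative.ofAdd v) : PDGroup p r N)
        (SemidirectProduct.inr (Multiplicative.ofAdd q)) := by
      refine SemidirectProduct.ext ?_ (by simp)
      simp only [SemidirectProduct.mul_left, SemidirectProduct.left_inl, SemidirectProduct.right_inl,
        SemidirectProduct.left_inr, SemidirectProduct.right_inr, map_one, one_mul, mul_one]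
      apply Multiplicative.toAdd.injective
      funext k j
      apply Subtype.ext
      funext x
      show (v k j).1 x = (v k j).1 (x + q j)
      by_cases hj : j = i
      · simp [q, hj]
      · simp [v, hj]
    have hv : orderOf (SemidirectProduct.inl (Multiplicative.ofAdd v) : PDGroup p r N) = p := by
      rw [orderOf_injective _ SemidirectProduct.inl_injective, orderOf_ofAdd_eq_addOrderOf]
      have := Fact.mk hp
      have := Fact.mk (hr i)
      refine addOrderOf_eq_prime ?_ ?_
      · funext k j; apply Subtype.ext; funext x; simp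
      · intro h0
        have := congrArg (fun w : Kern p r N => (w 0 i).1 0) h0
        simp [v] at this
    have hq : orderOf (SemidirectProduct.inr (Multiplicative.ofAdd q) : PDGroup p r N) = M' := by
      rw [orderOf_injective _ SemidirectProduct.inr_injective, orderOf_ofAdd_eq_addOrderOf]
      refine Nat.dvd_antisymm ?_ ?_
      · apply addOrderOf_dvd_of_nsmul_eq_zero
        funext j
        by_cases hj : j = i
        · simp [q, hj]
        · have hjd : r j ∣ M' := by
            have : r j ∣ r i * M' := hM' ▸ Finset.dvd_prod_of_mem r (Finset.mem_univ j)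
            exact ((Nat.coprime_primes (hr j) (hr i)).mpr fun e => hj (hinj e)).dvd_of_dvd_mul_left this
          simp [q, hj, (ZMod.natCast_eq_zero_iff _ _).mpr hjd]
      · have hM'eq : M' = ∏ j ∈ Finset.univ.erase i, r j := by
          apply Nat.eq_of_mul_eq_mul_left (hr i).pos
          rw [← hM', Finset.mul_prod_erase _ _ (Finset.mem_univ i)]
        rw [hM'eq, ← Finset.prod_image (f := fun a : ℕ => a) fun a _ b _ h => hinj h]
        refine Finset.prod_primes_dvd _ (fun a ha => ?_) (fun a ha => ?_)
        · obtain ⟨j, -, rfl⟩ := Finset.mem_image.mp ha; exact (hr j).prime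
        · obtain ⟨j, hj, rfl⟩ := Finset.mem_image.mp ha
          have hji : j ≠ i := (Finset.mem_erase.mp hj).1
          have := Fact.mk (hr j)
          have hqj : addOrderOf (q j) = r j := addOrderOf_eq_prime (by simp) (by simp [q, hji])
          rw [← hqj]
          exact addOrderOf_map_dvd (Pi.evalAddMonoidHom (fun j => ZMod (r j)) j) q
    have hcop : Nat.Coprime p M' := by
      refine (Nat.Prime.coprime_iff_not_dvd hp).mpr fun h => ?_
      have hdd : p ∣ M := hM' ▸ Dvd.dvd.mul_left h _
      obtain ⟨j, -, hj⟩ := hp.prime.exists_mem_finset_dvd hdd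
      exact hne j ((Nat.prime_dvd_prime_iff_eq hp (hr j)).mp hj).symm
    rw [hcomm.orderOf_mul_eq_mul_orderOf_of_coprime (by rw [hv, hq]; exact hcop), hv, hq, mul_comm]
  · obtain rfl := (Nat.prime_dvd_prime_iff_eq hl hp).mp hd
    rw [Nat.mul_div_cancel _ hl.pos]
    refine ⟨SemidirectProduct.inr (Multiplicative.ofAdd fun _ => 1), ?_⟩
    rw [orderOf_injective _ SemidirectProduct.inr_injective]
    refine Nat.dvd_antisymm ?_ (orderOf_quot_dvd hr hinj _ fun i => by
      have := Fact.mk (hr i); exact one_ne_zero)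
    apply orderOf_dvd_of_pow_eq_one
    apply Multiplicative.toAdd.injective
    funext i
    simp [(ZMod.natCast_eq_zero_iff _ _).mpr (Finset.dvd_prod_of_mem r (Finset.mem_univ i)), hM]

end

/-- Arbitrarily large groups whose element orders are the proper divisors of `r₀ ⋯ rₙ₋₁ * p`. -/
theorem exists_large_proper_divisors {n : ℕ} (hn : 0 < n) (p : ℕ) (hp : p.Prime) (r : Fin n → ℕ)
    (hr : ∀ i, (r i).Prime) (hinj : Function.Injective r) (hne : ∀ i, r i ≠ p) (N : ℕ) :
    ∃ (H : Type) (_ : Group H) (_ : Fintype H), N < Fintype.card H ∧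
      Set.range (orderOf : H → ℕ) = {d : ℕ | d ∣ (∏ i, r i) * p ∧ d ≠ (∏ i, r i) * p} := by
  have : ∀ i, NeZero (r i) := fun i => ⟨(hr i).ne_zero⟩
  have := Fact.mk hp
  have hfin : Finite (PDGroup p r N) := Finite.of_equiv _ SemidirectProduct.equivProd.symm
  have hMpos : 0 < (∏ i, r i) * p := Nat.mul_pos (Finset.prod_pos fun i _ => (hr i).pos) hp.pos
  refine ⟨PDGroup p r N, inferInstance, Fintype.ofFinite _, ?_, ?_⟩
  · rw [← @Nat.card_eq_fintype_card, Nat.card_congr SemidirectProduct.equivProd, Nat.card_prod]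
    have hnt : Nontrivial (sumZero (r ⟨0, hn⟩) p) := by
      have := Fact.mk (hr ⟨0, hn⟩)
      refine ⟨⟨0, ⟨fun x => (if x = 0 then 1 else 0) - (if x = 1 then 1 else 0), show _ = _ by
        simp [Finset.sum_sub_distrib]⟩, fun h => ?_⟩⟩
      have := congrFun (congrArg Subtype.val h) 0
      simp at this
    have hW : 1 < Nat.card (∀ i, sumZero (r i) p) := by
      rw [Nat.card_pi]
      exact lt_of_lt_of_le (Finite.one_lt_card (α := sumZero (r ⟨0, hn⟩) p))
        (Nat.le_of_dvd (Finset.prod_pos fun i _ => Nat.card_pos)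
          (Finset.dvd_prod_of_mem (fun i => Nat.card (sumZero (r i) p)) (Finset.mem_univ (⟨0, hn⟩ : Fin n))))
    have hV : N < Nat.card (Multiplicative (Kern p r N)) := by
      rw [Nat.card_congr (Multiplicative.toAdd (α := Kern p r N)), Nat.card_fun, Nat.card_fin]
      exact (Nat.lt_succ_self N).trans ((Nat.lt_two_pow_self).trans_le (Nat.pow_le_pow_left hW _))
    exact hV.trans_le (Nat.le_mul_of_pos_right _ Nat.card_pos)
  · ext d
    constructor
    · rintro ⟨h, rfl⟩
      exact ⟨orderOf_dvd_of_pow_eq_one (pow_eq_one_of_orders N h), orderOf_ne_full hp hr hinj hne N h⟩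
    · rintro ⟨hd, hne'⟩
      obtain ⟨l, hl, hlN, hdl⟩ := exists_prime_dvd_div_of_dvd hd hne'
      obtain ⟨h, hh⟩ := exists_orderOf_div_prime hp hr hinj hne N hl hlN
      exact exists_orderOf_of_dvd (x := h) (hh ▸ hdl) (orderOf_pos h)

end CfsgLib.OrderDegrees
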