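import Cfsg.Prelude.Def_Sz

/-!
Elements of odd order in the Suzuki group act on the natural module without fixed points.
-/

set_option autoImplicit false

namespace CfsgLib.OrderDegrees

open Matrix Cfsg.Lie Polynomial

variable {F : Type*} [Field F]

/-- Sum of the principal 2 × 2 minors. -/
def minorSum2 {R : Type*} [CommRing R] (A : Matrix (Fin 4) (Fin 4) R) : R :=
  (A 0 0 * A 1 1 - A 1 0 * A 0 1) + (A 0 0 * A 2 2 - A 2 0 * A 0 2) + (A 0 0 * A 3 3 - A 3 0 * A 0 3) +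
  (A 1 1 * A 2 2 - A 2 1 * A 1 2) + (A 1 1 * A 3 3 - A 3 1 * A 1 3) + (A 2 2 * A 3 3 - A 3 2 * A 2 3)

/-- Sum of the principal 3 × 3 minors. -/
def minorSum3 {R : Type*} [CommRing R] (A : Matrix (Fin 4) (Fin 4) R) : R :=
  Matrix.trace (Matrix.adjugate A)

theorem det_scalar_sub {R : Type*} [CommRing R] (A : Matrix (Fin 4) (Fin 4) R) (t : R) :
    (Matrix.scalar (Fin 4) t - A).det =
      t ^ 4 - A.trace * t ^ 3 + minorSum2 A * t ^ 2 - minorSum3 A * t + A.det := by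
  simp only [minorSum2, minorSum3, Matrix.trace, Matrix.diag, Matrix.adjugate_apply, Fin.sum_univ_four]
  simp [Matrix.det_succ_row_zero, Fin.sum_univ_succ, Matrix.updateRow, Function.update, Fin.succAbove]
  ring

theorem charpoly_four {R : Type*} [CommRing R] (A : Matrix (Fin 4) (Fin 4) R) :
    A.charpoly = X ^ 4 - C A.trace * X ^ 3 + C (minorSum2 A) * X ^ 2 - C (minorSum3 A) * X + C A.det := by
  have h := det_scalar_sub (A.map (C : R → R[X])) (X : R[X])
  have e1 : (A.map (C : R → R[X])).trace = C A.trace := by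
    simp [Matrix.trace, Fin.sum_univ_four]
  have e2 : minorSum2 (A.map (C : R → R[X])) = C (minorSum2 A) := by
    simp [minorSum2]
  have e3 : minorSum3 (A.map (C : R → R[X])) = C (minorSum3 A) := by
    have h' := (RingHom.map_adjugate (C : R →+* R[X]) A).symm
    simp only [RingHom.mapMatrix_apply] at h'
    simp [minorSum3, h', Matrix.trace, Fin.sum_univ_four]
  have e4 : (A.map (C : R → R[X])).det = C A.det := (RingHom.map_det (C : R →+* R[X]) A).symm
  rw [e1, e2, e3, e4] at h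
  rw [← h]
  rfl

/-- The matrix of the form `altForm4`. -/
def antiDiag4 (F : Type*) [Field F] : Matrix (Fin 4) (Fin 4) F :=
  !![0, 0, 0, 1; 0, 0, 1, 0; 0, 1, 0, 0; 1, 0, 0, 0]

theorem altForm4_single (g : Matrix (Fin 4) (Fin 4) F) (i j : Fin 4) :
    altForm4 (g *ᵥ Pi.single i 1) (g *ᵥ Pi.single j 1) =
      g 0 i * g 3 j + g 1 i * g 2 j + g 2 i * g 1 j + g 3 i * g 0 j := by
  simp [altForm4]

theorem sp4_col {g : GL (Fin 4) F} (hg : g ∈ Sp4 F) (i j : Fin 4) :
    (g : Matrix (Fin 4) (Fin 4) F) 0 i * (g : Matrix (Fin 4) (Fin 4) F) 3 j +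
      (g : Matrix (Fin 4) (Fin 4) F) 1 i * (g : Matrix (Fin 4) (Fin 4) F) 2 j +
      (g : Matrix (Fin 4) (Fin 4) F) 2 i * (g : Matrix (Fin 4) (Fin 4) F) 1 j +
      (g : Matrix (Fin 4) (Fin 4) F) 3 i * (g : Matrix (Fin 4) (Fin 4) F) 0 j = antiDiag4 F i j := by
  have h := hg (Pi.single i 1) (Pi.single j 1)
  rw [Units.coeHom_apply, altForm4_single] at h
  rw [h]
  fin_cases i <;> fin_cases j <;> simp [altForm4, antiDiag4]

theorem sp4_transpose {g : GL (Fin 4) F} (hg : g ∈ Sp4 F) :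
    (g : Matrix (Fin 4) (Fin 4) F)ᵀ * antiDiag4 F * (g : Matrix (Fin 4) (Fin 4) F) = antiDiag4 F := by
  ext i j
  rw [← sp4_col hg i j]
  simp only [Matrix.mul_apply, Fin.sum_univ_four, antiDiag4, Matrix.transpose_apply]
  simp
  ring

theorem antiDiag4_sq : antiDiag4 F * antiDiag4 F = 1 := by
  ext i j
  fin_cases i <;> fin_cases j <;> simp [antiDiag4, Matrix.mul_apply, Fin.sum_univ_four]

theorem sp4_inv {g : GL (Fin 4) F} (hg : g ∈ Sp4 F) :
    (g⁻¹ : GL (Fin 4) F) = (antiDiag4 F * (g : Matrix (Fin 4) (Fin 4) F)ᵀ * antiDiag4 F : Matrix _ _ F) := by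
  refine Units.inv_eq_of_mul_eq_one_left ?_
  rw [mul_assoc, mul_assoc, ← mul_assoc _ (antiDiag4 F), sp4_transpose hg, antiDiag4_sq]

theorem sp4_row {g : GL (Fin 4) F} (hg : g ∈ Sp4 F) (i j : Fin 4) :
    (g : Matrix (Fin 4) (Fin 4) F) i 0 * (g : Matrix (Fin 4) (Fin 4) F) j 3 +
      (g : Matrix (Fin 4) (Fin 4) F) i 1 * (g : Matrix (Fin 4) (Fin 4) F) j 2 +
      (g : Matrix (Fin 4) (Fin 4) F) i 2 * (g : Matrix (Fin 4) (Fin 4) F) j 1 +
      (g : Matrix (Fin 4) (Fin 4) F) i 3 * (g : Matrix (Fin 4) (Fin 4) F) j 0 = antiDiag4 F i j := by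
  have h : (g : Matrix (Fin 4) (Fin 4) F) * antiDiag4 F * (g : Matrix (Fin 4) (Fin 4) F)ᵀ = antiDiag4 F := by
    have h1 : (g : Matrix (Fin 4) (Fin 4) F) * (g⁻¹ : GL (Fin 4) F) = 1 := Units.mul_inv g
    rw [sp4_inv hg, ← mul_assoc, ← mul_assoc] at h1
    have h2 := congrArg (· * antiDiag4 F) h1
    simp only [mul_assoc, antiDiag4_sq, mul_one, one_mul] at h2
    rw [mul_assoc]
    exact h2
  conv_rhs => rw [← h]
  simp only [Matrix.mul_apply, Fin.sum_univ_four, antiDiag4, Matrix.transpose_apply]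
  simp
  ring

theorem sp4_det_sq {g : GL (Fin 4) F} (hg : g ∈ Sp4 F) : ((g : Matrix (Fin 4) (Fin 4) F).det) ^ 2 = 1 := by
  have h := congrArg Matrix.det (sp4_transpose hg)
  rw [Matrix.det_mul, Matrix.det_mul, Matrix.det_transpose] at h
  have hJ : (antiDiag4 F).det * (antiDiag4 F).det = 1 := by
    rw [← Matrix.det_mul, antiDiag4_sq, Matrix.det_one]
  have hne : (antiDiag4 F).det ≠ 0 := fun e => by rw [e, zero_mul] at hJ; exact zero_ne_one hJ
  apply mul_right_cancel₀ hne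
  linear_combination h

/-- `star4` is multiplicative on `Sp4` in characteristic 2. -/
theorem star4_mul [CharP F 2] {g h : GL (Fin 4) F} (hg : g ∈ Sp4 F) (hh : h ∈ Sp4 F) :
    star4 ((g * h : GL (Fin 4) F) : Matrix (Fin 4) (Fin 4) F) =
      star4 (g : Matrix (Fin 4) (Fin 4) F) * star4 (h : Matrix (Fin 4) (Fin 4) F) := by
  have h2 : (2 : F) = 0 := CharP.cast_eq_zero F 2
  ext p r
  have key : ∀ i j k l : Fin 4, antiDiag4 F i j = 0 → antiDiag4 F k l = 0 →
      ((g : Matrix (Fin 4) (Fin 4) F) i 0 * (g : Matrix (Fin 4) (Fin 4) F) j 3 -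
        (g : Matrix (Fin 4) (Fin 4) F) j 0 * (g : Matrix (Fin 4) (Fin 4) F) i 3) *
      ((h : Matrix (Fin 4) (Fin 4) F) 0 k * (h : Matrix (Fin 4) (Fin 4) F) 3 l -
        (h : Matrix (Fin 4) (Fin 4) F) 3 k * (h : Matrix (Fin 4) (Fin 4) F) 0 l) +
      ((g : Matrix (Fin 4) (Fin 4) F) i 1 * (g : Matrix (Fin 4) (Fin 4) F) j 2 -
        (g : Matrix (Fin 4) (Fin 4) F) j 1 * (g : Matrix (Fin 4) (Fin 4) F) i 2) *
      ((h : Matrix (Fin 4) (Fin 4) F) 1 k * (h : Matrix (Fin 4) (Fin 4) F) 2 l -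
        (h : Matrix (Fin 4) (Fin 4) F) 2 k * (h : Matrix (Fin 4) (Fin 4) F) 1 l) = 0 := by
    intro i j k l h1 h3
    have e1 := sp4_row hg i j
    have e2 := sp4_col hh k l
    rw [h1] at e1
    rw [h3] at e2
    have a1 : (g : Matrix (Fin 4) (Fin 4) F) i 0 * (g : Matrix (Fin 4) (Fin 4) F) j 3 -
        (g : Matrix (Fin 4) (Fin 4) F) j 0 * (g : Matrix (Fin 4) (Fin 4) F) i 3 =
      (g : Matrix (Fin 4) (Fin 4) F) i 1 * (g : Matrix (Fin 4) (Fin 4) F) j 2 -
        (g : Matrix (Fin 4) (Fin 4) F) j 1 * (g : Matrix (Fin 4) (Fin 4) F) i 2 := by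
      linear_combination e1 - ((g : Matrix (Fin 4) (Fin 4) F) j 0 * (g : Matrix (Fin 4) (Fin 4) F) i 3 +
        (g : Matrix (Fin 4) (Fin 4) F) i 1 * (g : Matrix (Fin 4) (Fin 4) F) j 2) * h2
    have a2 : (h : Matrix (Fin 4) (Fin 4) F) 0 k * (h : Matrix (Fin 4) (Fin 4) F) 3 l -
        (h : Matrix (Fin 4) (Fin 4) F) 3 k * (h : Matrix (Fin 4) (Fin 4) F) 0 l =
      (h : Matrix (Fin 4) (Fin 4) F) 1 k * (h : Matrix (Fin 4) (Fin 4) F) 2 l -
        (h : Matrix (Fin 4) (Fin 4) F) 2 k * (h : Matrix (Fin 4) (Fin 4) F) 1 l := by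
      linear_combination e2 - ((h : Matrix (Fin 4) (Fin 4) F) 3 k * (h : Matrix (Fin 4) (Fin 4) F) 0 l +
        (h : Matrix (Fin 4) (Fin 4) F) 1 k * (h : Matrix (Fin 4) (Fin 4) F) 2 l) * h2
    rw [a1, a2]
    linear_combination ((g : Matrix (Fin 4) (Fin 4) F) i 1 * (g : Matrix (Fin 4) (Fin 4) F) j 2 -
        (g : Matrix (Fin 4) (Fin 4) F) j 1 * (g : Matrix (Fin 4) (Fin 4) F) i 2) *
      ((h : Matrix (Fin 4) (Fin 4) F) 1 k * (h : Matrix (Fin 4) (Fin 4) F) 2 l -
        (h : Matrix (Fin 4) (Fin 4) F) 2 k * (h : Matrix (Fin 4) (Fin 4) F) 1 l) * h2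
  have hp : antiDiag4 F (pairOf p).1 (pairOf p).2 = 0 := by fin_cases p <;> simp [antiDiag4, pairOf]
  have hr : antiDiag4 F (pairOf r).1 (pairOf r).2 = 0 := by fin_cases r <;> simp [antiDiag4, pairOf]
  have := key _ _ _ _ hp hr
  rw [Units.val_mul]
  simp only [star4, Matrix.mul_apply, Matrix.of_apply, Fin.sum_univ_four]
  simp only [pairOf, Matrix.cons_val] at this ⊢
  linear_combination this

theorem charP_two_of_card [Fintype F] {k : ℕ} (hF : Fintype.card F = 2 ^ k) (hk : k ≠ 0) : CharP F 2 := by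
  obtain ⟨p, hp⟩ := CharP.exists F
  obtain ⟨n, hpp, hn⟩ := FiniteField.card F p
  rw [hF] at hn
  have : p = 2 := by
    have h2 : p ∣ 2 ^ k := hn ▸ dvd_pow_self p n.ne_zero
    exact (Nat.prime_dvd_prime_iff_eq hpp Nat.prime_two).mp (hpp.dvd_of_dvd_pow h2)
  exact this ▸ hp

/-- Every element of the Suzuki group satisfies the defining condition. -/
theorem mem_Sz_cond [Finite F] [CharP F 2] {k : ℕ} {g : GL (Fin 4) F} (hg : g ∈ Sz F (2 ^ k)) :
    g ∈ Sp4 F ∧ star4 (g : Matrix (Fin 4) (Fin 4) F) =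
      (g : Matrix (Fin 4) (Fin 4) F).map (fun x => x ^ 2 ^ k) := by
  have hmem : g ∈ Submonoid.closure {g : GL (Fin 4) F | g ∈ Sp4 F ∧ star4 (g : Matrix (Fin 4) (Fin 4) F) =
      (g : Matrix (Fin 4) (Fin 4) F).map (fun x => x ^ 2 ^ k)} := by
    rw [← Subgroup.closure_toSubmonoid_of_finite]
    exact hg
  clear hg
  induction hmem using Submonoid.closure_induction with
  | mem x hx => exact hx
  | one =>
    refine ⟨Subgroup.one_mem _, ?_⟩
    ext i j
    fin_cases i <;> fin_cases j <;> simp [star4, pairOf, Matrix.one_apply]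
  | mul x y _ _ hx hy =>
    refine ⟨Subgroup.mul_mem _ hx.1 hy.1, ?_⟩
    rw [star4_mul hx.1 hy.1, hx.2, hy.2, Units.val_mul]
    exact (Matrix.map_mul (f := iterateFrobenius F 2 k)).symm

/-- An element of `Sz` fixing a non-zero vector satisfies `g^4 = 1`. -/
theorem Sz_pow_four_of_fixed [Finite F] [CharP F 2] {k : ℕ} {g : GL (Fin 4) F} (hg : g ∈ Sz F (2 ^ k))
    {v : Fin 4 → F} (hv : v ≠ 0) (hfix : (g : Matrix (Fin 4) (Fin 4) F) *ᵥ v = v) : g ^ 4 = 1 := by
  obtain ⟨hs, hst⟩ := mem_Sz_cond hg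
  have h2 : (2 : F) = 0 := CharP.cast_eq_zero F 2
  set A := (g : Matrix (Fin 4) (Fin 4) F) with hA
  have hdet : A.det = 1 := by
    have h := sp4_det_sq hs
    rw [← hA] at h
    have h0 : (A.det - 1) ^ 2 = 0 := by linear_combination h + (1 - A.det) * h2
    exact sub_eq_zero.mp (pow_eq_zero_iff two_ne_zero |>.mp h0)
  have he3 : minorSum3 A = A.trace := by
    have h1 : A.adjugate = ((g⁻¹ : GL (Fin 4) F) : Matrix (Fin 4) (Fin 4) F) := by
      calc A.adjugate = ((g⁻¹ : GL (Fin 4) F) : Matrix (Fin 4) (Fin 4) F) * A * A.adjugate := by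
            rw [hA, Units.inv_mul, one_mul]
        _ = _ := by rw [mul_assoc, Matrix.mul_adjugate, hdet, one_smul, mul_one]
    rw [minorSum3, h1, sp4_inv hs, Matrix.trace_mul_comm, ← mul_assoc, antiDiag4_sq, one_mul,
      Matrix.trace_transpose, hA]
  have he2 : minorSum2 A = A.trace ^ 2 ^ k := by
    have h := congrArg Matrix.trace hst
    have hmap : Matrix.trace (A.map fun x => x ^ 2 ^ k) = A.trace ^ 2 ^ k := by
      simp only [Matrix.trace, Matrix.diag, Matrix.map_apply]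
      exact (map_sum (iterateFrobenius F 2 k) _ _).symm
    rw [hmap] at h
    rw [← h]
    have c := sp4_col hs 0 3
    have r := sp4_row hs 1 2
    simp only [antiDiag4, Matrix.cons_val, Matrix.of_apply] at c r
    simp only [← hA] at c r
    simp [minorSum2, star4, Matrix.trace, Fin.sum_univ_four, pairOf]
    linear_combination c + r + (-(A 3 0 * A 0 3) - A 2 1 * A 1 2 + 1 - A 1 0 * A 2 3 - A 2 0 * A 1 3) * h2
  have hd : (Matrix.scalar (Fin 4) (1 : F) - A).det = 0 := by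
    apply Matrix.exists_mulVec_eq_zero_iff.mp
    exact ⟨v, hv, by rw [map_one, Matrix.sub_mulVec, Matrix.one_mulVec, hfix, sub_self]⟩
  rw [det_scalar_sub, he3, hdet] at hd
  have he0 : minorSum2 A = 0 := by linear_combination hd - (1 - A.trace) * h2
  rw [he2] at he0
  have htr : A.trace = 0 := pow_eq_zero_iff (pow_ne_zero k two_ne_zero) |>.mp he0
  have hch := Matrix.aeval_self_charpoly A
  rw [charpoly_four, he3, he2, htr, hdet, zero_pow (pow_ne_zero k two_ne_zero)] at hch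
  simp at hch
  apply Units.ext
  rw [Units.val_pow_eq_pow_val, ← hA, Units.val_one]
  have hm1 : (-1 : F) = 1 := by linear_combination -h2
  calc A ^ 4 = -(1 : Matrix (Fin 4) (Fin 4) F) := eq_neg_of_add_eq_zero_left hch
    _ = (-1 : F) • (1 : Matrix (Fin 4) (Fin 4) F) := (neg_one_smul F _).symm
    _ = 1 := by rw [hm1, one_smul]

/-- The antidiagonal involution lies in `Sz`. -/
theorem exists_involution_Sz [CharP F 2] (k : ℕ) : ∃ g : ↥(Sz F (2 ^ k)), orderOf g = 2 := by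
  let w : GL (Fin 4) F := ⟨antiDiag4 F, antiDiag4 F, antiDiag4_sq, antiDiag4_sq⟩
  have hw : w ∈ Sz F (2 ^ k) := by
    apply Subgroup.subset_closure
    refine ⟨?_, ?_⟩
    · intro u v
      simp [w, antiDiag4, altForm4, Matrix.mulVec, dotProduct, Fin.sum_univ_four, Units.coeHom_apply]
      ring
    · have h2 : (2 : F) = 0 := CharP.cast_eq_zero F 2
      have hm1 : (-1 : F) = 1 := by linear_combination -h2
      ext i j
      fin_cases i <;> fin_cases j <;> simp [w, antiDiag4, star4, pairOf, hm1]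
  refine ⟨⟨w, hw⟩, ?_⟩
  rw [Subgroup.orderOf_mk]
  have hww : w * w = 1 := Units.ext antiDiag4_sq
  have hw2 : w ^ 2 = 1 := by rw [pow_two, hww]
  refine orderOf_eq_prime hw2 fun h => ?_
  have := congrArg (fun u : GL (Fin 4) F => (u : Matrix (Fin 4) (Fin 4) F) 0 0) h
  simp [w, antiDiag4] at this

end CfsgLib.OrderDegrees
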