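import Mathlib.RingTheory.Polynomial.Basic
import Mathlib.Algebra.Polynomial.Roots
import Mathlib.Algebra.Polynomial.Expand
import Mathlib.Data.Nat.Choose.Lucas
import Mathlib.Data.Nat.Prime.Factorial
import Mathlib.FieldTheory.Finite.Basic
import Cfsg.Agent.Lib.SmallGroups.SmallDegreeCircle

/-!
# Cyclotomic numbers are not nearly constant

If `p = e t + 1` and `H` has order `e`, the numbers of `l ∈ H` with `(z - l)` in a given coset of
`H` cannot all be at least `K ≥ 1` when `e = t K + N` with `N + 2 ≤ t`, and cannot all be at most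
`K` when `e + N = t K` with `N + 3 ≤ t`. Otherwise a coefficient of a power of
`∏ (1 - (Y - l)^e X)` would be a polynomial in `Y` of degree below `p - 1` vanishing at every
non-zero `Y`, but not at `0`.
-/

set_option autoImplicit false

namespace CfsgLib.OrderDegrees.Upper

open Finset Polynomial CfsgLib.SmallGroups CfsgLib.SmallGroups.SmallDegree

open scoped Classical

variable {p : ℕ} [hp : Fact p.Prime]

/-- Coefficient `m` has degree at most `m d`. -/
def Graded (d : ℕ) (f : (ZMod p)[X][X]) : Prop := ∀ m, (f.coeff m).natDegree ≤ m * d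

theorem Graded.one (d : ℕ) : Graded d (1 : (ZMod p)[X][X]) := fun m => by
  rw [coeff_one]; split_ifs <;> simp

theorem Graded.mul {d : ℕ} {f g : (ZMod p)[X][X]} (hf : Graded d f) (hg : Graded d g) :
    Graded d (f * g) := fun m => by
  rw [coeff_mul]
  refine natDegree_sum_le_of_forall_le _ _ fun x hx => ?_
  refine natDegree_mul_le.trans ((add_le_add (hf _) (hg _)).trans ?_)
  rw [← add_mul, mem_antidiagonal.1 hx]

theorem Graded.pow {d : ℕ} {f : (ZMod p)[X][X]} (hf : Graded d f) : ∀ r : ℕ, Graded d (f ^ r)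
  | 0 => by rw [pow_zero]; exact Graded.one d
  | r + 1 => by rw [pow_succ]; exact (Graded.pow hf r).mul hf

variable (H : Subgroup (ZMod p)ˣ)

/-- The generating polynomial. -/
noncomputable def gen : (ZMod p)[X][X] :=
  ∏ l : H, (1 - C ((X - C ((l : (ZMod p)ˣ) : ZMod p)) ^ Nat.card H) * X)

/-- Its specialisation. -/
noncomputable def genAt (z : ZMod p) : (ZMod p)[X] :=
  ∏ l : H, (1 - C ((z - ((l : (ZMod p)ˣ) : ZMod p)) ^ Nat.card H) * X)

variable {H}

theorem graded_gen : Graded (Nat.card H) (gen H) := by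
  refine Finset.prod_induction _ (Graded (Nat.card H)) (fun a b => Graded.mul) (Graded.one _)
    fun l _ m => ?_
  rcases m with _ | _ | m
  · simp [coeff_one]
  · rw [coeff_sub, coeff_one, coeff_C_mul, coeff_X_one, mul_one, if_neg (by omega), zero_sub,
      natDegree_neg]
    refine natDegree_pow_le.trans ?_
    rw [natDegree_X_sub_C]
    simp
  · rw [coeff_sub, coeff_one, coeff_C_mul, coeff_X_of_ne_one (by omega), mul_zero, if_neg (by omega),
      sub_zero, natDegree_zero]
    exact Nat.zero_le _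

theorem map_gen (z : ZMod p) : (gen H).map (evalRingHom z) = genAt H z := by
  simp [gen, genAt, Polynomial.map_prod]

/-- The values at the non-zero arguments force the value at zero. -/
theorem coeff_zero_eq {t : ℕ} (hpt : p = Nat.card H * t + 1) {r m : ℕ} (hm : m < t)
    (h : ∀ z : ZMod p, z ≠ 0 → (genAt H z ^ r).coeff m = 0) : (genAt H 0 ^ r).coeff m = 0 := by
  set R := ((gen H) ^ r).coeff m with hR
  have hval : ∀ z : ZMod p, (genAt H z ^ r).coeff m = R.eval z := fun z => by
    rw [hR, ← map_gen, ← Polynomial.map_pow, coeff_map, coe_evalRingHom]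
  have he : 0 < Nat.card H := Nat.card_pos
  have hdeg : R.natDegree < ((univ : Finset (ZMod p)).erase 0).card := by
    refine (graded_gen.pow r m).trans_lt ?_
    rw [card_ne_zero_univ, show p - 1 = Nat.card H * t by omega, mul_comm m]
    exact Nat.mul_lt_mul_of_pos_left hm he
  have h0 : R = 0 := eq_zero_of_natDegree_lt_card_of_eval_eq_zero' R _
    (fun z hz => by rw [← hval]; exact h z (ne_of_mem_erase hz)) hdeg
  rw [hval, h0, eval_zero]

theorem coeff_one_sub_pow (a : ZMod p) (n m : ℕ) :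
    ((1 - C a * X) ^ n : (ZMod p)[X]).coeff m = (n.choose m : ZMod p) * (-a) ^ m := by
  have h : (1 - C a * X : (ZMod p)[X]) ^ n = ((1 + X) ^ n).comp (C (-a) * X) := by
    rw [pow_comp, add_comp, one_comp, X_comp, C_neg, neg_mul, sub_eq_add_neg]
  rw [h, comp_C_mul_X_coeff, coeff_one_add_X_pow]

theorem genAt_zero : genAt H 0 = (1 - C ((-1 : ZMod p) ^ Nat.card H) * X) ^ Nat.card H := by
  rw [genAt, Nat.card_eq_fintype_card, ← Finset.card_univ, ← Finset.prod_const]
  refine prod_congr rfl fun l _ => ?_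
  have hl : ((l : (ZMod p)ˣ) : ZMod p) ^ Nat.card H = 1 := by
    rw [← Units.val_pow_eq_pow_val, ← SubmonoidClass.coe_pow, pow_card_eq_one', OneMemClass.coe_one,
      Units.val_one]
  rw [zero_sub, neg_pow, Finset.card_univ, ← Nat.card_eq_fintype_card, hl, mul_one]

theorem choose_ne_zero {n m : ℕ} (hn : n < p) (hm : m ≤ n) : ((n.choose m : ℕ) : ZMod p) ≠ 0 := by
  rw [Ne, ZMod.natCast_eq_zero_iff]
  intro h
  have h2 : p ∣ n.factorial := by
    rw [← Nat.choose_mul_factorial_mul_factorial hm, mul_assoc]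
    exact h.mul_right _
  have := (Nat.Prime.dvd_factorial hp.out).1 h2
  omega

/-- The members of `H` are the `e`-th roots of unity. -/
theorem mem_orb_iff_pow {b x : ZMod p} (hb : b ≠ 0) :
    x ∈ orb H b ↔ x ^ Nat.card H = b ^ Nat.card H := by
  constructor
  · intro h
    obtain ⟨m, rfl⟩ := mem_orb.1 h
    rw [mul_pow, ← Units.val_pow_eq_pow_val, ← SubmonoidClass.coe_pow, pow_card_eq_one',
      OneMemClass.coe_one, Units.val_one, one_mul]
  · intro h
    have hx : x ≠ 0 := fun hx => by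
      rw [hx, zero_pow Nat.card_pos.ne'] at h
      exact hb (eq_zero_of_pow_eq_zero h.symm)
    set r : (ZMod p)ˣ := Units.mk0 x hx * (Units.mk0 b hb)⁻¹ with hr
    have hr1 : r ^ Nat.card H = 1 := by
      rw [hr, mul_pow, inv_pow, mul_inv_eq_one]
      exact Units.ext (by simpa using h)
    have heq : (univ.filter fun u : (ZMod p)ˣ => u ∈ H) =
        univ.filter fun u : (ZMod p)ˣ => u ^ Nat.card H = 1 := by
      refine eq_of_subset_of_card_le (fun u hu => ?_) ?_
      · simp only [mem_filter, mem_univ, true_and] at hu ⊢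
        exact congrArg Subtype.val (pow_card_eq_one' (x := (⟨u, hu⟩ : H)))
      · refine (IsCyclic.card_pow_eq_one_le Nat.card_pos).trans (le_of_eq ?_)
        rw [Nat.card_eq_fintype_card, Fintype.card_subtype]
    have hrH : r ∈ H := by
      have : r ∈ univ.filter fun u : (ZMod p)ˣ => u ∈ H := by
        rw [heq]; exact mem_filter.2 ⟨mem_univ r, hr1⟩
      exact (mem_filter.1 this).2
    refine mem_orb.2 ⟨⟨r, hrH⟩, ?_⟩
    simp [hr, hb]

variable (H) in
/-- The `t`-th roots of unity. -/
noncomputable def roots : Finset (ZMod p) :=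
  ((univ : Finset (ZMod p)).erase 0).image fun b => b ^ Nat.card H

theorem ne_zero_of_mem_roots {τ : ZMod p} (hτ : τ ∈ roots H) : τ ≠ 0 := by
  obtain ⟨b, hb, rfl⟩ := mem_image.1 hτ
  exact pow_ne_zero _ (ne_of_mem_erase hb)

theorem card_roots {t : ℕ} (hpt : p = Nat.card H * t + 1) : (roots H).card = t := by
  have h := card_eq_sum_card_image (fun b : ZMod p => b ^ Nat.card H) ((univ : Finset (ZMod p)).erase 0)
  have hfib : ∀ τ ∈ roots H,
      (((univ : Finset (ZMod p)).erase 0).filter fun b => b ^ Nat.card H = τ).card = Nat.card H := by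
    intro τ hτ
    obtain ⟨b, hb, rfl⟩ := mem_image.1 hτ
    have hb0 := ne_of_mem_erase hb
    conv_rhs => rw [← card_orb (H := H) hb0]
    congr 1
    ext x
    simp only [mem_filter, mem_erase, mem_univ, and_true]
    exact ⟨fun hx => (mem_orb_iff_pow hb0).2 hx.2,
      fun hx => ⟨ne_zero_of_mem_orb hb0 hx, (mem_orb_iff_pow hb0).1 hx⟩⟩
  rw [card_ne_zero_univ, show ((univ : Finset (ZMod p)).erase 0).image (fun b => b ^ Nat.card H) = roots H
    from rfl, sum_congr rfl hfib, sum_const, smul_eq_mul] at h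
  have he : 0 < Nat.card H := Nat.card_pos
  have h' : Nat.card H * t = Nat.card H * (roots H).card := by rw [mul_comm _ (roots H).card, ← h]; omega
  exact (Nat.eq_of_mul_eq_mul_left he h').symm

theorem prod_roots {t : ℕ} (hpt : p = Nat.card H * t + 1) :
    ∏ τ ∈ roots H, (1 - C τ * X : (ZMod p)[X]) = 1 - X ^ t := by
  refine sub_eq_zero.1 (eq_zero_of_natDegree_lt_card_of_eval_eq_zero' _
    (insert 0 ((roots H).image fun τ => τ⁻¹)) (fun x hx => ?_) ?_)
  · rw [eval_sub, eval_prod, sub_eq_zero]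
    simp only [eval_sub, eval_one, eval_mul, eval_C, eval_X, eval_pow]
    have ht : 0 < t := by
      rcases t with _ | t
      · have := hp.out.two_le; omega
      · omega
    rcases mem_insert.1 hx with rfl | hx
    · simp [zero_pow ht.ne']
    · obtain ⟨τ, hτ, rfl⟩ := mem_image.1 hx
      have h1 : τ ^ t = 1 := by
        obtain ⟨b, hb, rfl⟩ := mem_image.1 hτ
        rw [← pow_mul, show Nat.card H * t = p - 1 by omega]
        exact ZMod.pow_card_sub_one_eq_one (ne_of_mem_erase hb)
      rw [inv_pow, h1, inv_one, sub_self]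
      exact prod_eq_zero hτ (by rw [mul_inv_cancel₀ (ne_zero_of_mem_roots hτ), sub_self])
  · have h0 : (0 : ZMod p) ∉ (roots H).image fun τ => τ⁻¹ := fun h => by
      obtain ⟨τ, hτ, h'⟩ := mem_image.1 h
      exact ne_zero_of_mem_roots hτ (inv_eq_zero.1 h')
    rw [card_insert_of_notMem h0, card_image_of_injective _ inv_injective, card_roots hpt]
    refine Nat.lt_succ_of_le ((natDegree_sub_le _ _).trans (max_le ?_ ?_))
    · refine (natDegree_prod_le _ _).trans ((sum_le_card_nsmul _ _ 1 fun τ _ => ?_).trans ?_)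
      · refine (natDegree_sub_le _ _).trans (max_le (by simp) ?_)
        exact (natDegree_C_mul_le _ _).trans natDegree_X_le
      · rw [card_roots hpt, smul_eq_mul, mul_one]
    · exact (natDegree_sub_le _ _).trans (max_le (by simp) (natDegree_X_pow_le t))

/-- The specialisation by multiplicities. -/
theorem genAt_eq {t : ℕ} (hpt : p = Nat.card H * t + 1) {z : ZMod p} (hz : z ≠ 0) :
    ∃ n : ZMod p → ℕ, genAt H z = ∏ τ ∈ roots H, (1 - C τ * X) ^ n τ ∧
      (∀ τ ∈ roots H, ∃ b, b ≠ 0 ∧ n τ = circ H 1 b z) ∧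
      ∑ τ ∈ roots H, n τ ≤ Nat.card H ∧ Nat.card H ≤ ∑ τ ∈ roots H, n τ + 1 := by
  set g : H → ZMod p := fun l => (z - ((l : (ZMod p)ˣ) : ZMod p)) ^ Nat.card H with hg
  set S := (univ : Finset H).filter fun l => g l ≠ 0 with hS
  have hmaps : ∀ l ∈ S, g l ∈ roots H := fun l hl => by
    refine mem_image.2 ⟨z - ((l : (ZMod p)ˣ) : ZMod p), mem_erase.2 ⟨fun h0 => ?_, mem_univ _⟩, rfl⟩
    exact (mem_filter.1 hl).2 (by rw [hg]; simp only [h0]; exact zero_pow Nat.card_pos.ne')
  refine ⟨fun τ => (S.filter fun l => g l = τ).card, ?_, fun τ hτ => ?_, ?_, ?_⟩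
  · have h1 : genAt H z = ∏ l ∈ S, (1 - C (g l) * X) := by
      rw [hS, prod_filter, genAt]
      refine prod_congr rfl fun l _ => ?_
      split_ifs with h
      · rfl
      · rw [not_not] at h
        rw [show (z - ((l : (ZMod p)ˣ) : ZMod p)) ^ Nat.card H = 0 from h, C_0, zero_mul, sub_zero]
    rw [h1, ← prod_fiberwise_of_maps_to hmaps]
    refine prod_congr rfl fun τ _ => ?_
    rw [prod_congr rfl (g := fun _ => 1 - C τ * X) fun l hl => by rw [(mem_filter.1 hl).2], prod_const]
  · obtain ⟨b, hb, rfl⟩ := mem_image.1 hτ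
    have hb0 := ne_of_mem_erase hb
    refine ⟨b, hb0, congrArg card ?_⟩
    ext l
    simp only [hS, mem_filter, mem_univ, true_and, mul_one]
    rw [mem_orb_iff_pow hb0]
    exact ⟨fun h => h.2, fun h => ⟨by rw [hg]; simp only [h]; exact pow_ne_zero _ hb0, h⟩⟩
  · rw [← card_eq_sum_card_fiberwise hmaps, Nat.card_eq_fintype_card, ← Finset.card_univ]
    exact card_le_card (subset_univ _)
  · rw [← card_eq_sum_card_fiberwise hmaps, Nat.card_eq_fintype_card, ← Finset.card_univ,
      ← card_filter_add_card_filter_not (s := (univ : Finset H)) fun l => g l ≠ 0]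
    refine Nat.add_le_add_left (card_le_one.2 fun a ha b hb => ?_) _
    simp only [mem_filter, mem_univ, true_and, not_not, hg] at ha hb
    have e1 := eq_zero_of_pow_eq_zero ha
    have e2 := eq_zero_of_pow_eq_zero hb
    exact Subtype.ext (Units.ext (by linear_combination e2 - e1))

theorem natDegree_prod_pow_le {s : Finset (ZMod p)} (n : ZMod p → ℕ) :
    (∏ τ ∈ s, (1 - C τ * X : (ZMod p)[X]) ^ n τ).natDegree ≤ ∑ τ ∈ s, n τ := by
  refine (natDegree_prod_le _ _).trans (sum_le_sum fun τ _ => natDegree_pow_le.trans ?_)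
  refine (Nat.mul_le_mul_left _ ?_).trans (le_of_eq (mul_one _))
  exact (natDegree_sub_le _ _).trans (max_le (by simp) ((natDegree_C_mul_le _ _).trans natDegree_X_le))

theorem coeff_mul_pow {t K m : ℕ} (hm : m < t) (f : (ZMod p)[X]) :
    (f * (1 - X ^ t) ^ K).coeff m = f.coeff m := by
  obtain ⟨c, hc⟩ : (X : (ZMod p)[X]) ^ t ∣ (1 - X ^ t) ^ K - 1 := by
    have h := sub_dvd_pow_sub_pow (1 - (X : (ZMod p)[X]) ^ t) 1 K
    rw [one_pow, sub_sub_cancel_left, neg_dvd] at h
    exact h
  rw [show f * (1 - X ^ t) ^ K = f + X ^ t * (c * f) by linear_combination f * hc, coeff_add,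
    coeff_X_pow_mul', if_neg (by omega), add_zero]

/-- Not all the numbers are at least `K`. -/
theorem not_all_ge {t K N : ℕ} (hpt : p = Nat.card H * t + 1) (hK : 1 ≤ K)
    (he : Nat.card H = t * K + N) (hN : N + 2 ≤ t)
    (h : ∀ b z : ZMod p, b ≠ 0 → z ≠ 0 → K ≤ circ H 1 b z) : False := by
  have h0 := coeff_zero_eq (H := H) hpt (r := 1) (m := N + 1) (by omega) fun z hz => by
    obtain ⟨n, hn, hcirc, hle, -⟩ := genAt_eq hpt hz
    have hge : ∀ τ ∈ roots H, K ≤ n τ := fun τ hτ => by
      obtain ⟨b, hb, hb'⟩ := hcirc τ hτ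
      rw [hb']; exact h b z hb hz
    rw [pow_one, hn, prod_congr rfl (g := fun τ => (1 - C τ * X) ^ (n τ - K) * (1 - C τ * X) ^ K)
      fun τ hτ => by rw [← pow_add, Nat.sub_add_cancel (hge τ hτ)], prod_mul_distrib, prod_pow,
      prod_roots hpt, coeff_mul_pow (by omega)]
    refine coeff_eq_zero_of_natDegree_lt ((natDegree_prod_pow_le _).trans_lt ?_)
    rw [sum_tsub_distrib _ hge, sum_const, card_roots hpt, smul_eq_mul]
    omega
  rw [pow_one, genAt_zero, coeff_one_sub_pow] at h0
  have ht : 2 ≤ t := by omega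
  have hep : Nat.card H < p := by
    have : Nat.card H * 1 ≤ Nat.card H * t := Nat.mul_le_mul_left _ (by omega)
    omega
  have hmle : N + 1 ≤ Nat.card H := by
    have : t * 1 ≤ t * K := Nat.mul_le_mul_left _ hK
    omega
  exact mul_ne_zero (choose_ne_zero hep hmle)
    (pow_ne_zero _ (neg_ne_zero.2 (pow_ne_zero _ (neg_ne_zero.2 one_ne_zero)))) h0

/-- Not all the numbers are at most `K`. -/
theorem not_all_le {t K N : ℕ} (hpt : p = Nat.card H * t + 1)
    (he : Nat.card H + N = t * K) (hN : N + 3 ≤ t)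
    (h : ∀ b z : ZMod p, b ≠ 0 → z ≠ 0 → circ H 1 b z ≤ K) : False := by
  have he0 : 0 < Nat.card H := Nat.card_pos
  have htp : Nat.card H + t ≤ p := by
    have : (Nat.card H - 1) * (t - 1) + (Nat.card H + t) = Nat.card H * t + 1 := by
      obtain ⟨a, ha⟩ : ∃ a, Nat.card H = a + 1 := ⟨Nat.card H - 1, by omega⟩
      obtain ⟨c, rfl⟩ : ∃ c, t = c + 1 := ⟨t - 1, by omega⟩
      rw [ha, Nat.add_sub_cancel, Nat.add_sub_cancel]
      ring
    omega
  have h0 := coeff_zero_eq (H := H) hpt (r := p - 1) (m := N + 2) (by omega) fun z hz => by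
    obtain ⟨n, hn, hcirc, -, hge⟩ := genAt_eq hpt hz
    have hle : ∀ τ ∈ roots H, n τ ≤ K := fun τ hτ => by
      obtain ⟨b, hb, hb'⟩ := hcirc τ hτ
      rw [hb']; exact h b z hb hz
    set D := ∏ τ ∈ roots H, (1 - C τ * X : (ZMod p)[X]) ^ (K - n τ) with hD
    have hPD : genAt H z * D = (1 - X ^ t) ^ K := by
      rw [hn, hD, ← prod_mul_distrib, ← prod_roots hpt, ← prod_pow]
      exact prod_congr rfl fun τ hτ => by rw [← pow_add, Nat.add_sub_cancel' (hle τ hτ)]
    have hDdeg : D.natDegree ≤ N + 1 := by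
      refine (natDegree_prod_pow_le _).trans ?_
      rw [sum_tsub_distrib _ hle, sum_const, card_roots hpt, smul_eq_mul]
      omega
    have hp1 : X ^ p ∣ genAt H z ^ p - 1 := by
      have hX : X ∣ genAt H z - 1 := by
        rw [X_dvd_iff, coeff_sub, coeff_one_zero, genAt, coeff_zero_prod]
        simp
      obtain ⟨c, hc⟩ := hX
      refine ⟨c ^ p, ?_⟩
      rw [← mul_pow, ← hc, sub_pow_char, one_pow]
    obtain ⟨c, hc⟩ := hp1
    have heq : genAt H z ^ (p - 1) * (1 - X ^ t) ^ K = D + X ^ p * (c * D) := by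
      have hpow : genAt H z ^ (p - 1) * genAt H z = genAt H z ^ p := by
        rw [← pow_succ, Nat.sub_add_cancel hp.out.one_le]
      rw [← hPD, ← mul_assoc, hpow]
      linear_combination D * hc
    rw [← coeff_mul_pow (t := t) (K := K) (by omega) (genAt H z ^ (p - 1)), heq, coeff_add,
      coeff_X_pow_mul', if_neg (by omega), add_zero]
    exact coeff_eq_zero_of_natDegree_lt (by omega)
  rw [genAt_zero, ← pow_mul, coeff_one_sub_pow] at h0
  refine mul_ne_zero ?_ (pow_ne_zero _ (neg_ne_zero.2 (pow_ne_zero _ (neg_ne_zero.2 one_ne_zero)))) h0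
  set e := Nat.card H
  have hn1 : e * (p - 1) = (p - e) + p * (e - 1) := by
    obtain ⟨q, hq⟩ : ∃ q, p = e + q := ⟨p - e, by omega⟩
    obtain ⟨a, ha⟩ : ∃ a, e = a + 1 := ⟨e - 1, by omega⟩
    rw [hq, ha, show a + 1 + q - 1 = a + q by omega, show a + 1 + q - (a + 1) = q by omega,
      Nat.add_sub_cancel]
    ring
  have hlu : (e * (p - 1)).choose (N + 2) ≡ ((e * (p - 1)) % p).choose ((N + 2) % p) *
      ((e * (p - 1)) / p).choose ((N + 2) / p) [MOD p] := Choose.choose_modEq_choose_mod_mul_choose_div_nat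
  have hpe : p - e < p := by omega
  rw [hn1, Nat.add_mul_mod_self_left, Nat.mod_eq_of_lt hpe, Nat.mod_eq_of_lt (by omega : N + 2 < p),
    Nat.div_eq_of_lt (by omega : N + 2 < p), Nat.choose_zero_right, mul_one, ← hn1] at hlu
  rw [(ZMod.natCast_eq_natCast_iff _ _ _).2 hlu]
  exact choose_ne_zero hpe (by omega)

end CfsgLib.OrderDegrees.Upper
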