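import Cfsg.Agent.Lib.SmallGroups.QuasiSimpleFamilies
import Cfsg.Agent.Lib.OrderDegrees.UpperPoly

/-!
# Products of two exceptional characters of degree `p - e`

The bounds on `T (t K - e)` from the fixed vectors, the families of the targets, and the
contradiction from the two squares when the target has the negative sign and `t ∣ e + 1`.
-/

set_option autoImplicit false
set_option linter.style.haveILetI false
set_option linter.unusedSectionVars false

namespace CfsgLib.OrderDegrees.Upper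

open Cfsg CfsgLib.CharTheory CfsgLib.Blocks CfsgLib.DefectOne CfsgLib.SmallGroups
open CfsgLib.SmallGroups.SmallDegree CfsgLib.SmallGroups.QuasiSimple Finset

open scoped ComplexConjugate Classical

variable {G : Type*} [Group G] [Fintype G] {p : ℕ} [hp : Fact p.Prime] {S : Sect G p}

theorem isProd_mul {φ : S.V →* ℂˣ} (X : Fam S φ 1)
    (hd : (charDegree (X.x 1 : G → ℂ) : ℤ) = (p : ℤ) - rowE S (trivIrr S.V)) :
    IsProd S (φ * φ) fun a b g => (X.x a : G → ℂ) g * (X.x b : G → ℂ) g := by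
  have hirr : ∀ a, IsCharacter G (X.x a : G → ℂ) := fun a => IsIrrCharacter.isCharacter (X.x a).2
  have hdc : ∀ a, (X.x a : G → ℂ) 1 = (p : ℂ) - rowE S (trivIrr S.V) := fun a => by
    rw [X.reg a 1 1 (by rw [orderOf_one]; exact hp.out.not_dvd_one), ← charDegree_cast,
      ← Int.cast_natCast, hd]
    push_cast
    ring
  exact ⟨fun a b => isCharacter_mul (hirr a) (hirr b),
    fun a b g v => by
      simp only [X.central a g v, X.central b g v, MonoidHom.mul_apply, Units.val_mul]; ring,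
    fun a b a' b' g hg => by simp only [X.reg a a' g hg, X.reg b b' g hg],
    fun a b => by simp only [hdc]; ring,
    fun a b ha hb i hi => by simp only [X.val a ha i hi, X.val b hb i hi]; push_cast; ring⟩

theorem isProd_mul_conj {φ : S.V →* ℂˣ} (X : Fam S φ 1)
    (hd : (charDegree (X.x 1 : G → ℂ) : ℤ) = (p : ℤ) - rowE S (trivIrr S.V)) :
    IsProd S (1 : S.V →* ℂˣ) fun a b g => (X.x a : G → ℂ) g * conj ((X.x (-b) : G → ℂ) g) := by
  have hirr : ∀ a, IsCharacter G (X.x a : G → ℂ) := fun a => IsIrrCharacter.isCharacter (X.x a).2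
  have hdc : ∀ a, (X.x a : G → ℂ) 1 = (p : ℂ) - rowE S (trivIrr S.V) := fun a => by
    rw [X.reg a 1 1 (by rw [orderOf_one]; exact hp.out.not_dvd_one), ← charDegree_cast,
      ← Int.cast_natCast, hd]
    push_cast
    ring
  exact ⟨fun a b => isCharacter_mul (hirr a) (isCharacter_conj (hirr (-b))),
    fun a b g v => by
      simp only [X.central a g v, X.central (-b) g v, map_mul, MonoidHom.one_apply, Units.val_one]
      linear_combination ((X.x a : G → ℂ) g * conj ((X.x (-b) : G → ℂ) g)) * mul_conj_linear φ v,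
    fun a b a' b' g hg => by simp only [X.reg a a' g hg, X.reg (-b) (-b') g hg],
    fun a b => by simp only [hdc, map_sub, Complex.conj_natCast]; ring,
    fun a b ha hb i hi => by
      simp only [X.val a ha i hi, X.val (-b) (neg_ne_zero.2 hb) i hi, map_mul, map_neg, map_intCast,
        conj_Th, neg_neg]
      push_cast
      ring⟩

/-- In a group with a faithful character of odd degree `< p - 1` the centre has odd order. -/
theorem odd_center_of_odd {ψ : G → ℂ} (h : Hyp S ψ) (hodd : Odd (charDegree ψ)) :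
    Odd (Nat.card (Subgroup.center G)) := by
  by_contra hev
  rw [Nat.not_odd_iff_even, even_iff_two_dvd] at hev
  haveI : Fact (Nat.Prime 2) := ⟨Nat.prime_two⟩
  obtain ⟨z, hz⟩ := exists_prime_orderOf_dvd_card' (G := Subgroup.center G) 2 hev
  obtain ⟨n, ρ, hρ⟩ := IsIrrCharacter.isCharacter h.irr
  obtain ⟨c, hc⟩ := h.exists_scalar ρ hρ z.2
  have hn : charDegree ψ = n := by
    rw [charDegree, ← hρ, Representation.char_one, Module.finrank_fin_fun, Complex.natCast_re,
      Nat.floor_natCast]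
  have hone : ρ (1 : G) = (1 : ℂ) • LinearMap.id := by rw [map_one, one_smul]; rfl
  -- the determinant
  let d : G →* ℂˣ := ((LinearMap.det : Module.End ℂ (Fin n → ℂ) →* ℂ).comp ρ).toHomUnits
  have hd1 : d = 1 := by
    have hle : commutator G ≤ d.ker := Abelianization.commutator_subset_ker d
    rw [h.perfect] at hle
    exact MonoidHom.ext fun g => MonoidHom.mem_ker.1 (hle (Subgroup.mem_top g))
  have hdz : LinearMap.det (ρ (z : G)) = 1 := by
    have := congrArg (fun f : G →* ℂˣ => (f (z : G) : ℂ)) hd1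
    simpa [d] using this
  rw [hc, LinearMap.det_smul, LinearMap.det_id, mul_one, Module.finrank_fin_fun] at hdz
  have hz2 : (z : G) * z = 1 := by
    have h2 : z * z = 1 := by rw [← sq, ← hz]; exact pow_orderOf_eq_one z
    exact congrArg Subtype.val h2
  have hn0 : n ≠ 0 := fun h0 => by rw [hn, h0] at hodd; exact Nat.not_odd_zero hodd
  haveI : NeZero n := ⟨hn0⟩
  have hcc : c * c = 1 := by
    have h2 : ρ ((z : G) * z) = (c * c) • (LinearMap.id : (Fin n → ℂ) →ₗ[ℂ] _) := by
      rw [map_mul, hc]; ext v; simp [mul_smul]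
    rw [hz2, hone] at h2
    have h3 := congrFun (LinearMap.congr_fun h2 (fun _ => 1)) 0
    simpa using h3.symm
  rw [hn] at hodd
  rcases mul_self_eq_one_iff.1 hcc with hc1 | hc1
  · have : (z : G) = 1 := h.faith _ (by
      rw [← hρ]
      show LinearMap.trace ℂ _ (ρ _) = LinearMap.trace ℂ _ (ρ 1)
      rw [hc, hone, hc1])
    rw [show z = 1 from Subtype.ext this, orderOf_one] at hz
    omega
  · rw [hc1, hodd.neg_one_pow] at hdz
    norm_num at hdz

variable (hG : ExactPrime G p) (hc : ∀ (v : S.V) (x : G), (v : G) * x = x * (v : G))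
  {E : Subgroup G} (hE : Comp S E)

include hG hc hE

theorem deg_spec {φ : S.V →* ℂˣ} {T : ℤ} (X : Fam S φ T) : ∃ L : ℕ,
    (charDegree (X.x 1 : G → ℂ) : ℤ) = (p : ℤ) * L - T * rowE S (trivIrr S.V) ∧
      pm S (X.x 1 : G → ℂ) 0 = L := by
  haveI : Finite (E →* ℂˣ) := by
    letI : CommGroup E := { (inferInstance : Group E) with
      mul_comm := fun a b => Subtype.ext (hE.comm a a.2 b b.2) }
    infer_instance
  haveI : Fintype (E →* ℂˣ) := Fintype.ofFinite _
  choose w hw using hE.exists_wt_nat hG S hc (IsIrrCharacter.isCharacter (X.x 1).2)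
  have hsum : pm S (X.x 1 : G → ℂ) 0 = ((∑ β, w β : ℕ) : ℂ) := by
    push_cast
    rw [sum_congr rfl fun β _ => (hw β).symm, hE.sum_wt hG S hc]
  refine ⟨∑ β, w β, Int.cast_injective (α := ℂ) ?_, hsum⟩
  push_cast
  push_cast at hsum
  rw [← hsum, X.pm_eq hG S one_ne_zero, if_neg fun h' => ne_zero_of_mem_orb one_ne_zero h' rfl, sub_zero,
    mul_div_cancel₀ _ (Nat.cast_ne_zero.2 hp.out.ne_zero : (p : ℂ) ≠ 0)]
  ring

/-- The bounds on one target of a product of two members. -/
theorem prod_bounds {φ : S.V →* ℂˣ} {f : ZMod p → ZMod p → G → ℂ} (hf : IsProd S φ f) {T : ℤ}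
    (X : Fam S φ T) {L : ℕ}
    (hd : (charDegree (X.x 1 : G → ℂ) : ℤ) = (p : ℤ) * L - T * rowE S (trivIrr S.V)) (hL : 1 ≤ L)
    {t : ℕ} (hpt : p = rowE S (trivIrr S.V) * t + 1) (ht : 3 ≤ t)
    {γ : E →* ℂˣ} (hγ : ∀ v : S.V, γ ⟨v, hE.le v.2⟩ = φ v)
    (hfγ : ∀ b : ZMod p, b ≠ 0 → ∀ y : E, (y : G) ∉ S.V → f 1 b y = (γ y : ℂ)) :
    ∃ K : ℤ, (∀ b z : ZMod p, b ≠ 0 → z ≠ 0 →
        0 ≤ T * (K - circ (eGroup S (trivIrr S.V)) 1 b z)) ∧
      (∀ a b z : ZMod p, a ≠ 0 → b ≠ 0 → z ≠ 0 → ∃ m : ℕ,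
        classInner (f a b) (X.x z : G → ℂ) = m ∧
          T * (m : ℤ) + circ (eGroup S (trivIrr S.V)) a b z = K) ∧
      0 ≤ T * ((t : ℤ) * K - rowE S (trivIrr S.V)) ∧
      T * ((t : ℤ) * K - rowE S (trivIrr S.V)) ≤ (t : ℤ) - 1 ∧
      (2 ≤ L → T * ((t : ℤ) * K - rowE S (trivIrr S.V)) ≤ (t : ℤ) - 2) := by
  set H := eGroup S (trivIrr S.V) with hH
  set e := rowE S (trivIrr S.V) with he
  have h1 : (1 : ZMod p) ≠ 0 := one_ne_zero
  choose n hn using fun a b z => IsCharacter.exists_classInner_eq_nat (hf.char a b) (X.x z)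
  obtain ⟨K, hK, hrow⟩ := hf.exists_K hG S hc X hpt hn
  obtain ⟨b₀, hb₀, hb₀'⟩ : ∃ b : ZMod p, b ≠ 0 ∧ -(1 : ZMod p) ∉ orb H b := by
    by_contra h
    push Not at h
    have hsub : (univ : Finset (ZMod p)).erase 0 ⊆ orb H (-1) := fun b hb =>
      mem_orb_symm (h b (ne_of_mem_erase hb))
    have h5 := card_le_card hsub
    rw [card_orb (neg_ne_zero.2 h1), card_ne_zero_univ] at h5
    have : e * 3 ≤ e * t := Nat.mul_le_mul_left e ht
    have : 0 < e := rowE_pos hG S _
    have : Nat.card H = e := rfl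
    omega
  haveI : Finite (E →* ℂˣ) := by
    letI : CommGroup E := { (inferInstance : Group E) with
      mul_comm := fun a b => Subtype.ext (hE.comm a a.2 b b.2) }
    infer_instance
  haveI : Fintype (E →* ℂˣ) := Fintype.ofFinite _
  choose ω hω using hE.exists_wt_nat hG S hc (IsIrrCharacter.isCharacter (X.x 1).2)
  have hp0 : (p : ℂ) ≠ 0 := Nat.cast_ne_zero.2 hp.out.ne_zero
  have hωsum : ∑ β : E →* ℂˣ, ω β = L := by
    apply Nat.cast_injective (R := ℂ)
    push_cast
    rw [sum_congr rfl fun β _ => (hω β).symm, hE.sum_wt hG S hc,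
      X.pm_eq hG S h1, if_neg fun h => ne_zero_of_mem_orb h1 h rfl, sub_zero,
      ← Int.cast_natCast (charDegree _), hd, ← he]
    push_cast
    field_simp
    ring
  set N := T * ((t : ℤ) * K - e) with hN
  have hfix : ∀ β, ω β ≠ 0 → 0 ≤ N ∧ N * ω β ≤ (t : ℤ) - 2 + if β = γ then 1 else 0 := fun β hβ =>
    fix_bound hG S hc hE hf X hpt hn hrow hγ h1 hb₀ hb₀' (hfγ b₀ hb₀) (hω β) hβ
  obtain ⟨β₀, -, hβ₀⟩ : ∃ β ∈ (univ : Finset (E →* ℂˣ)), 0 < ω β :=
    sum_pos_iff.1 (by rw [hωsum]; omega)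
  obtain ⟨hN0, hN1⟩ := hfix β₀ hβ₀.ne'
  have hN1' : N * 1 ≤ N * (ω β₀ : ℤ) := mul_le_mul_of_nonneg_left (by exact_mod_cast hβ₀) hN0
  refine ⟨K, fun b z hb hz => ?_, fun a b z ha hb hz => ⟨n a b z, hn a b z, hK a b z ha hb hz⟩, hN0,
    by split_ifs at hN1 <;> linarith, fun h2L => ?_⟩
  · rw [← hK 1 b z h1 hb hz, add_sub_cancel_right, ← mul_assoc, X.T_sq, one_mul]
    exact Int.natCast_nonneg _
  · by_contra hgt
    push Not at hgt
    have hzero : ∀ β : E →* ℂˣ, β ≠ γ → ω β = 0 := fun β hβ => by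
      by_contra h0
      obtain ⟨-, h2⟩ := hfix β h0
      rw [if_neg hβ, add_zero] at h2
      have : N * 1 ≤ N * (ω β : ℤ) :=
        mul_le_mul_of_nonneg_left (by exact_mod_cast Nat.pos_of_ne_zero h0) hN0
      linarith
    have hL' : ω γ = L := by
      rw [← hωsum, sum_eq_single γ (fun β _ hβ => hzero β hβ) (fun h' => absurd (mem_univ _) h')]
    obtain ⟨-, h2⟩ := hfix γ (by omega)
    rw [if_pos rfl, hL'] at h2
    have : N * 2 ≤ N * (L : ℤ) := mul_le_mul_of_nonneg_left (by exact_mod_cast h2L) hN0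
    linarith

/-- An element of `E` outside `S.V` has its square outside, when `e` is odd. -/
theorem sq_notMem (he : ¬ 2 ∣ rowE S (trivIrr S.V)) {y : E} (hy : (y : G) ∉ S.V) :
    (y : G) * y ∉ S.V := by
  intro hyy
  obtain ⟨l, hl, hl1⟩ := hE.exists_unit hG S hc y
  have h1 : (y : G) * y * S.u * ((y : G) * y)⁻¹ = S.u ^ (((l * l : (ZMod p)ˣ)) : ZMod p).val := by
    rw [Units.val_mul, ← S.pow_val_mul, pow_mul, ← hl, conj_pow, ← hl, mul_inv_rev]
    simp only [mul_assoc]
  rw [(mem_V_iff hG S hc (hE.reg _ (E.mul_mem y.2 y.2))).1 hyy] at h1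
  have h2 : l * l = 1 := by
    refine Units.ext (pow_val_inj hG S ?_)
    rw [← h1, Units.val_one, ZMod.val_one, pow_one]
  rcases mul_self_eq_one_iff.1 (show (l : ZMod p) * l = 1 by rw [← Units.val_mul, h2, Units.val_one]) with h | h
  · exact hy (hl1.1 (Units.ext h))
  · have hlm : l = -1 := Units.ext (by rw [h, Units.val_neg, Units.val_one])
    have hlH : l ∈ eGroup S (trivIrr S.V) := (mem_eGroup_iff hG S hc).2 ⟨⟨y, hE.norm y.2⟩, hl⟩
    have hp2 : p ≠ 2 := by
      rintro rfl
      exact hy (hl1.1 (Units.ext (h.trans (ZMod.neg_eq_self_mod_two 1))))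
    have ho : orderOf (⟨l, hlH⟩ : eGroup S (trivIrr S.V)) = 2 := by
      rw [Subgroup.orderOf_mk, hlm, orderOf_eq_prime_iff]
      refine ⟨by simp, fun h' => ?_⟩
      have h3 : (-1 : ZMod p) = 1 := by simpa using congrArg Units.val h'
      have h4 : ((2 : ℕ) : ZMod p) = 0 := by
        push_cast
        linear_combination -h3
      rw [ZMod.natCast_eq_zero_iff] at h4
      exact hp2 ((Nat.prime_dvd_prime_iff_eq hp.out Nat.prime_two).1 h4)
    exact he (ho ▸ orderOf_dvd_natCard _)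

set_option maxHeartbeats 1000000 in
/-- The two squares rule out the negative sign with `t ∣ e + 1`. -/
theorem false_of_squares {φ : S.V →* ℂˣ} (X₁ : Fam S φ 1) (X₂ : Fam S (φ * φ) (-1))
    (hd₁ : (charDegree (X₁.x 1 : G → ℂ) : ℤ) = (p : ℤ) - rowE S (trivIrr S.V))
    {L : ℕ} (hd₂ : (charDegree (X₂.x 1 : G → ℂ) : ℤ) = (p : ℤ) * L + rowE S (trivIrr S.V)) (hL : 1 ≤ L)
    {t : ℕ} (hpt : p = rowE S (trivIrr S.V) * t + 1) (ht : 3 ≤ t) (he2 : ¬ 2 ∣ rowE S (trivIrr S.V))
    {K : ℤ} {n : ℕ}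
    (hn : classInner (fun g => (X₁.x 1 : G → ℂ) g * (X₁.x 1 : G → ℂ) g) (X₂.x 1 : G → ℂ) = n)
    (hK : -(n : ℤ) + circ (eGroup S (trivIrr S.V)) 1 1 1 = K)
    (he : (rowE S (trivIrr S.V) : ℤ) = t * K + t - 1) : False := by
  set H := eGroup S (trivIrr S.V) with hH
  set e := rowE S (trivIrr S.V) with hedef
  have hcardH : Nat.card H = e := rfl
  set nzs := (univ : Finset (ZMod p)).erase 0 with hnzs
  have h1 : (1 : ZMod p) ≠ 0 := one_ne_zero
  have hp2 : p ≠ 2 := by
    have : 1 * 3 ≤ e * t := Nat.mul_le_mul (rowE_pos hG S _) ht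
    omega
  have h2 : (2 : ZMod p) ≠ 0 := fun h => by
    have h' : ((2 : ℕ) : ZMod p) = 0 := by exact_mod_cast h
    rw [ZMod.natCast_eq_zero_iff] at h'
    exact hp2 ((Nat.prime_dvd_prime_iff_eq hp.out Nat.prime_two).1 h')
  have h21 : (2 : ZMod p) * 1 ≠ 0 := mul_ne_zero h2 h1
  have hneg : -(1 : ZMod p) ∉ orb H 1 := fun h => by
    obtain ⟨m, hm⟩ := mem_orb.1 h
    rw [mul_one] at hm
    have hm1 : (m : (ZMod p)ˣ) = -1 := Units.ext (by rw [hm, Units.val_neg, Units.val_one])
    refine he2 ((?_ : 2 = orderOf m) ▸ orderOf_dvd_natCard m)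
    rw [← Subgroup.orderOf_coe, hm1]
    refine (orderOf_eq_prime_iff.2 ⟨by simp, fun h' => h2 ?_⟩).symm
    have h3 : (-1 : ZMod p) = 1 := by simpa using congrArg Units.val h'
    linear_combination -h3
  set ψ : G → ℂ := (X₁.x 1 : G → ℂ) with hψ
  have hψc : IsCharacter G ψ := IsIrrCharacter.isCharacter (X₁.x 1).2
  have hψd : ψ 1 = (p : ℂ) - e := by
    rw [hψ, ← charDegree_cast, ← Int.cast_natCast, hd₁]
    push_cast
    ring
  have hp0 : (p : ℂ) ≠ 0 := Nat.cast_ne_zero.2 hp.out.ne_zero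
  have hpm1 : pm S ψ 0 = 1 := by
    rw [hψ, X₁.pm_eq hG S h1, if_neg fun h => ne_zero_of_mem_orb h1 h rfl, sub_zero,
      ← Int.cast_natCast (charDegree _), hd₁]
    push_cast
    rw [← hedef]
    field_simp
    ring
  obtain ⟨α, hα, hαv⟩ := hE.exists_alpha hG S hc hψc (X₁.central 1) hpm1
  haveI : Finite (E →* ℂˣ) := by
    letI : CommGroup E := { (inferInstance : Group E) with
      mul_comm := fun a b => Subtype.ext (hE.comm a a.2 b b.2) }
    infer_instance
  haveI : Fintype (E →* ℂˣ) := Fintype.ofFinite _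
  choose ω hω using hE.exists_wt_nat hG S hc (IsIrrCharacter.isCharacter (X₂.x 1).2)
  obtain ⟨β, hωβ⟩ : ∃ β, ω β ≠ 0 := by
    by_contra h
    push Not at h
    have hs := hE.sum_wt hG S hc (X₂.x 1 : G → ℂ)
    simp only [hω, h, Nat.cast_zero, sum_const_zero] at hs
    rw [X₂.pm_eq hG S h1, if_neg fun h => ne_zero_of_mem_orb h1 h rfl, sub_zero,
      ← Int.cast_natCast (charDegree _), hd₂] at hs
    push_cast at hs
    rw [← hedef] at hs
    field_simp at hs
    ring_nf at hs
    have hL0 : (L : ℂ) ≠ 0 := Nat.cast_ne_zero.2 (by omega)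
    exact mul_ne_zero hp0 hL0 (by linear_combination -hs)
  have hβφ : ∀ v : S.V, β ⟨v, hE.le v.2⟩ = (φ * φ) v := fun v => by
    by_contra h
    have := hE.wt_eq_zero hG S hc (X₂.central 1) h
    rw [hω] at this
    exact hωβ (by exact_mod_cast this)
  set γ : E →* ℂˣ := α * α with hγdef
  have hγ : ∀ v : S.V, γ ⟨v, hE.le v.2⟩ = (φ * φ) v := fun v => by
    simp only [hγdef, MonoidHom.mul_apply, hα]
  -- the two squares
  have hsum : ∀ σ : ℤ, σ = 1 ∨ σ = -1 →
      IsCharacter G (fun g => (ψ g ^ 2 + (σ : ℂ) * ψ (g * g)) / 2) →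
      ∃ (m : ZMod p → ℕ) (C : ℤ),
        (∀ z, classInner (fun g => (ψ g ^ 2 + (σ : ℂ) * ψ (g * g)) / 2) (X₂.x z : G → ℂ) = m z) ∧
        2 * (m 1 : ℤ) = (circ H 1 1 1 : ℤ) - (σ * if (1 : ZMod p) ∈ orb H (2 * 1) then 1 else 0) + C ∧
        (e : ℤ) - σ + t * C ≤ if σ = 1 then (t : ℤ) else (t : ℤ) - 2 := by
    intro σ hσ hc'
    set f := fun g => (ψ g ^ 2 + (σ : ℂ) * ψ (g * g)) / 2 with hf
    have hfφ : HasCentral S (φ * φ) f := fun g v => by
      have e1 : g * (v : G) * (g * (v : G)) = g * g * ((v * v : S.V) : G) := by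
        rw [Subgroup.coe_mul, mul_assoc g, ← mul_assoc (v : G) g, hc v g, mul_assoc g (v : G), ← mul_assoc g g]
      simp only [hf, e1, hψ, X₁.central 1 g v, X₁.central 1 (g * g) (v * v), map_mul, MonoidHom.mul_apply,
        Units.val_mul]
      ring
    have hfcl : IsClassFunction G f := IsCharacter.isClassFunction hc'
    have hA : ∀ z, pm S (fun g => ψ (g * g)) z = 1 - if z ∈ orb H (2 * 1) then (1 : ℂ) else 0 := fun z => by
      rw [pm_single hG S (H := H) h21 (c := -1) (fun k hk => ?_) z, mul_one, hψd, hcardH]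
      · field_simp
        split_ifs <;> ring
      · show ψ (S.u ^ k.val * S.u ^ k.val) = _
        have hpw : S.u ^ k.val * S.u ^ k.val = S.u ^ (2 * k).val := by
          rw [← pow_add, pow_eq_pow_iff_modEq, S.ord, ← ZMod.natCast_eq_natCast_iff, Nat.cast_add,
            ZMod.natCast_zmod_val, ZMod.natCast_zmod_val, two_mul]
        rw [hpw, hψ, X₁.val 1 h1 _ (mul_ne_zero h2 hk), ← hH, Th_two_mul]
        push_cast
        ring
    have hsq : ∀ z, pm S (fun g => ψ g ^ 2) z = (p : ℂ) - 2 * e + (circ H 1 1 z : ℂ) := fun z => by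
      rw [pm_double hG S (H := H) h1 (a := 1) (fun k hk => ?_) z, hψd, hcardH]
      · field_simp
        ring
      · show ψ (S.u ^ k.val) ^ 2 = _
        rw [hψ, X₁.val 1 h1 k hk, ← hH]
        push_cast
        ring
    have hpm : ∀ z, pm S f z = ((p : ℂ) - 2 * e + (circ H 1 1 z : ℂ) +
        (σ : ℂ) * (1 - if z ∈ orb H (2 * 1) then (1 : ℂ) else 0)) / 2 := fun z => by
      rw [← hA, ← hsq]
      simp only [pm, hf, mul_sum, ← sum_add_distrib, sum_div]
      exact sum_congr rfl fun k _ => by ring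
    choose m hm using fun z => IsCharacter.exists_classInner_eq_nat hc' (X₂.x z)
    set C : ℤ := 2 * m 1 - circ H 1 1 1 + σ * if (1 : ZMod p) ∈ orb H (2 * 1) then 1 else 0 with hC
    have hmz : ∀ z : ZMod p, z ≠ 0 →
        2 * (m z : ℤ) = (circ H 1 1 z : ℤ) - (σ * if z ∈ orb H (2 * 1) then 1 else 0) + C := by
      intro z hz
      have h := X₂.inner_sub' hG S hc hfcl hfφ hz h1
      rw [hm, hm, hpm, hpm] at h
      rw [hC]
      apply Int.cast_injective (α := ℂ)
      push_cast at h ⊢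
      linear_combination 2 * h
    refine ⟨m, C, hm, hmz 1 h1, ?_⟩
    -- the total
    have htot : 2 * ((∑ z ∈ nzs, m z : ℕ) : ℤ) = (e : ℤ) * ((e : ℤ) - σ + t * C) := by
      push_cast
      rw [mul_sum, sum_congr rfl fun z hz => hmz z (ne_of_mem_erase hz), sum_add_distrib, sum_sub_distrib,
        ← mul_sum, sum_const, nsmul_eq_mul]
      have h := sum_circ (H := H) h1 h1
      rw [if_neg hneg, add_zero, hcardH] at h
      have h' : (∑ z ∈ nzs, (circ H 1 1 z : ℤ)) = (e : ℤ) * e := by exact_mod_cast h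
      have hB : ∑ z ∈ nzs, (if z ∈ orb H (2 * 1) then (1 : ℤ) else 0) = (e : ℤ) := by
        rw [sum_boole]
        have : nzs.filter (fun z => z ∈ orb H (2 * 1)) = orb H (2 * 1) := by
          ext z
          simp only [hnzs, mem_filter, mem_erase, mem_univ, and_true]
          exact ⟨fun h => h.2, fun h => ⟨ne_zero_of_mem_orb h21 h, h⟩⟩
        rw [this, card_orb h21, hcardH]
      rw [h', hB, card_ne_zero_univ, show p - 1 = e * t by omega]
      push_cast
      ring
    -- the fixed vectors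
    obtain ⟨W, hW⟩ := hE.exists_wt_nat hG S hc hc' β
    have hpm0 : pm S f 0 = ((p : ℂ) - 2 * e + σ) / 2 := by
      rw [hpm, circ_zero_right, if_neg hneg, if_neg fun h' => ne_zero_of_mem_orb h21 h' rfl]
      push_cast
      ring
    have hWle : (2 * W : ℤ) ≤ if σ = 1 then (t : ℤ) else (t : ℤ) - 2 := by
      have he0 : (e : ℂ) ≠ 0 := Nat.cast_ne_zero.2 (rowE_pos hG S _).ne'
      have hpe : (p : ℂ) = e * t + 1 := by exact_mod_cast congrArg (Nat.cast (R := ℂ)) hpt
      have hval : ∀ y : E, (y : G) ∉ S.V → f y = (1 + (σ : ℂ)) / 2 * (γ y : ℂ) := fun y hy => by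
        have hyy := sq_notMem hG hc hE he2 hy
        show (ψ (y : G) ^ 2 + (σ : ℂ) * ψ ((y : G) * y)) / 2 = _
        rw [hαv y hy, ← Subgroup.coe_mul, hαv (y * y) hyy, map_mul, hγdef, MonoidHom.mul_apply,
          Units.val_mul]
        ring
      rcases hσ with rfl | rfl
      · have h := hE.wt_eq hG S hc hfcl hfφ hβφ hγ (fun y hy => by rw [hval y hy]; push_cast; ring)
        rw [hW, hpm0, ← hedef] at h
        rw [if_pos rfl]
        push_cast at h
        by_cases hb : β = γ
        · rw [if_pos hb] at h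
          have : (2 * W : ℤ) = t := by
            apply Int.cast_injective (α := ℂ)
            push_cast
            refine mul_left_cancel₀ he0 ?_
            linear_combination 2 * h + hpe
          omega
        · rw [if_neg hb] at h
          have : (2 * W : ℤ) = (t : ℤ) - 2 := by
            apply Int.cast_injective (α := ℂ)
            push_cast
            refine mul_left_cancel₀ he0 ?_
            linear_combination 2 * h + hpe
          omega
      · rw [if_neg (by norm_num)]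
        refine le_of_eq (Int.cast_injective (α := ℂ) ?_)
        have hfv : ∀ y : E, fixc S E f y * conj (β y : ℂ) = if (y : G) ∈ S.V then pm S f 0 else 0 := by
          intro y
          rw [hE.fixc_apply hG S hc hfcl hfφ]
          by_cases hy : (y : G) ∈ S.V
          · rw [dif_pos hy, if_pos hy]
            have e1 : β y = (φ * φ) ⟨y, hy⟩ := hβφ ⟨y, hy⟩
            rw [e1]
            linear_combination pm S f 0 * mul_conj_linear (φ * φ) ⟨y, hy⟩
          · rw [dif_neg hy, if_neg hy, hval y hy]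
            push_cast
            ring
        have hwt : (W : ℂ) = pm S f 0 / e := by
          rw [← hW, wt, classInner, sum_congr rfl fun y _ => hfv y, ← sum_filter, sum_const,
            card_filter_mem hG S hc hE.le, nsmul_eq_mul, hE.card, ← hedef]
          have hV : (Nat.card S.V : ℂ) ≠ 0 := Nat.cast_ne_zero.2 Nat.card_pos.ne'
          push_cast
          field_simp
        push_cast
        rw [hwt, hpm0, hpe]
        push_cast
        field_simp
        ring
    have hle := X₂.sum_mult_le hG S hc hE hc' (fun z _ => hm z) (hω β) hW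
    have hle' : ((∑ z ∈ nzs, m z : ℕ) : ℤ) * 1 ≤ (e : ℤ) * W := by
      have h3 : (∑ z ∈ nzs, m z) * 1 ≤ e * W :=
        (Nat.mul_le_mul_left _ (Nat.pos_of_ne_zero hωβ)).trans hle
      exact_mod_cast h3
    have he0 : (0 : ℤ) < e := by exact_mod_cast rowE_pos hG S _
    refine le_trans (le_of_mul_le_mul_left ?_ he0) hWle
    rw [← htot]
    linarith
  obtain ⟨ma, Ca, hma, ha1, ha⟩ := hsum (-1) (Or.inr rfl)
    (by simpa [sub_eq_add_neg] using ExteriorSquare.isCharacter_extSquare hψc)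
  obtain ⟨ms, Cs, hms, hs1, hs⟩ := hsum 1 (Or.inl rfl)
    (by simpa using SymmetricSquare.isCharacter_symSquare hψc)
  have hns : (n : ℤ) = ma 1 + ms 1 := by
    have h3 : (n : ℂ) = (ma 1 : ℂ) + ms 1 := by
      rw [← hn, ← hma, ← hms, ← classInner_add_left]
      refine congrArg (fun f => classInner f (X₂.x 1 : G → ℂ)) (funext fun g => ?_)
      simp only [Pi.add_apply, Int.cast_neg, Int.cast_one]
      ring
    exact_mod_cast h3
  rw [if_neg (show ¬ (-1 : ℤ) = 1 by norm_num)] at ha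
  rw [if_pos rfl] at hs
  have htZ : (3 : ℤ) ≤ t := by exact_mod_cast ht
  have hx : K + 1 + Ca ≤ 0 := by
    by_contra hcon
    push Not at hcon
    have : (t : ℤ) * 1 ≤ t * (K + 1 + Ca) := mul_le_mul_of_nonneg_left (by omega) (by linarith)
    linarith
  have hy : K + 1 + Cs ≤ 1 := by
    by_contra hcon
    push Not at hcon
    have : (t : ℤ) * 2 ≤ t * (K + 1 + Cs) := mul_le_mul_of_nonneg_left (by omega) (by linarith)
    linarith
  split_ifs at ha1 hs1 <;> omega

end CfsgLib.OrderDegrees.Upper
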